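import Cfsg.Agent.H701.ZerosCols
import Cfsg.Agent.H504.ZerosCyc
import Cfsg.Agent.H504.ZerosSt
import Cfsg.Agent.H748.PalfyClifford
import Cfsg.Agent.H671.Tensor
import Cfsg.Agent.H761.LieExt
import Cfsg.Agent.H504.ZerosLie
import Cfsg.Agent.Blocks.Over
import Cfsg.Agent.FastGrp
import Cfsg.Agent.Prune
set_option linter.all false
prune_inst 0x7ffffffdffaaffffffff7fbffff7fffff7ef6fffeffffdfbffedffbfffffeb77eff7fbb7ffffb5fffff7f3fe3efc7bdbfbfffeffeffffc7ffffffffc7fffffdfffffff9d7bffbdbfdfff7ffffbfbffbfffffffffffffffffffffffffffffffffffffffffffff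
open scoped Cfsg.Agent.FastGrp

-- part: H504/TwoZ
section
/-!
# Two characters with three zeros (S4897): the core

* `Two G` : two different irreducible characters, each vanishing on at least three classes.
* `Two.of_surj` : from a quotient.
* `two_of_gallagher` : from one character with three zeros and irreducible restriction to a proper normal subgroup.
* criteria for `Two G`: `two_of_zeros`, `two_of_cols`, `two_of_ti`, `two_of_ti_col`, `two_of_avg`.
* almost simple groups: `AutNC`, `Row2`, `two_of_extAut`, `row2_of_lie`, `two_of_many`, `two_of_dz2`.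
-/

set_option autoImplicit false
set_option linter.unusedSectionVars false

open scoped ComplexConjugate

namespace Cfsg.Agent.H504.TwoZ

open Cfsg Cfsg.Agent.Characters.Core Cfsg.Agent.H504.ZeroTI Cfsg.Agent.H504.Zeros
open Cfsg.Agent.H671.H5

universe u v

/-- two different irreducible characters, each vanishing on at least three conjugacy classes -/
def Two (G : Type*) [Group G] : Prop := ∃ χ ψ : IrrCharacter G, χ ≠ ψ ∧ 3 ≤ zc χ ∧ 3 ≤ zc ψ

/-- the four groups of S4897 -/
def Four (G : Type*) [Group G] : Prop :=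
  Nonempty (G ≃* ↥(alternatingGroup (Fin 5))) ∨ Nonempty (G ≃* Equiv.Perm (Fin 5)) ∨
    Nonempty (G ≃* Matrix.ProjectiveSpecialLinearGroup (Fin 2) (ZMod 7)) ∨
      Nonempty (G ≃* ↥(alternatingGroup (Fin 6)))

/-- the condition of S4897 -/
def AtMost (G : Type*) [Group G] : Prop :=
  ∃ φ : IrrCharacter G, ∀ χ : IrrCharacter G, charDegree (χ : G → ℂ) ≠ 1 → χ ≠ φ → zc χ ≤ 2

variable {G : Type u} [Group G]

theorem ne_one_of_three [Finite G] {χ : IrrCharacter G} (h : 1 ≤ zc χ) :
    charDegree (χ : G → ℂ) ≠ 1 := by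
  have h1 : Nonempty {c : ConjClasses G // ∀ g : G, ConjClasses.mk g = c → (χ : G → ℂ) g = 0} := by
    by_contra hcon
    rw [not_nonempty_iff] at hcon
    have : zc χ = 0 := Nat.card_of_isEmpty
    omega
  obtain ⟨⟨c, hc⟩⟩ := h1
  obtain ⟨g, rfl⟩ := ConjClasses.exists_rep c
  exact nonlinear_of_zero (hc g rfl)

theorem Two.not_atMost [Finite G] (h : Two G) : ¬ AtMost G := by
  rintro ⟨φ, hφ⟩
  obtain ⟨χ, ψ, hne, h1, h2⟩ := h
  by_cases hχ : χ = φ
  · have := hφ ψ (ne_one_of_three (by omega)) (by rw [← hχ]; exact hne.symm)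
    omega
  · have := hφ χ (ne_one_of_three (by omega)) hχ
    omega

theorem isConj_map {Q : Type v} [Group Q] (π : G →* Q) {g h : G} (hgh : IsConj g h) :
    IsConj (π g) (π h) := by
  obtain ⟨c, hc⟩ := isConj_iff.1 hgh
  exact isConj_iff.2 ⟨π c, by rw [← hc, map_mul, map_mul, map_inv]⟩

/-- characters of a quotient have at least as many zeros -/
theorem zc_le_comp {Q : Type v} [Group Q] [Finite G] (π : G →* Q) (hπ : Function.Surjective π)
    (χ : IrrCharacter Q) :
    zc χ ≤ zc (⟨(χ : Q → ℂ) ∘ π, isIrr_comp π hπ χ.2⟩ : IrrCharacter G) := by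
  classical
  have hQ : Finite Q := Finite.of_surjective π hπ
  have hrep : ∀ c : {c : ConjClasses Q // ∀ g : Q, ConjClasses.mk g = c → (χ : Q → ℂ) g = 0},
      ∃ g : G, ConjClasses.mk (π g) = c := by
    intro c
    obtain ⟨q, hq⟩ := ConjClasses.exists_rep c.1
    obtain ⟨g, rfl⟩ := hπ q
    exact ⟨g, hq⟩
  choose f hf using hrep
  refine Nat.card_le_card_of_injective (fun c => ⟨ConjClasses.mk (f c), fun g hg => ?_⟩) ?_
  · refine c.2 (π g) ?_
    rw [← hf c, ConjClasses.mk_eq_mk_iff_isConj]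
    exact isConj_map π (ConjClasses.mk_eq_mk_iff_isConj.1 hg)
  · intro a b hab
    have h1 : ConjClasses.mk (f a) = ConjClasses.mk (f b) := congrArg Subtype.val hab
    have h2 : ConjClasses.mk (π (f a)) = ConjClasses.mk (π (f b)) :=
      ConjClasses.mk_eq_mk_iff_isConj.2 (isConj_map π (ConjClasses.mk_eq_mk_iff_isConj.1 h1))
    rw [hf, hf] at h2
    exact Subtype.ext h2

theorem Two.of_surj {Q : Type v} [Group Q] [Finite G] (π : G →* Q) (hπ : Function.Surjective π)
    (h : Two Q) : Two G := by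
  obtain ⟨χ, ψ, hne, h1, h2⟩ := h
  refine ⟨⟨(χ : Q → ℂ) ∘ π, isIrr_comp π hπ χ.2⟩, ⟨(ψ : Q → ℂ) ∘ π, isIrr_comp π hπ ψ.2⟩, ?_,
    h1.trans (zc_le_comp π hπ χ), h2.trans (zc_le_comp π hπ ψ)⟩
  intro h
  apply hne
  have h3 : (χ : Q → ℂ) ∘ π = (ψ : Q → ℂ) ∘ π := congrArg Subtype.val h
  exact Subtype.ext (hπ.injective_comp_right h3)

theorem Two.of_equiv {H : Type v} [Group H] [Finite G] (e : G ≃* H) (h : Two H) : Two G :=
  h.of_surj e.toMonoidHom e.surjective

theorem Two.of_quotient [Finite G] (N : Subgroup G) [N.Normal] (h : Two (G ⧸ N)) : Two G :=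
  h.of_surj (QuotientGroup.mk' N) (QuotientGroup.mk'_surjective N)

theorem two_of_zeros [Finite G] {χ ψ : IrrCharacter G} (hne : χ ≠ ψ) (s t : Finset G)
    (hs : NonConj s) (ht : NonConj t) (hχ : ∀ g ∈ s, (χ : G → ℂ) g = 0)
    (hψ : ∀ g ∈ t, (ψ : G → ℂ) g = 0) (hs3 : 3 ≤ s.card) (ht3 : 3 ≤ t.card) : Two G :=
  ⟨χ, ψ, hne, hs3.trans (le_zc hs hχ), ht3.trans (le_zc ht hψ)⟩

/-- two irreducible characters which vanish on three non-conjugate elements -/
theorem two_of_set [Finite G] (s : Finset G) (hs : NonConj s) (h3 : 3 ≤ s.card)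
    (h : 2 ≤ Nat.card {χ : IrrCharacter G // ∀ g ∈ s, (χ : G → ℂ) g = 0}) : Two G := by
  have := finite_irr (G := G)
  have h1 : 1 < Nat.card {χ : IrrCharacter G // ∀ g ∈ s, (χ : G → ℂ) g = 0} := by omega
  rw [Finite.one_lt_card_iff_nontrivial] at h1
  obtain ⟨a, b, hab⟩ := h1
  exact two_of_zeros (fun h => hab (Subtype.ext h)) s s hs hs a.2 b.2 h3 h3

theorem card_classes_eq [Finite G] : Nat.card (IrrCharacter G) = Nat.card (ConjClasses G) := by
  have := finite_irr (G := G)
  have h := card_zero_add_nv (1 : G)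
  have h1 : nv (1 : G) = Nat.card (IrrCharacter G) := by
    unfold nv
    exact Nat.card_congr (Equiv.subtypeUnivEquiv fun χ => isIrr_apply_one_ne_zero χ.2)
  have h2 : Nat.card {χ : IrrCharacter G // (χ : G → ℂ) 1 = 0} = 0 := by
    rw [Nat.card_eq_zero]
    left
    exact ⟨fun χ => isIrr_apply_one_ne_zero χ.1.2 χ.2⟩
  omega

/-- **One CC-subgroup** with at least three classes: `e + m + 2 ≤ k ≤ #classes`. -/
theorem two_of_ti [Finite G] {A : Subgroup G} (hA : CC A) {e m k : ℕ} (he : eIdx A = e)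
    (hm : 3 ≤ m) (hem : Nat.card A = e * m + 1) (hk : k ≤ Nat.card (ConjClasses G))
    (h : e + m + 2 ≤ k) : Two G := by
  have := finite_irr (G := G)
  obtain ⟨s, hs, hsm, hsA⟩ := exists_reps hA (he ▸ hem)
  have h1 := le_ncard_compl hA he (by omega) hem hk
  have h2 : 1 < ((NV A)ᶜ : Set (IrrCharacter G)).ncard := by omega
  rw [Set.one_lt_ncard (Set.toFinite _)] at h2
  obtain ⟨a, ha, b, hb, hab⟩ := h2
  exact two_of_zeros hab s s hs hs (fun g hg => apply_eq_zero_of_compl ha (hsA g hg).1 (hsA g hg).2)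
    (fun g hg => apply_eq_zero_of_compl hb (hsA g hg).1 (hsA g hg).2) (by omega) (by omega)

/-- **One CC-subgroup** with at least two classes and one column outside:
`e + m + f + 2 ≤ k ≤ #classes`. -/
theorem two_of_ti_col [Finite G] {A : Subgroup G} (hA : CC A) {e m k f : ℕ} (he : eIdx A = e)
    (hm : 2 ≤ m) (hem : Nat.card A = e * m + 1) (x : G)
    (hx : ∀ a ∈ A, a ≠ 1 → ¬ IsConj x a) (hf : nv x ≤ f) (hk : k ≤ Nat.card (ConjClasses G))
    (h : e + m + f + 2 ≤ k) : Two G := by
  classical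
  have := finite_irr (G := G)
  obtain ⟨s, hs, hsm, hsA⟩ := exists_reps hA (he ▸ hem)
  have h1 := le_ncard_compl hA he (by omega) hem hk
  have h3 : ({χ : IrrCharacter G | (χ : G → ℂ) x ≠ 0}).ncard ≤ f := hf
  have h2 : 1 < (((NV A)ᶜ : Set (IrrCharacter G)) \ {χ | (χ : G → ℂ) x ≠ 0}).ncard := by
    have h4 := Set.le_ncard_sdiff {χ : IrrCharacter G | (χ : G → ℂ) x ≠ 0} ((NV A)ᶜ) (Set.toFinite _)
    omega
  rw [Set.one_lt_ncard (Set.toFinite _)] at h2
  obtain ⟨a, ha, b, hb, hab⟩ := h2
  have hxs : x ∉ s := fun h => hx x (hsA x h).1 (hsA x h).2 (IsConj.refl x)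
  have hns : NonConj (insert x s) := by
    intro g hg h hh hc
    rcases Finset.mem_insert.1 hg with h1 | hg' <;> rcases Finset.mem_insert.1 hh with h2 | hh'
    · rw [h1, h2]
    · rw [h1] at hc
      exact absurd hc (hx h (hsA h hh').1 (hsA h hh').2)
    · rw [h2] at hc
      exact absurd hc.symm (hx g (hsA g hg').1 (hsA g hg').2)
    · exact hs g hg' h hh' hc
  have key : ∀ χ ∈ (((NV A)ᶜ : Set (IrrCharacter G)) \ {χ | (χ : G → ℂ) x ≠ 0}),
      ∀ g ∈ insert x s, (χ : G → ℂ) g = 0 := by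
    intro χ hχ g hg
    rcases Finset.mem_insert.1 hg with rfl | hg
    · exact not_not.1 hχ.2
    · exact apply_eq_zero_of_compl hχ.1 (hsA g hg).1 (hsA g hg).2
  refine two_of_zeros hab (insert x s) (insert x s) hns hns (key a ha) (key b hb) ?_ ?_ <;>
    rw [Finset.card_insert_of_notMem hxs] <;> omega

/-- a character of a group of order `n ≥ 2` different from the principal one -/
theorem exists_irr_ne_one (Q : Type v) [Group Q] [Finite Q] [Nontrivial Q] :
    ∃ β : IrrCharacter Q, (β : Q → ℂ) ≠ 1 := by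
  classical
  by_contra hcon
  push Not at hcon
  have := finite_irr (G := Q)
  have h1 : Subsingleton (IrrCharacter Q) := ⟨fun a b => Subtype.ext ((hcon a).trans (hcon b).symm)⟩
  have h2 : Nat.card (ConjClasses Q) ≤ 1 := by
    rw [← card_classes_eq]
    exact Finite.card_le_one_iff_subsingleton.2 h1
  obtain ⟨q, hq⟩ := exists_ne (1 : Q)
  have h3 : Subsingleton (ConjClasses Q) := Finite.card_le_one_iff_subsingleton.1 h2
  have h4 : ConjClasses.mk q = ConjClasses.mk 1 := Subsingleton.elim _ _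
  rw [ConjClasses.mk_eq_mk_iff_isConj, isConj_one_left] at h4
  exact hq h4

/-- **Gallagher**: one irreducible character with three zeros and irreducible restriction to a
proper normal subgroup. -/
theorem two_of_gallagher [Finite G] (N : Subgroup G) [hNn : N.Normal] (hN : N ≠ ⊤) {χ : IrrCharacter G}
    (hχ : IsIrrCharacter N (fun k : N => (χ : G → ℂ) k)) (h3 : 3 ≤ zc χ) : Two G := by
  classical
  have := Fintype.ofFinite G
  have := Fintype.ofFinite N
  have hnt : Nontrivial (G ⧸ N) := by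
    rw [← not_subsingleton_iff_nontrivial]
    intro h
    exact hN (QuotientGroup.subgroup_eq_top_of_subsingleton N h)
  obtain ⟨β, hβ⟩ := exists_irr_ne_one (G ⧸ N)
  have hβG : IsIrrCharacter G ((β : G ⧸ N → ℂ) ∘ (QuotientGroup.mk' N)) :=
    isIrr_comp (QuotientGroup.mk' N) (QuotientGroup.mk'_surjective N) β.2
  have hχc : IsClassFunction G (χ : G → ℂ) := isIrr_isClassFunction χ.2
  have hone : ((fun _ => 1) * (fun k : N => (χ : G → ℂ) k) : N → ℂ) = fun k : N => (χ : G → ℂ) k := by
    funext k; simp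
  have key := S0856.result N (fun _ => 1) (fun k : N => (χ : G → ℂ) k) isIrr_one hχ
    (fun g n => rfl) (fun g n => hχc n g) (by rw [hone]; exact hχ) χ χ.2 (fun n => rfl)
  have hmem : ∀ γ : G ⧸ N → ℂ, IsIrrCharacter (G ⧸ N) γ → (γ ∘ (QuotientGroup.mk' N)) ∈
      {β : G → ℂ | IsIrrCharacter G β ∧ classInner (indFun N (fun _ => 1)) β ≠ 0} := by
    intro γ hγ
    obtain ⟨b, -, hb⟩ := isIrr_apply_one hγ
    refine ⟨isIrr_comp (QuotientGroup.mk' N) (QuotientGroup.mk'_surjective N) hγ, ?_⟩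
    rw [Cfsg.Agent.CharactersDeep.NormalInd.classInner_indFun N (fun _ => 1) _
      (isIrr_isClassFunction (isIrr_comp (QuotientGroup.mk' N) (QuotientGroup.mk'_surjective N) hγ))]
    have h1 : (fun k : N => (γ ∘ (QuotientGroup.mk' N)) (k : G)) = (b : ℂ) • (fun _ => 1 : N → ℂ) := by
      funext k
      have : (QuotientGroup.mk' N) (k : G) = 1 := (QuotientGroup.eq_one_iff _).2 k.2
      simp only [Function.comp, this, hb, Pi.smul_apply, smul_eq_mul, mul_one]
    rw [h1, classInner_smul_right]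
    have h2 : classInner (fun _ => 1 : N → ℂ) (fun _ => 1 : N → ℂ) = 1 :=
      classInner_irr_self isIrr_one
    rw [h2, mul_one]
    simp only [Complex.conj_natCast, ne_eq, Nat.cast_eq_zero]
    rintro rfl
    exact isIrr_apply_one_ne_zero hγ (by simpa using hb)
  have h1 := hmem β β.2
  have h2 := hmem 1 isIrr_one
  have hψ : IsIrrCharacter G (((β : G ⧸ N → ℂ) ∘ (QuotientGroup.mk' N)) * χ) := (key.mapsTo h1).1
  have hne : ((β : G ⧸ N → ℂ) ∘ (QuotientGroup.mk' N)) * χ ≠ ((1 : G ⧸ N → ℂ) ∘ (QuotientGroup.mk' N)) * χ := by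
    intro h
    have h4 := key.injOn h1 h2 h
    exact hβ ((QuotientGroup.mk'_surjective N).injective_comp_right h4)
  refine ⟨χ, ⟨_, hψ⟩, ?_, h3, h3.trans ?_⟩
  · intro h
    apply hne
    have h5 : (χ : G → ℂ) = ((β : G ⧸ N → ℂ) ∘ (QuotientGroup.mk' N)) * χ := congrArg Subtype.val h
    rw [← h5]
    funext g
    simp
  · refine Nat.card_le_card_of_injective (fun c => ⟨c.1, fun g hg => ?_⟩) ?_
    · show ((β : G ⧸ N → ℂ) ∘ (QuotientGroup.mk' N)) g * (χ : G → ℂ) g = 0
      rw [c.2 g hg, mul_zero]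
    · intro a b hab
      have h6 := congrArg Subtype.val hab
      exact Subtype.ext h6

end Cfsg.Agent.H504.TwoZ
end

-- part: H504/TwoExt
section
/-!
# Two characters with three zeros (S4897): almost simple groups

* `AutNC s` : the elements of `s` are pairwise not conjugate under automorphisms.
* `Row1 S` : what is needed for `G = S`;  `Row2 S` : for `S < G ≤ Aut S`, `G / S` solvable.
* `two_of_extAut` : an irreducible character of `S` which extends to `Aut S`, with three zeros.
* `row2_of_lie`, `row2_of_lie_orders` : groups of Lie type (the Steinberg character).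
* `two_of_over` : two characters of `G` over different orbits of characters of `S`.
* `two_of_many` : more than `|G : S|` characters of `S` vanish on three sets of elements.
* `two_of_dz2` : characters of defect zero for two primes (also for `G = S`).
-/

set_option autoImplicit false
set_option linter.unusedSectionVars false

open scoped ComplexConjugate

namespace Cfsg.Agent.H504.TwoZ

open Cfsg Cfsg.Agent.Characters.Core Cfsg.Agent.H504.ZeroTI Cfsg.Agent.H504.Zeros
open Cfsg.Agent.H671.H5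

universe u v

/-- pairwise not conjugate under automorphisms -/
def AutNC {S : Type*} [Group S] (s : Finset S) : Prop :=
  ∀ g ∈ s, ∀ h ∈ s, ∀ φ : MulAut S, φ g = h → g = h

/-- the row of a simple group `S` for `G = S` -/
def Row1 (S : Type u) [Group S] : Prop := Two S ∨ Four S

/-- the row of a simple group `S` for `S < G ≤ Aut S`, `G / S` solvable -/
def Row2 (S : Type u) [Group S] : Prop :=
  ∀ (G : Type u) [Group G] [Finite G] (N : Subgroup G) [N.Normal], Nonempty (N ≃* S) →
    Subgroup.centralizer (N : Set G) = ⊥ → Group.IsSolvable (G ⧸ N) → N ≠ ⊤ → Two G ∨ Four G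

/-- different orders -/
theorem autNC_of_orders {S : Type*} [Group S] (s : Finset ℕ)
    (h : ∀ n ∈ s, ∃ g : S, orderOf g = n) :
    ∃ t : Finset S, AutNC t ∧ t.card = s.card ∧ ∀ g ∈ t, orderOf g ∈ s := by
  classical
  choose f hf using h
  have hinj : Set.InjOn (fun n : s => f n.1 n.2) (Set.univ : Set s) := by
    intro a _ b _ hab
    apply Subtype.ext
    rw [← hf a.1 a.2, ← hf b.1 b.2]
    exact congrArg orderOf hab
  refine ⟨s.attach.image fun n => f n.1 n.2, ?_, ?_, ?_⟩
  · intro g hg h hh φ hφ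
    obtain ⟨a, -, rfl⟩ := Finset.mem_image.1 hg
    obtain ⟨b, -, rfl⟩ := Finset.mem_image.1 hh
    have h1 : orderOf (f a.1 a.2) = orderOf (f b.1 b.2) := by
      rw [← hφ, MulEquiv.orderOf_eq]
    rw [hf, hf] at h1
    have h2 : a = b := Subtype.ext h1
    rw [h2]
  · rw [Finset.card_image_of_injective, Finset.card_attach]
    intro a b hab
    exact hinj (Set.mem_univ _) (Set.mem_univ _) hab
  · intro g hg
    obtain ⟨a, -, rfl⟩ := Finset.mem_image.1 hg
    rw [hf]
    exact a.2

theorem AutNC.nonConj {S : Type*} [Group S] {s : Finset S} (h : AutNC s) : NonConj s := by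
  intro g hg k hk hc
  obtain ⟨c, hc⟩ := isConj_iff.1 hc
  exact h g hg k hk (MulAut.conj c) (by rw [MulAut.conj_apply]; exact hc)

section Ov

variable {G : Type u} [Group G] {S : Type v} [Group S]

/-- conjugation by `g` as an automorphism of `S` -/
noncomputable def autS (N : Subgroup G) [N.Normal] (e : N ≃* S) (g : G) : MulAut S :=
  (MulAut.congr e) (MulAut.conjNormal g)

theorem autS_apply (N : Subgroup G) [N.Normal] (e : N ≃* S) (g : G) (x : S) :
    autS N e g x = e (MulAut.conjNormal g (e.symm x)) := rfl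

/-- elements of `S` not conjugate under automorphisms are not conjugate in `G` -/
theorem nonConj_image [DecidableEq G] (N : Subgroup G) [N.Normal] (e : N ≃* S) {s : Finset S}
    (hs : AutNC s) :
    NonConj (s.image fun x => ((e.symm x : N) : G)) ∧
      (s.image fun x => ((e.symm x : N) : G)).card = s.card := by
  constructor
  · intro g hg h hh hc
    obtain ⟨x, hx, rfl⟩ := Finset.mem_image.1 hg
    obtain ⟨y, hy, rfl⟩ := Finset.mem_image.1 hh
    obtain ⟨c, hc⟩ := isConj_iff.1 hc
    have h1 : autS N e c x = y := by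
      rw [autS_apply]
      have h2 : MulAut.conjNormal c (e.symm x) = e.symm y := by
        apply Subtype.ext
        rw [MulAut.conjNormal_apply]
        exact hc
      rw [h2, MulEquiv.apply_symm_apply]
    rw [hs x hx y hy _ h1]
  · refine Finset.card_image_of_injective _ fun x y hxy => ?_
    exact e.symm.injective (Subtype.ext hxy)

/-- a character of `S` that extends to `Aut S` extends to `G` -/
theorem exists_ext [Finite G] [Finite S] (N : Subgroup G) [N.Normal] (e : N ≃* S) {θ : IrrCharacter S}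
    (hθ : ExtAut θ) : ∃ χ : IrrCharacter G, (∀ n : N, (χ : G → ℂ) n = (θ : S → ℂ) (e n)) ∧
      (∀ (g : G) (c : G), c ∈ Subgroup.centralizer (N : Set G) → (χ : G → ℂ) (g * c) = (χ : G → ℂ) g) := by
  classical
  obtain ⟨ψ, hψ⟩ := hθ
  let c : G →* MulAut S := (MulAut.congr e).toMonoidHom.comp (MulAut.conjNormal (H := N))
  have hc : ∀ n : N, c n = MulAut.conj (e n) := by
    intro n
    ext x
    show e (MulAut.conjNormal (n : G) (e.symm x)) = _
    have h1 : MulAut.conjNormal (n : G) (e.symm x) = n * e.symm x * n⁻¹ := by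
      apply Subtype.ext
      rw [MulAut.conjNormal_apply]
      rfl
    rw [h1, map_mul, map_mul, map_inv, MulEquiv.apply_symm_apply]
    rfl
  have h1 : IsCharacter G ((ψ : MulAut S → ℂ) ∘ c) := isCharacter_comp c (isIrr_isCharacter ψ.2)
  have h2 : ∀ n : N, ((ψ : MulAut S → ℂ) ∘ c) n = (θ : S → ℂ) (e n) := by
    intro n
    rw [Function.comp_apply, hc, hψ]
  have h3 : IsIrrCharacter N (((ψ : MulAut S → ℂ) ∘ c) ∘ N.subtype) := by
    have h4 : ((ψ : MulAut S → ℂ) ∘ c) ∘ N.subtype = (θ : S → ℂ) ∘ (e : N →* S) := by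
      funext n
      exact h2 n
    rw [h4]
    exact isIrr_comp (e : N →* S) e.surjective θ.2
  refine ⟨⟨_, Cfsg.Agent.CharactersDeep.MaxInduced.isIrr_of_comp N.subtype h1 h3⟩, h2, ?_⟩
  intro g z hz
  have h5 : c z = 1 := by
    ext x
    show e (MulAut.conjNormal z (e.symm x)) = x
    have h6 : MulAut.conjNormal z (e.symm x) = e.symm x := by
      apply Subtype.ext
      rw [MulAut.conjNormal_apply]
      have h7 := Subgroup.mem_centralizer_iff.1 hz _ (e.symm x).2
      rw [← h7]
      group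
    rw [h6, MulEquiv.apply_symm_apply]
  show (ψ : MulAut S → ℂ) (c (g * z)) = (ψ : MulAut S → ℂ) (c g)
  rw [map_mul, h5, mul_one]

theorem isIrr_restrict_of_ext (N : Subgroup G) [N.Normal] (e : N ≃* S) {θ : IrrCharacter S}
    {χ : G → ℂ} (h : ∀ n : N, χ n = (θ : S → ℂ) (e n)) : IsIrrCharacter N (fun k : N => χ k) := by
  have h4 : (fun k : N => χ k) = (θ : S → ℂ) ∘ (e : N →* S) := by
    funext n
    exact h n
  rw [h4]
  exact isIrr_comp (e : N →* S) e.surjective θ.2

/-- **Extension**: `θ` extends to `Aut S` and vanishes on three elements not conjugate in `Aut S`. -/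
theorem two_of_extAut [Finite G] [Finite S] (N : Subgroup G) [N.Normal] (hN : N ≠ ⊤) (e : N ≃* S)
    {θ : IrrCharacter S} (hθ : ExtAut θ) (s : Finset S) (hs : AutNC s)
    (hz : ∀ x ∈ s, (θ : S → ℂ) x = 0) (h3 : 3 ≤ s.card) : Two G := by
  classical
  obtain ⟨χ, hχ, -⟩ := exists_ext N e hθ
  refine two_of_gallagher N hN (isIrr_restrict_of_ext N e hχ) ?_
  obtain ⟨h1, h2⟩ := nonConj_image N e hs
  refine (h3.trans h2.ge).trans (le_zc h1 fun g hg => ?_)
  obtain ⟨x, hx, rfl⟩ := Finset.mem_image.1 hg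
  rw [hχ, MulEquiv.apply_symm_apply]
  exact hz x hx

theorem row2_of_extAut {S : Type u} [Group S] [Finite S] {θ : IrrCharacter S} (hθ : ExtAut θ) (s : Finset S)
    (hs : AutNC s) (hz : ∀ x ∈ s, (θ : S → ℂ) x = 0) (h3 : 3 ≤ s.card) : Row2 S := by
  rintro G _ _ N _ ⟨e⟩ - - hN
  exact Or.inl (two_of_extAut N hN e hθ s hs hz h3)

/-- **Lie type**: three `p`-singular elements not conjugate under automorphisms. -/
theorem row2_of_lie {p : ℕ} (hp : p.Prime) {S : Type u} [Group S] [Finite S] [IsSimpleGroup S]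
    (hna : ¬ IsMulCommutative S) (h : IsLieTypeChar p S) (s : Finset S) (hs : AutNC s)
    (hps : ∀ g ∈ s, p ∣ orderOf g) (h3 : 3 ≤ s.card) : Row2 S := by
  have : Fact p.Prime := ⟨hp⟩
  obtain ⟨θ, h1, h2⟩ := Cfsg.Agent.H761.LieExt.lie_ext hna h
  refine row2_of_extAut h2 s hs (fun x hx => ?_) h3
  refine Cfsg.Agent.H713.irr_zero_of_singular ?_ (hps x hx)
  rw [h1, Nat.factorization_pow, Finsupp.smul_apply, hp.factorization_self, smul_eq_mul, mul_one]

/-- the same from three different orders -/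
theorem row2_of_lie_orders {p : ℕ} (hp : p.Prime) {S : Type u} [Group S] [Finite S] [IsSimpleGroup S]
    (hna : ¬ IsMulCommutative S) (h : IsLieTypeChar p S) (s : Finset ℕ)
    (hs : ∀ n ∈ s, p ∣ n ∧ ∃ g : S, orderOf g = n) (h3 : 3 ≤ s.card) : Row2 S := by
  obtain ⟨t, ht, htc, hto⟩ := autNC_of_orders s fun n hn => (hs n hn).2
  exact row2_of_lie hp hna h t ht (fun g hg => (hs _ (hto g hg)).1) (h3.trans htc.ge)

/-- `χ` lies over `θ` -/
def Over [Finite G] (N : Subgroup G) (e : N ≃* S) (χ : IrrCharacter G) (θ : IrrCharacter S) : Prop :=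
  letI := Fintype.ofFinite N
  classInner (fun n : N => (χ : G → ℂ) n) ((θ : S → ℂ) ∘ e) ≠ 0

theorem isIrr_comp_equiv (N : Subgroup G) (e : N ≃* S) (θ : IrrCharacter S) :
    IsIrrCharacter N ((θ : S → ℂ) ∘ e) := isIrr_comp (e : N →* S) e.surjective θ.2

theorem exists_over [Finite G] (N : Subgroup G) (e : N ≃* S) (θ : IrrCharacter S) :
    ∃ χ : IrrCharacter G, Over N e χ θ := by
  classical
  let _ := Fintype.ofFinite N
  exact Cfsg.Agent.Blocks.Over.exists_over N ⟨_, isIrr_comp_equiv N e θ⟩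

/-- the constituents are conjugate under automorphisms induced by `G` -/
theorem Over.conj [Finite G] {N : Subgroup G} [N.Normal] {e : N ≃* S} {χ : IrrCharacter G}
    {θ θ' : IrrCharacter S} (h : Over N e χ θ) (h' : Over N e χ θ') :
    ∃ g : G, (θ' : S → ℂ) = (θ : S → ℂ) ∘ (autS N e g) := by
  classical
  let _ := Fintype.ofFinite N
  let _ := Fintype.ofFinite G
  obtain ⟨g, hg⟩ := Cfsg.Agent.Characters.Clifford.exists_conj_of_constituents N χ.2
    (isIrr_comp_equiv N e θ) (isIrr_comp_equiv N e θ') h h'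
  refine ⟨g, ?_⟩
  funext x
  have h1 := congrFun hg (e.symm x)
  simp only [Function.comp_apply, MulEquiv.apply_symm_apply] at h1
  rw [h1]
  rfl

/-- `χ` over `θ` vanishes at `x` if `θ` vanishes on the images of `x` under automorphisms -/
theorem Over.zero [Finite G] {N : Subgroup G} [N.Normal] {e : N ≃* S} {χ : IrrCharacter G}
    {θ : IrrCharacter S} (h : Over N e χ θ) {x : S} (hx : ∀ φ : MulAut S, (θ : S → ℂ) (φ x) = 0) :
    (χ : G → ℂ) (e.symm x : N) = 0 := by
  classical
  let _ := Fintype.ofFinite N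
  let _ := Fintype.ofFinite G
  have := finite_irr (G := N)
  have := Fintype.ofFinite (IrrCharacter N)
  have hres : IsCharacter N (fun n : N => (χ : G → ℂ) n) :=
    Cfsg.Agent.Characters.Clifford.isCharacter_restrict N (isIrr_isCharacter χ.2)
  have hexp := classFunction_eq_sum (isCharacter_isClassFunction hres)
  have h1 := congrFun hexp (e.symm x)
  rw [Finset.sum_apply] at h1
  refine h1.trans (Finset.sum_eq_zero fun ψ _ => ?_)
  by_cases h2 : classInner (fun n : N => (χ : G → ℂ) n) (ψ : N → ℂ) = 0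
  · rw [h2, zero_smul, Pi.zero_apply]
  · obtain ⟨g, hg⟩ := Cfsg.Agent.Characters.Clifford.exists_conj_of_constituents N χ.2
      (isIrr_comp_equiv N e θ) ψ.2 h h2
    rw [Pi.smul_apply, hg]
    have h3 := hx (autS N e g)
    rw [autS_apply] at h3
    show _ * (θ : S → ℂ) (e (MulAut.conjNormal g (e.symm x))) = 0
    rw [h3, mul_zero]

/-- **Two orbits**: `θ₁`, `θ₂` are not conjugate under `Aut S` and each vanishes on the images of
three elements that are not conjugate in `Aut S`. -/
theorem two_of_over [Finite G] (N : Subgroup G) [N.Normal] (e : N ≃* S) {θ₁ θ₂ : IrrCharacter S}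
    (hne : ∀ φ : MulAut S, (θ₂ : S → ℂ) ≠ (θ₁ : S → ℂ) ∘ φ) (s t : Finset S) (hs : AutNC s)
    (ht : AutNC t) (h1 : ∀ x ∈ s, ∀ φ : MulAut S, (θ₁ : S → ℂ) (φ x) = 0)
    (h2 : ∀ x ∈ t, ∀ φ : MulAut S, (θ₂ : S → ℂ) (φ x) = 0) (hs3 : 3 ≤ s.card)
    (ht3 : 3 ≤ t.card) : Two G := by
  classical
  obtain ⟨χ, hχ⟩ := exists_over N e θ₁
  obtain ⟨ψ, hψ⟩ := exists_over N e θ₂
  obtain ⟨hs', hsc⟩ := nonConj_image N e hs
  obtain ⟨ht', htc⟩ := nonConj_image N e ht
  refine two_of_zeros (χ := χ) (ψ := ψ) ?_ _ _ hs' ht' ?_ ?_ (by omega) (by omega)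
  · rintro rfl
    obtain ⟨g, hg⟩ := hχ.conj hψ
    exact hne _ hg
  · intro g hg
    obtain ⟨x, hx, rfl⟩ := Finset.mem_image.1 hg
    exact hχ.zero (h1 x hx)
  · intro g hg
    obtain ⟨x, hx, rfl⟩ := Finset.mem_image.1 hg
    exact hψ.zero (h2 x hx)

/-- **Many characters**: more than `|G : S|` irreducible characters of `S` vanish on the images of
three elements that are not conjugate in `Aut S`. -/
theorem two_of_many [Finite G] (N : Subgroup G) [N.Normal] (e : N ≃* S) (Z : Finset (IrrCharacter S))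
    (hZ : N.index < Z.card) (s : Finset S) (hs : AutNC s)
    (h1 : ∀ θ ∈ Z, ∀ x ∈ s, ∀ φ : MulAut S, (θ : S → ℂ) (φ x) = 0) (hs3 : 3 ≤ s.card) : Two G := by
  classical
  obtain ⟨hs', hsc⟩ := nonConj_image N e hs
  have hpos : 0 < Z.card := by omega
  obtain ⟨θ₀, h0⟩ := Finset.card_pos.1 hpos
  obtain ⟨χ, hχ⟩ := exists_over N e θ₀
  have hz : ∀ θ ∈ Z, ∀ χ : IrrCharacter G, Over N e χ θ →
      ∀ g ∈ (s.image fun x => ((e.symm x : N) : G)), (χ : G → ℂ) g = 0 := by
    intro θ hθ χ hχ g hg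
    obtain ⟨x, hx, rfl⟩ := Finset.mem_image.1 hg
    exact hχ.zero (h1 θ hθ x hx)
  by_cases hall : ∀ θ ∈ Z, Over N e χ θ
  · exfalso
    -- the orbit has at most `|G : N|` elements
    have hfin : Finite (G ⧸ N) := inferInstance
    have hrep : ∀ θ : Z, ∃ q : G ⧸ N, ((θ : IrrCharacter S) : S → ℂ) =
        (θ₀ : S → ℂ) ∘ (autS N e q.out) := by
      intro θ
      obtain ⟨g, hg⟩ := hχ.conj (hall θ θ.2)
      refine ⟨(g : G ⧸ N), ?_⟩
      obtain ⟨n, hn⟩ := QuotientGroup.mk_out_eq_mul N g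
      rw [hg]
      funext x
      simp only [Function.comp_apply, autS_apply]
      rw [hn, map_mul, MulAut.mul_apply]
      -- conjugation by `n ∈ N` is inner
      have hcl : IsClassFunction S (θ₀ : S → ℂ) := isIrr_isClassFunction θ₀.2
      have h5 : MulAut.conjNormal g (MulAut.conjNormal (n : G) (e.symm x)) =
          (MulAut.conjNormal g n) * (MulAut.conjNormal g (e.symm x)) * (MulAut.conjNormal g n)⁻¹ := by
        rw [← map_mul, ← map_inv, ← map_mul]
        congr 1
      rw [h5, map_mul, map_mul, map_inv]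
      exact (hcl _ _).symm
    choose f hf using hrep
    have hinj : Function.Injective f := by
      intro a b hab
      apply Subtype.ext
      apply Subtype.ext
      rw [hf a, hf b, hab]
    have h4 := Nat.card_le_card_of_injective f hinj
    rw [Nat.card_eq_fintype_card, Fintype.card_coe] at h4
    have h5 : Nat.card (G ⧸ N) = N.index := rfl
    omega
  · push Not at hall
    obtain ⟨θ', hθ', hno⟩ := hall
    obtain ⟨χ', hχ'⟩ := exists_over N e θ'
    refine two_of_zeros (χ := χ) (ψ := χ') ?_ _ _ hs' hs' (hz θ₀ h0 χ hχ) (hz θ' hθ' χ' hχ')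
      (by omega) (by omega)
    rintro rfl
    exact hno hχ'

/-- a character of defect zero vanishes on the images of a `p`-singular element -/
theorem dz_zero [Finite S] {p : ℕ} [Fact p.Prime] {θ : IrrCharacter S}
    (hθ : (charDegree (θ : S → ℂ)).factorization p = (Nat.card S).factorization p) {x : S}
    (hx : p ∣ orderOf x) (φ : MulAut S) : (θ : S → ℂ) (φ x) = 0 :=
  Cfsg.Agent.H713.irr_zero_of_singular hθ (by rwa [MulEquiv.orderOf_eq])

/-- **Two primes**: irreducible characters of `p`-defect zero and of `r`-defect zero of different degrees,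
three `p`-singular and three `r`-singular elements not conjugate in `Aut S`; for all `G ≥ S`. -/
theorem two_of_dz2 [Finite G] [Finite S] (N : Subgroup G) [N.Normal] (e : N ≃* S) {p r : ℕ} [Fact p.Prime]
    [Fact r.Prime] {θ₁ θ₂ : IrrCharacter S}
    (h1 : (charDegree (θ₁ : S → ℂ)).factorization p = (Nat.card S).factorization p)
    (h2 : (charDegree (θ₂ : S → ℂ)).factorization r = (Nat.card S).factorization r)
    (hne : charDegree (θ₁ : S → ℂ) ≠ charDegree (θ₂ : S → ℂ)) (s t : Finset S) (hs : AutNC s)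
    (ht : AutNC t) (hps : ∀ x ∈ s, p ∣ orderOf x) (hrt : ∀ x ∈ t, r ∣ orderOf x)
    (hs3 : 3 ≤ s.card) (ht3 : 3 ≤ t.card) : Two G := by
  refine two_of_over N e (θ₁ := θ₁) (θ₂ := θ₂) ?_ s t hs ht (fun x hx φ => dz_zero h1 (hps x hx) φ)
    (fun x hx φ => dz_zero h2 (hrt x hx) φ) hs3 ht3
  intro φ h
  apply hne
  rw [h, charDegree_comp]

end Ov

end Cfsg.Agent.H504.TwoZ
end

private theorem dce_5776d646016e : _root_.True := by
  try have : _root_.True := by simp only [_root_.Cfsg.Agent.H504.TwoZ.autS.congr_simp]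
  try have : _root_.True := by simp only [_root_.Cfsg.Agent.H504.TwoZ.Over.congr_simp]
  exact _root_.True.intro
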