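import Mathlib
import Cfsg.Agent.Transfer.NormalPComplement
import Cfsg.Agent.S0056
import Cfsg.Agent.S0058
import Cfsg.Agent.Transfer.FrobeniusFusion
import Cfsg.Agent.S0023
import Cfsg.Agent.S0659
import Cfsg.Agent.Solvable.FpfThompson
set_option linter.all false

-- part: H504/Basics
section
/-!
# Small tools: `p'`-elements, coprime orders, permutations of at most four points
-/

set_option autoImplicit false

namespace Cfsg.Agent.H504.Basics

open Subgroup

/-- If every `p'`-element of `K` is killed by `φ`, then `K.map φ` is a `p`-group. -/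
theorem isPGroup_map_of_coprime {Y M : Type*} [Group Y] [Finite Y] [Group M] {p : ℕ}
    [hp : Fact p.Prime] (φ : Y →* M) (K : Subgroup Y)
    (h : ∀ y ∈ K, (orderOf y).Coprime p → φ y = 1) : IsPGroup p (K.map φ) := by
  rw [isPGroup_iff_pow_pow_eq_one]
  rintro ⟨_, y, hy, rfl⟩
  refine ⟨(orderOf y).factorization p, ?_⟩
  apply Subtype.ext
  have h1 := h (y ^ (p ^ (orderOf y).factorization p)) (K.pow_mem hy _)
    (Cfsg.Agent.Transfer.NormalPComplement.coprime_orderOf_pow_ordProj (isOfFinOrder_of_finite y))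
  rw [map_pow] at h1
  simpa using h1

/-- An element of order prime to `p` whose image lies in a `p`-subgroup is killed. -/
theorem map_eq_one_of_mem {Y M : Type*} [Group Y] [Group M] {p : ℕ}
    [hp : Fact p.Prime] (φ : Y →* M) {Q : Subgroup M} (hQ : IsPGroup p Q) {x : Y}
    (hx : (orderOf x).Coprime p) (hxQ : φ x ∈ Q) : φ x = 1 := by
  obtain ⟨k, hk⟩ := isPGroup_iff_pow_pow_eq_one.mp hQ ⟨φ x, hxQ⟩
  have hk' : (φ x) ^ p ^ k = 1 := by simpa using congrArg Subtype.val hk
  have h1 : orderOf (φ x) ∣ orderOf x := orderOf_map_dvd φ x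
  have h2 : orderOf (φ x) ∣ p ^ k := orderOf_dvd_of_pow_eq_one hk'
  have h3 : Nat.Coprime (orderOf x) (p ^ k) := hx.pow_right k
  rw [← orderOf_eq_one_iff]
  exact Nat.eq_one_of_dvd_coprimes h3 h1 h2

/-- If `Y = N K` with `N` normal and all `p'`-elements of `N` and of `K` killed by `φ`, then all
`p'`-elements are killed. -/
theorem map_eq_one_of_sup {Y M : Type*} [Group Y] [Finite Y] [Group M] {p : ℕ}
    [hp : Fact p.Prime] (φ : Y →* M) (N K : Subgroup Y) [N.Normal]
    (hN : IsPGroup p (N.map φ)) (hK : IsPGroup p (K.map φ)) (hNK : N ⊔ K = ⊤) {x : Y}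
    (hx : (orderOf x).Coprime p) : φ x = 1 := by
  have hle : K.map φ ≤ normalizer (N.map φ : Set M) := by
    rw [le_normalizer_iff]
    rintro _ ⟨k, -, rfl⟩ _ ⟨n, hn, rfl⟩
    refine ⟨k * n * k⁻¹, ‹N.Normal›.conj_mem n hn k, ?_⟩
    simp
  have h1 : IsPGroup p (N.map φ ⊔ K.map φ : Subgroup M) := hN.to_sup_of_normal_left' hK hle
  rw [← Subgroup.map_sup, hNK] at h1
  exact map_eq_one_of_mem φ h1 hx (mem_map_of_mem φ (mem_top x))

/-- `p'`-elements of the quotient by a normal `p`-subgroup lift to `p'`-elements. -/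
theorem exists_lift_coprime {Y : Type*} [Group Y] [Finite Y] {p : ℕ}
    [hp : Fact p.Prime] (H : Subgroup Y) [H.Normal] {y : Y}
    (hy : (orderOf (y : Y ⧸ H)).Coprime p) :
    ∃ n : ℕ, (orderOf (y ^ n)).Coprime p ∧ ((y ^ n : Y) : Y ⧸ H) = (y : Y ⧸ H) := by
  -- `k = p`-part of the order of `y`
  set k := p ^ (orderOf y).factorization p with hk
  have h1 : (orderOf (y ^ k)).Coprime p :=
    Cfsg.Agent.Transfer.NormalPComplement.coprime_orderOf_pow_ordProj (isOfFinOrder_of_finite y)
  have h2 : Nat.Coprime k (orderOf (y : Y ⧸ H)) := (hy.pow_right _).symm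
  -- invert `k` modulo the order of the image
  obtain ⟨j, hj⟩ : ∃ j : ℕ, k * j ≡ 1 [MOD orderOf (y : Y ⧸ H)] := by
    obtain ⟨j, -, hj⟩ := Nat.exists_mul_mod_eq_of_coprime 1 h2 (orderOf_pos _).ne'
    exact ⟨j, hj⟩
  refine ⟨k * j, ?_, ?_⟩
  · rw [pow_mul]
    exact Nat.Coprime.coprime_dvd_left (orderOf_pow_dvd j) h1
  · rw [QuotientGroup.mk_pow]
    conv_rhs => rw [← pow_one (y : Y ⧸ H)]
    exact pow_eq_pow_iff_modEq.mpr hj

/-- A permutation of at most four points of odd order prime to `3` is trivial. -/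
theorem perm_eq_one {X : Type*} [Finite X] (hX : Nat.card X ≤ 4) (σ : Equiv.Perm X) {m : ℕ}
    (hm : σ ^ m = 1) (h2 : Odd m) (h3 : ¬ 3 ∣ m) : σ = 1 := by
  have h4 : orderOf σ ∣ Nat.card (Equiv.Perm X) := orderOf_dvd_natCard σ
  rw [Nat.card_perm] at h4
  have h5 : (Nat.card X).factorial ∣ 24 := by
    have h : (Nat.card X).factorial ∣ (4).factorial := Nat.factorial_dvd_factorial hX
    have h' : (4).factorial = 24 := by decide
    rwa [h'] at h
  have h6 : orderOf σ ∣ 24 := h4.trans h5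
  have h7 : orderOf σ ∣ m := orderOf_dvd_of_pow_eq_one hm
  have h8 : Nat.Coprime m 24 := by
    have : (24 : ℕ) = 2 ^ 3 * 3 := by norm_num
    rw [this]
    refine Nat.Coprime.mul_right ?_ ?_
    · exact Nat.Coprime.pow_right 3 ((Nat.coprime_two_right).mpr h2)
    · exact ((Nat.Prime.coprime_iff_not_dvd Nat.prime_three).mpr h3).symm
  rw [← orderOf_eq_one_iff]
  exact Nat.eq_one_of_dvd_coprimes h8 h7 h6

/-- If `x ∈ h T` with `h` normalising `T` and the orders of `x` and `h` coprime then `x ∈ T`. -/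
theorem mem_of_coprime {Γ : Type*} [Group Γ] {T : Subgroup Γ} {h x : Γ}
    (hh : h ∈ normalizer (T : Set Γ)) (hx : h⁻¹ * x ∈ T)
    (hcop : (orderOf x).Coprime (orderOf h)) : x ∈ T := by
  have key : ∀ n : ℕ, (h ^ n)⁻¹ * x ^ n ∈ T := by
    intro n
    induction n with
    | zero => simp
    | succ n ih =>
      have h1 : (h ^ (n + 1))⁻¹ * x ^ (n + 1) =
          ((h ^ n)⁻¹ * (h⁻¹ * x) * h ^ n) * ((h ^ n)⁻¹ * x ^ n) := by
        rw [pow_succ', pow_succ']; group
      rw [h1]
      refine T.mul_mem ?_ ih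
      have h2 : (h ^ n)⁻¹ ∈ normalizer (T : Set Γ) := inv_mem (pow_mem hh n)
      have := (mem_normalizer_iff.mp h2 (h⁻¹ * x)).mp hx
      simpa using this
  obtain ⟨n, hn1, hn2⟩ := Nat.chineseRemainder hcop 1 0
  have h3 : x ^ n = x := by
    conv_rhs => rw [← pow_one x]
    exact pow_eq_pow_iff_modEq.mpr hn1
  have h4 : h ^ n = 1 := by
    have : h ^ n = h ^ 0 := pow_eq_pow_iff_modEq.mpr hn2
    simpa using this
  have := key n
  rw [h3, h4] at this
  simpa using this

end Cfsg.Agent.H504.Basics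
end

-- part: H504/CosetPerm
section
/-!
# The action of a normalising element on the cosets of a subgroup of index at most four
-/

set_option autoImplicit false

namespace Cfsg.Agent.H504.CosetPerm

open Subgroup

theorem relIndex_le_two {Γ : Type*} [Group Γ] {S Q : Subgroup Γ}
    (h : ∀ a ∈ Q, ∀ b ∈ Q, a ∉ S → b ∉ S → a * b⁻¹ ∈ S) : S.relIndex Q ≤ 2 := by
  apply Nat.le_of_dvd (by norm_num)
  rw [relIndex_dvd_two_iff]
  by_cases h0 : ∃ a ∈ Q, a ∉ S
  · obtain ⟨a, ha, ha'⟩ := h0
    refine ⟨a⁻¹, Q.inv_mem ha, fun b hb => ?_⟩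
    by_cases hbS : b ∈ S
    · exact Or.inr hbS
    · exact Or.inl (h b hb a ha hbS ha')
  · push Not at h0
    exact ⟨1, Q.one_mem, fun b hb => Or.inr (h0 b hb)⟩

/-- An element `x` normalising `H ≥ K`, where `K` has index at most `4` in `H`, and such that an
odd power `x ^ m` with `3 ∤ m` acts trivially on the cosets of `K` in `H`, acts trivially on
them. -/
theorem acts_trivially {Γ : Type*} [Group Γ] [Finite Γ] {H K : Subgroup Γ}
    (hi : K.relIndex H ≤ 4) {x : Γ}
    (hxH : x ∈ normalizer (H : Set Γ)) (hxK : x ∈ normalizer (K : Set Γ)) {m : ℕ}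
    (h2 : Odd m) (h3 : ¬ 3 ∣ m) (hm : ∀ h ∈ H, h⁻¹ * (x ^ m * h * (x ^ m)⁻¹) ∈ K) :
    ∀ h ∈ H, h⁻¹ * (x * h * x⁻¹) ∈ K := by
  classical
  let e : MulAut H := H.normalizerMonoidHom ⟨x, hxH⟩
  have he : ∀ a : H, ((e a : H) : Γ) = x * a * x⁻¹ := fun a => rfl
  have hK : ∀ a b : H, (QuotientGroup.leftRel (K.subgroupOf H)) a b ↔
      (QuotientGroup.leftRel (K.subgroupOf H)) (e a) (e b) := by
    intro a b
    rw [QuotientGroup.leftRel_apply, QuotientGroup.leftRel_apply, mem_subgroupOf, mem_subgroupOf]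
    have h1 : (((e a)⁻¹ * e b : H) : Γ) = x * ((a⁻¹ * b : H) : Γ) * x⁻¹ := by
      rw [← map_inv, ← map_mul, he]
    rw [h1]
    exact mem_normalizer_iff.mp hxK _
  let σ : Equiv.Perm (H ⧸ K.subgroupOf H) := Quotient.congr e.toEquiv hK
  have hσ : ∀ a : H, σ (a : H ⧸ K.subgroupOf H) = ((e a : H) : H ⧸ K.subgroupOf H) := fun a => rfl
  have hσn : ∀ (n : ℕ) (a : H), (σ ^ n) (a : H ⧸ K.subgroupOf H) =
      (((e ^ n) a : H) : H ⧸ K.subgroupOf H) := by
    intro n
    induction n with
    | zero => intro a; simp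
    | succ n ih =>
      intro a
      rw [pow_succ', Equiv.Perm.mul_apply, ih, hσ, pow_succ', MulAut.mul_apply]
  have hen : ∀ (n : ℕ) (a : H), (((e ^ n) a : H) : Γ) = x ^ n * a * (x ^ n)⁻¹ := by
    intro n
    induction n with
    | zero => intro a; simp
    | succ n ih =>
      intro a
      rw [pow_succ', MulAut.mul_apply, he, ih, pow_succ']
      group
  have hσm : σ ^ m = 1 := by
    ext q
    obtain ⟨a, rfl⟩ := QuotientGroup.mk_surjective q
    rw [hσn]
    change _ = (a : H ⧸ K.subgroupOf H)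
    symm
    rw [QuotientGroup.eq, mem_subgroupOf, coe_mul, coe_inv, hen]
    exact hm a a.2
  have hσ1 : σ = 1 := Basics.perm_eq_one hi σ hσm h2 h3
  intro h hh
  have h5 := hσ ⟨h, hh⟩
  rw [hσ1] at h5
  change ((⟨h, hh⟩ : H) : H ⧸ K.subgroupOf H) = _ at h5
  rw [QuotientGroup.eq, mem_subgroupOf] at h5
  exact h5

end Cfsg.Agent.H504.CosetPerm
end

-- part: H504/ClassTwoConj
section
/-!
# Two conjugate subgroups of index two in a `2`-group of class two

`mem_of_center_conj`: let `P` be a `2`-group of class at most two, `H ≥ Z(P)` a subgroup of index at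
most two of `P`, `x` an element of odd order normalising but not centralising `H` and inverted modulo
`H` by the elements of `P` outside `H`.  If `l` normalises `P` and an odd power `l ^ m ∈ P` has `m`
prime to the order of `x`, then `Z(l H l⁻¹) ≤ H`.
-/

set_option autoImplicit false

namespace Cfsg.Agent.H504.ClassTwoConj

open Subgroup
open scoped commutatorElement

theorem mem_of_center_conj {Γ : Type*} [Group Γ] [Finite Γ] (P H : Subgroup Γ)
    (hP : IsPGroup 2 P)
    (hcl : ∀ a ∈ P, ∀ b ∈ P, ∀ c ∈ P, ⁅a, b⁆ * c = c * ⁅a, b⁆)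
    (hHP : H ≤ P)
    (hZ : ∀ c ∈ P, (∀ b ∈ P, c * b = b * c) → c ∈ H)
    (hidx : ∀ a ∈ P, ∀ b ∈ P, a ∉ H → b ∉ H → a * b⁻¹ ∈ H)
    (x : Γ) (hxH : x ∈ normalizer (H : Set Γ)) (hxo : Odd (orderOf x))
    (hxc : ∃ h ∈ H, x * h ≠ h * x)
    (hinv : ∀ t ∈ P, t ∉ H → t * x * t⁻¹ * x ∈ H)
    (l : Γ) (hl : l ∈ normalizer (P : Set Γ)) (m : ℕ) (hm2 : Odd m)
    (hmx : m.Coprime (orderOf x)) (hlm : l ^ m ∈ P)
    (u : Γ) (hu1 : l⁻¹ * u * l ∈ H)
    (huc : ∀ h ∈ H, u * (l * h * l⁻¹) = (l * h * l⁻¹) * u) : u ∈ H := by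
  by_contra hcon
  have hlP : ∀ g, g ∈ P ↔ l * g * l⁻¹ ∈ P := fun g => mem_normalizer_iff.mp hl g
  have hlP' : ∀ g ∈ P, l⁻¹ * g * l ∈ P := by
    intro g hg
    rw [hlP]
    have : l * (l⁻¹ * g * l) * l⁻¹ = g := by group
    rwa [this]
  have hu : u ∈ P := by
    have h1 := (hlP _).mp (hHP hu1)
    have : l * (l⁻¹ * u * l) * l⁻¹ = u := by group
    rwa [this] at h1
  set u₂ := l⁻¹ * u * l with hu₂
  have hu₂P : u₂ ∈ P := hHP hu1
  have hul : u = l * u₂ * l⁻¹ := by rw [hu₂]; group
  -- `u` is not central in `P`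
  obtain ⟨g₀, hg₀, hg₀u⟩ : ∃ g ∈ P, u * g ≠ g * u := by
    by_contra h
    push Not at h
    exact hcon (hZ u hu h)
  -- centralizer of `u` in `P` has index two
  have hE : ∀ a ∈ P, ∀ b ∈ P, a * u ≠ u * a → b * u ≠ u * b →
      (a * b⁻¹) * u = u * (a * b⁻¹) := by
    intro a ha b hb hau hbu
    have key : ∀ c ∈ P, c * u ≠ u * c → l⁻¹ * c * l ∉ H := by
      intro c _ hcu hcH
      apply hcu
      have h1 := huc _ hcH
      have h2 : l * (l⁻¹ * c * l) * l⁻¹ = c := by group
      rw [h2] at h1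
      exact h1.symm
    have h1 := hidx _ (hlP' a ha) _ (hlP' b hb) (key a ha hau) (key b hb hbu)
    have h2 := huc _ h1
    have h3 : l * (l⁻¹ * a * l * (l⁻¹ * b * l)⁻¹) * l⁻¹ = a * b⁻¹ := by group
    rw [h3] at h2
    exact h2.symm
  set z := ⁅g₀, u⁆ with hz
  have hzP : z ∈ P := by
    rw [hz, commutatorElement_def]
    exact P.mul_mem (P.mul_mem (P.mul_mem hg₀ hu) (P.inv_mem hg₀)) (P.inv_mem hu)
  have hzc : ∀ c ∈ P, z * c = c * z := fun c hc => hcl g₀ hg₀ u hu c hc
  have hz1 : z ≠ 1 := by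
    intro h
    rw [hz, commutatorElement_eq_one_iff_mul_comm] at h
    exact hg₀u h.symm
  have hcomm : ∀ a ∈ P, ∀ b ∈ P, ⁅a, b⁆ ∈ P := by
    intro a ha b hb
    rw [commutatorElement_def]
    exact P.mul_mem (P.mul_mem (P.mul_mem ha hb) (P.inv_mem ha)) (P.inv_mem hb)
  -- all commutators with `u` are `1` or `z`
  have hD : ∀ a ∈ P, ⁅a, u⁆ = 1 ∨ ⁅a, u⁆ = z := by
    intro a ha
    by_cases hau : a * u = u * a
    · left
      rwa [commutatorElement_eq_one_iff_mul_comm]
    · right
      have h1 := hE a ha g₀ hg₀ hau (fun h => hg₀u h.symm)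
      have h2 : ⁅a, u⁆ = (a * g₀⁻¹) * ⁅g₀, u⁆ * (u * (a * g₀⁻¹)⁻¹ * u⁻¹) := by
        rw [commutatorElement_def, commutatorElement_def]; group
      have h3 : u * (a * g₀⁻¹)⁻¹ * u⁻¹ = (a * g₀⁻¹)⁻¹ := by
        have h4 : u * (a * g₀⁻¹)⁻¹ = (a * g₀⁻¹)⁻¹ * u := by
          have h5 : Commute (a * g₀⁻¹) u := h1
          exact (h5.inv_left.symm).eq
        rw [h4, mul_inv_cancel_right]
      rw [h2, h3, ← hz, ← hzc _ (P.mul_mem ha (P.inv_mem hg₀)), mul_inv_cancel_right]
  have hz2 : z * z = 1 := by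
    have h1 : g₀⁻¹ * u ≠ u * g₀⁻¹ := by
      intro h
      apply hg₀u
      have h5 : Commute g₀⁻¹ u := h
      have h6 := h5.inv_left
      rw [inv_inv] at h6
      exact h6.eq.symm
    have h2 := hE g₀ hg₀ g₀⁻¹ (P.inv_mem hg₀) (fun h => hg₀u h.symm) h1
    rw [inv_inv] at h2
    have h3 : ⁅g₀ * g₀, u⁆ = z * z := by
      have h4 : ⁅g₀ * g₀, u⁆ = g₀ * ⁅g₀, u⁆ * g₀⁻¹ * ⁅g₀, u⁆ := by
        rw [commutatorElement_def, commutatorElement_def]; group
      rw [h4, ← hz, ← hzc g₀ hg₀, mul_inv_cancel_right]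
    rw [← h3, commutatorElement_eq_one_iff_mul_comm]
    exact h2
  have hzinv : z⁻¹ = z := inv_eq_of_mul_eq_one_right hz2
  -- the same for `u₂`
  have hD₂ : ∀ a ∈ P, ⁅a, u₂⁆ = 1 ∨ ⁅a, u₂⁆ = l⁻¹ * z * l := by
    intro a ha
    have h1 : ⁅a, u₂⁆ = l⁻¹ * ⁅l * a * l⁻¹, u⁆ * l := by
      rw [commutatorElement_def, commutatorElement_def, hu₂]; group
    rcases hD _ ((hlP a).mp ha) with h | h
    · left; rw [h1, h]; group
    · right; rw [h1, h]
  -- `H` and `u` generate `P`
  have hHu : ∀ p ∈ P, p ∉ H → p * u⁻¹ ∈ H := fun p hp hpH => hidx p hp u hu hpH hcon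
  have hu₂H : ∀ h ∈ H, u₂ * h = h * u₂ := by
    intro h hh
    have h1 := huc h hh
    have h2 : u₂ * h = l⁻¹ * (u * (l * h * l⁻¹)) * l := by rw [hu₂]; group
    rw [h2, h1, hu₂]; group
  -- `u` and `u₂` do not commute
  have hF : u * u₂ ≠ u₂ * u := by
    intro h
    have hcent : ∀ p ∈ P, u₂ * p = p * u₂ := by
      intro p hp
      by_cases hpH : p ∈ H
      · exact hu₂H p hpH
      · have h1 : Commute u₂ (p * u⁻¹) := hu₂H _ (hHu p hp hpH)
        have h2 : Commute u₂ u := h.symm
        have h3 := h1.mul_right h2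
        rw [inv_mul_cancel_right] at h3
        exact h3.eq
    have h4 := hcent (l⁻¹ * g₀ * l) (hlP' g₀ hg₀)
    apply hg₀u
    have h5 : u * g₀ = l * (u₂ * (l⁻¹ * g₀ * l)) * l⁻¹ := by rw [hu₂]; group
    rw [h5, h4, hu₂]; group
  -- `l` centralises `z`
  have hlz : l⁻¹ * z * l = z := by
    have h1 : ⁅u₂, u⁆ = z := by
      rcases hD u₂ hu₂P with h | h
      · exfalso
        rw [commutatorElement_eq_one_iff_mul_comm] at h
        exact hF h.symm
      · exact h
    have h2 : ⁅u, u₂⁆ = l⁻¹ * z * l := by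
      rcases hD₂ u hu with h | h
      · exfalso
        rw [commutatorElement_eq_one_iff_mul_comm] at h
        exact hF h
      · exact h
    rw [← h2, ← commutatorElement_inv, h1, hzinv]
  have hlz' : l * z * l⁻¹ = z := by
    conv_lhs => rw [← hlz]
    group
  -- `P` normalises `H`
  have hzH : z ∈ H := hZ z hzP hzc
  have hcommH : ∀ a ∈ P, ∀ b ∈ P, ⁅a, b⁆ ∈ H := fun a ha b hb =>
    hZ _ (hcomm a ha b hb) (hcl a ha b hb)
  have hPH : P ≤ normalizer (H : Set Γ) := by
    rw [le_normalizer_iff]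
    intro p hp h hh
    have h1 : p * h * p⁻¹ = ⁅p, h⁆ * h := by rw [commutatorElement_def]; group
    rw [h1]
    exact H.mul_mem (hcommH p hp h (hHP hh)) hh
  have hxH' : ∀ h ∈ H, x⁻¹ * h * x ∈ H := by
    intro h hh
    have := (mem_normalizer_iff.mp (inv_mem hxH) h).mp hh
    rwa [inv_inv] at this
  have hxH'' : ∀ h ∈ H, x * h * x⁻¹ ∈ H := fun h hh => (mem_normalizer_iff.mp hxH h).mp hh
  set u' := x * u * x⁻¹ with hu'
  have hu'H : u' ∈ normalizer (H : Set Γ) := mul_mem (mul_mem hxH (hPH hu)) (inv_mem hxH)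
  -- the basic generation argument
  have hgen : ∀ T : Subgroup Γ, H ≤ normalizer (T : Set Γ) → u ∈ T → u' ∈ T → x ∈ T := by
    intro T hHT huT hu'T
    have h1 := hinv u hu hcon
    set h := u * x * u⁻¹ * x with hh
    have hx2 : x ^ 2 = h * (h⁻¹ * (u' * u⁻¹) * h) := by
      rw [hh, hu', pow_two]; group
    have hcop : (orderOf (x ^ 2)).Coprime (orderOf h) := by
      obtain ⟨k, hk⟩ := (IsPGroup.iff_orderOf.mp (hP.to_le hHP)) ⟨h, h1⟩
      rw [Subgroup.orderOf_mk] at hk
      rw [hk]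
      apply Nat.Coprime.pow_right
      exact Nat.Coprime.coprime_dvd_left (orderOf_pow_dvd 2) (Nat.coprime_two_right.mpr hxo)
    have h2 : x ^ 2 ∈ T := by
      refine Basics.mem_of_coprime (hHT h1) ?_ hcop
      have h3 : h⁻¹ * x ^ 2 = h⁻¹ * (u' * u⁻¹) * h := by
        rw [hx2]; group
      rw [h3]
      have h4 := (mem_normalizer_iff.mp (inv_mem (hHT h1)) (u' * u⁻¹)).mp
        (T.mul_mem hu'T (T.inv_mem huT))
      rwa [inv_inv] at h4
    obtain ⟨k, hk⟩ := hxo
    have h5 : x = (x ^ 2) ^ (k + 1) := by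
      rw [← pow_mul]
      have : 2 * (k + 1) = orderOf x + 1 := by omega
      rw [this, pow_add, pow_orderOf_eq_one, one_mul, pow_one]
    rw [h5]
    exact T.pow_mem h2 _
  -- the subgroup `K`
  set K : Subgroup Γ := H ⊓ centralizer ({u, u'} : Set Γ) with hK
  have hKH : K ≤ H := inf_le_left
  have hmemK : ∀ k, k ∈ K ↔ k ∈ H ∧ k * u = u * k ∧ k * u' = u' * k := by
    intro k
    rw [hK, mem_inf, mem_centralizer_iff]
    constructor
    · rintro ⟨h1, h2⟩
      exact ⟨h1, (h2 u (by simp)).symm, (h2 u' (by simp)).symm⟩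
    · rintro ⟨h1, h2, h3⟩
      refine ⟨h1, ?_⟩
      intro y hy
      rcases hy with rfl | rfl
      · exact h2.symm
      · exact h3.symm
  have hHK : H ≤ normalizer (K : Set Γ) := by
    rw [le_normalizer_iff]
    intro h hh k hk
    obtain ⟨h1, h2, h3⟩ := (hmemK k).mp hk
    have e1 : h * k * h⁻¹ = ⁅h, k⁆ * k := by rw [commutatorElement_def]; group
    rw [e1, hmemK]
    have c1 : ⁅h, k⁆ * u = u * ⁅h, k⁆ := hcl h (hHP hh) k (hHP h1) u hu
    have c2 : ⁅h, k⁆ * u' = u' * ⁅h, k⁆ := by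
      have h4 := hcl _ (hHP (hxH' h hh)) _ (hHP (hxH' k h1)) u hu
      have h5 : ⁅h, k⁆ * u' = x * (⁅x⁻¹ * h * x, x⁻¹ * k * x⁆ * u) * x⁻¹ := by
        rw [commutatorElement_def, commutatorElement_def, hu']; group
      rw [h5, h4, commutatorElement_def, commutatorElement_def, hu']; group
    refine ⟨H.mul_mem (hcommH h (hHP hh) k (hHP h1)) h1, ?_, ?_⟩
    · rw [mul_assoc, h2, ← mul_assoc, c1, mul_assoc]
    · rw [mul_assoc, h3, ← mul_assoc, c2, mul_assoc]
  -- `x` centralises `K`
  have hxK : x ∈ centralizer (K : Set Γ) := by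
    apply hgen
    · rw [le_normalizer_iff]
      intro h hh c hc
      rw [mem_centralizer_iff] at hc ⊢
      intro k hk
      have h1 : h⁻¹ * k * h ∈ K := by
        have := (mem_normalizer_iff.mp (inv_mem (hHK hh)) k).mp hk
        rwa [inv_inv] at this
      have h2 := hc _ h1
      have h3 : k * (h * c * h⁻¹) = h * ((h⁻¹ * k * h) * c) * h⁻¹ := by group
      rw [h3, h2]; group
    · rw [mem_centralizer_iff]
      intro k hk
      exact ((hmemK k).mp hk).2.1
    · rw [mem_centralizer_iff]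
      intro k hk
      exact ((hmemK k).mp hk).2.2
  -- `z` is not in `K`
  have hzK : z ∉ K := by
    intro hzK
    have hzu' : z * u' = u' * z := ((hmemK z).mp hzK).2.2
    have hxz : x * z = z * x := by
      have h1 : x ∈ centralizer ({z} : Set Γ) := by
        apply hgen
        · intro h hh
          apply le_normalizer
          rw [mem_centralizer_singleton_iff]
          exact (hzc h (hHP hh)).symm
        · rw [mem_centralizer_singleton_iff]
          exact (hzc u hu).symm
        · rw [mem_centralizer_singleton_iff]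
          exact hzu'.symm
      rw [mem_centralizer_singleton_iff] at h1
      exact h1
    -- the subgroup acting trivially on `H / ⟨z⟩` and centralising `z`
    let T : Subgroup Γ :=
      { carrier := {g | g * z = z * g ∧ (∀ h ∈ H, g * h * g⁻¹ * h⁻¹ = 1 ∨ g * h * g⁻¹ * h⁻¹ = z)}
        one_mem' := by
          refine ⟨by simp, fun h _ => Or.inl (by simp)⟩
        mul_mem' := by
          rintro a b ⟨ha1, ha2⟩ ⟨hb1, hb2⟩
          refine ⟨by rw [mul_assoc, hb1, ← mul_assoc, ha1, mul_assoc], fun h hh => ?_⟩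
          have e1 : a * b * h * (a * b)⁻¹ * h⁻¹ =
              a * (b * h * b⁻¹ * h⁻¹) * a⁻¹ * (a * h * a⁻¹ * h⁻¹) := by group
          rw [e1]
          have ea : a * z * a⁻¹ = z := by rw [ha1, mul_inv_cancel_right]
          rcases hb2 h hh with h1 | h1 <;> rcases ha2 h hh with h2 | h2 <;> rw [h1, h2]
          · left; group
          · right; group
          · right; rw [ea, mul_one]
          · left; rw [ea, hz2]
        inv_mem' := by
          rintro a ⟨ha1, ha2⟩
          have hcz : Commute a z := ha1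
          refine ⟨hcz.inv_left.eq, fun h hh => ?_⟩
          -- `a` acts as an involution-like map, use `a h a⁻¹ = z^ε h`
          have ea : a⁻¹ * z * a = z := by rw [hcz.inv_left.eq, inv_mul_cancel_right]
          rcases ha2 h hh with h1 | h1
          · left
            have h3 : a * h * a⁻¹ = h := by
              rw [mul_inv_eq_one] at h1; exact h1
            have h4 : a⁻¹ * h * a⁻¹⁻¹ = h := by
              conv_lhs => rw [← h3]
              group
            rw [h4, mul_inv_cancel]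
          · right
            have h3 : a * h * a⁻¹ = z * h := by
              rw [mul_inv_eq_iff_eq_mul] at h1; exact h1
            have h4 : h = (a⁻¹ * z * a) * (a⁻¹ * h * a) := by
              calc h = a⁻¹ * (a * h * a⁻¹) * a := by group
                _ = a⁻¹ * (z * h) * a := by rw [h3]
                _ = _ := by group
            rw [ea] at h4
            have h5 : a⁻¹ * h * a = z * h := by
              calc a⁻¹ * h * a = (z * z) * (a⁻¹ * h * a) := by rw [hz2, one_mul]
                _ = z * (z * (a⁻¹ * h * a)) := by group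
                _ = z * h := by rw [← h4]
            rw [inv_inv, h5, mul_inv_cancel_right] }
    have hmemT : ∀ g, g ∈ T ↔ g * z = z * g ∧
        (∀ h ∈ H, g * h * g⁻¹ * h⁻¹ = 1 ∨ g * h * g⁻¹ * h⁻¹ = z) := fun g => Iff.rfl
    have hxT : x ∈ T := by
      apply hgen
      · rw [le_normalizer_iff]
        intro h hh g hg
        obtain ⟨hg1, hg2⟩ := (hmemT g).mp hg
        rw [hmemT]
        have hhz : Commute h z := (hzc h (hHP hh)).symm
        refine ⟨?_, fun k hk => ?_⟩
        · have : Commute g z := hg1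
          exact ((hhz.mul_left this).mul_left hhz.inv_left).eq
        · have hk' : h⁻¹ * k * h ∈ H := H.mul_mem (H.mul_mem (H.inv_mem hh) hk) hh
          have e1 : h * g * h⁻¹ * k * (h * g * h⁻¹)⁻¹ * k⁻¹ =
              h * (g * (h⁻¹ * k * h) * g⁻¹ * (h⁻¹ * k * h)⁻¹) * h⁻¹ := by group
          rw [e1]
          rcases hg2 _ hk' with h1 | h1 <;> rw [h1]
          · left; group
          · right; rw [hhz.eq, mul_inv_cancel_right]
      · rw [hmemT]
        refine ⟨(hzc u hu).symm, fun h hh => ?_⟩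
        have e1 : u * h * u⁻¹ * h⁻¹ = ⁅h, u⁆⁻¹ := by rw [commutatorElement_def]; group
        rw [e1]
        rcases hD h (hHP hh) with h1 | h1 <;> rw [h1]
        · left; simp
        · right; exact hzinv
      · rw [hmemT]
        refine ⟨hzu'.symm, fun h hh => ?_⟩
        have e1 : u' * h * u'⁻¹ * h⁻¹ = x * ⁅x⁻¹ * h * x, u⁆⁻¹ * x⁻¹ := by
          rw [commutatorElement_def, hu']; group
        rw [e1]
        rcases hD _ (hHP (hxH' h hh)) with h1 | h1 <;> rw [h1]
        · left; simp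
        · right; rw [hzinv, hxz, mul_inv_cancel_right]
    -- so `x ^ 2` centralises `H`
    obtain ⟨h, hh, hxh⟩ := hxc
    apply hxh
    have h1 : x ^ 2 * h = h * x ^ 2 := by
      obtain ⟨-, hx2⟩ := (hmemT x).mp hxT
      rcases hx2 h hh with h1 | h1
      · exfalso
        rw [mul_inv_eq_one, mul_inv_eq_iff_eq_mul] at h1
        exact hxh h1
      · have h3 : x * h * x⁻¹ = z * h := by
          rw [mul_inv_eq_iff_eq_mul] at h1; exact h1
        have h4 : x ^ 2 * h * (x ^ 2)⁻¹ = h := by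
          calc x ^ 2 * h * (x ^ 2)⁻¹ = x * (x * h * x⁻¹) * x⁻¹ := by rw [pow_two]; group
            _ = x * (z * h) * x⁻¹ := by rw [h3]
            _ = (x * z) * h * x⁻¹ := by group
            _ = z * (x * h * x⁻¹) := by rw [hxz]; group
            _ = z * z * h := by rw [h3]; group
            _ = h := by rw [hz2, one_mul]
        rw [mul_inv_eq_iff_eq_mul] at h4
        exact h4
    obtain ⟨k, hk⟩ := hxo
    have h5 : x = (x ^ 2) ^ (k + 1) := by
      rw [← pow_mul]
      have : 2 * (k + 1) = orderOf x + 1 := by omega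
      rw [this, pow_add, pow_orderOf_eq_one, one_mul, pow_one]
    have h6 : Commute (x ^ 2) h := h1
    have h7 := h6.pow_left (k + 1)
    rw [← h5] at h7
    exact h7.eq
  -- indices
  have hiH : H.relIndex P ≤ 2 := CosetPerm.relIndex_le_two hidx
  have hi1 : (centralizer ({u} : Set Γ)).relIndex H ≤ 2 := by
    apply CosetPerm.relIndex_le_two
    intro a ha b hb ha' hb'
    rw [mem_centralizer_singleton_iff] at ha' hb' ⊢
    exact hE a (hHP ha) b (hHP hb) ha' hb'
  have hi2 : (centralizer ({u'} : Set Γ)).relIndex H ≤ 2 := by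
    apply CosetPerm.relIndex_le_two
    intro a ha b hb ha' hb'
    rw [mem_centralizer_singleton_iff] at ha' hb' ⊢
    have key : ∀ c, c * u' ≠ u' * c → (x⁻¹ * c * x) * u ≠ u * (x⁻¹ * c * x) := by
      intro c hc h
      apply hc
      have e1 : c * u' = x * ((x⁻¹ * c * x) * u) * x⁻¹ := by rw [hu']; group
      rw [e1, h, hu']; group
    have h1 := hE _ (hHP (hxH' a ha)) _ (hHP (hxH' b hb)) (key a ha') (key b hb')
    have e2 : a * b⁻¹ * u' = x * ((x⁻¹ * a * x * (x⁻¹ * b * x)⁻¹) * u) * x⁻¹ := by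
      rw [hu']; group
    rw [e2, h1, hu']; group
  have hiK : K.relIndex H ≤ 4 := by
    have h1 : K = H ⊓ (centralizer ({u} : Set Γ) ⊓ centralizer ({u'} : Set Γ)) := by
      ext k
      rw [hmemK, mem_inf, mem_inf, mem_centralizer_singleton_iff, mem_centralizer_singleton_iff]
    have h2 : K.relIndex H = (centralizer ({u} : Set Γ) ⊓ centralizer ({u'} : Set Γ)).relIndex H := by
      rw [h1, inf_relIndex_left]
    rw [h2]
    calc _ ≤ (centralizer ({u} : Set Γ)).relIndex H * (centralizer ({u'} : Set Γ)).relIndex H :=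
          relIndex_inf_le
      _ ≤ 2 * 2 := Nat.mul_le_mul hi1 hi2
      _ = 4 := by norm_num
  -- `3` divides the order of `x`
  have h3x : 3 ∣ orderOf x := by
    by_contra h3
    have hxKn : x ∈ normalizer (K : Set Γ) := by
      rw [mem_normalizer_iff]
      intro k
      have : ∀ k ∈ K, x * k * x⁻¹ = k := by
        intro k hk
        have := mem_centralizer_iff.mp hxK k hk
        rw [← this, mul_inv_cancel_right]
      constructor
      · intro hk; rw [this k hk]; exact hk
      · intro hk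
        have h1 := this _ hk
        have h2 : x * k * x⁻¹ = k := by
          have h3 : x * (x * k * x⁻¹) * x⁻¹ = x * k * x⁻¹ := h1
          have h4 : x * k * x⁻¹ = x⁻¹ * (x * (x * k * x⁻¹) * x⁻¹) * x := by group
          rw [h4, h3]; group
        rw [← h2]; exact hk
    have h1 := CosetPerm.acts_trivially hiK hxH hxKn hxo h3 (by
      intro h _
      rw [pow_orderOf_eq_one]
      simp)
    obtain ⟨h, hh, hxh⟩ := hxc
    apply hxh
    have hk := h1 h hh
    set k := h⁻¹ * (x * h * x⁻¹) with hkdef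
    have hkx : x * k * x⁻¹ = k := by
      have := mem_centralizer_iff.mp hxK k hk
      rw [← this, mul_inv_cancel_right]
    have h2 : ∀ n : ℕ, x ^ n * h * (x ^ n)⁻¹ = h * k ^ n := by
      intro n
      induction n with
      | zero => simp
      | succ n ih =>
        have e1 : x ^ (n + 1) * h * (x ^ (n + 1))⁻¹ = x * (x ^ n * h * (x ^ n)⁻¹) * x⁻¹ := by
          rw [pow_succ']; group
        rw [e1, ih]
        have e2 : x * (h * k ^ n) * x⁻¹ = (x * h * x⁻¹) * (x * k * x⁻¹) ^ n := by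
          rw [conj_pow]; group
        rw [e2, hkx, pow_succ', ← mul_assoc, hkdef]
        group
    have h3 := h2 (orderOf x)
    rw [pow_orderOf_eq_one] at h3
    have h4 : k ^ orderOf x = 1 := by
      have : h = h * k ^ orderOf x := by simpa using h3
      exact (mul_eq_left.mp this.symm)
    have h5 : k = 1 := by
      obtain ⟨j, hj⟩ := (IsPGroup.iff_orderOf.mp (hP.to_le hHP)) ⟨k, hKH hk⟩
      rw [Subgroup.orderOf_mk] at hj
      have h6 : orderOf k ∣ orderOf x := orderOf_dvd_of_pow_eq_one h4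
      have h7 : Nat.Coprime (orderOf x) (2 ^ j) :=
        Nat.Coprime.pow_right j (Nat.coprime_two_right.mpr hxo)
      rw [← orderOf_eq_one_iff]
      exact Nat.eq_one_of_dvd_coprimes h7 h6 (hj ▸ dvd_rfl)
    have h6 := h2 1
    rw [h5] at h6
    simp only [pow_one, mul_one] at h6
    rwa [mul_inv_eq_iff_eq_mul] at h6
  have h3m : ¬ 3 ∣ m := by
    intro h
    have := Nat.dvd_gcd h h3x
    rw [hmx] at this
    norm_num at this
  -- the subgroup `P_z` and the centre of `P`
  let Zp : Subgroup Γ :=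
    { carrier := {v | v ∈ P ∧ ∀ g ∈ P, v * g = g * v}
      one_mem' := ⟨P.one_mem, by simp⟩
      mul_mem' := by
        rintro a b ⟨ha1, ha2⟩ ⟨hb1, hb2⟩
        refine ⟨P.mul_mem ha1 hb1, fun g hg => ?_⟩
        rw [mul_assoc, hb2 g hg, ← mul_assoc, ha2 g hg, mul_assoc]
      inv_mem' := by
        rintro a ⟨ha1, ha2⟩
        refine ⟨P.inv_mem ha1, fun g hg => ?_⟩
        have : Commute a g := ha2 g hg
        exact this.inv_left.eq }
  have hmemZp : ∀ v, v ∈ Zp ↔ v ∈ P ∧ ∀ g ∈ P, v * g = g * v := fun v => Iff.rfl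
  let Pz : Subgroup Γ :=
    { carrier := {v | v ∈ P ∧ ∀ g ∈ P, ⁅v, g⁆ = 1 ∨ ⁅v, g⁆ = z}
      one_mem' := ⟨P.one_mem, fun g _ => Or.inl (by simp)⟩
      mul_mem' := by
        rintro a b ⟨ha1, ha2⟩ ⟨hb1, hb2⟩
        refine ⟨P.mul_mem ha1 hb1, fun g hg => ?_⟩
        have e1 : ⁅a * b, g⁆ = a * ⁅b, g⁆ * a⁻¹ * ⁅a, g⁆ := by
          rw [commutatorElement_def, commutatorElement_def, commutatorElement_def]; group
        rw [e1]
        rcases hb2 g hg with h1 | h1 <;> rcases ha2 g hg with h2 | h2 <;> rw [h1, h2]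
        · left; group
        · right; group
        · right; rw [← hzc a ha1, mul_inv_cancel_right, mul_one]
        · left; rw [← hzc a ha1, mul_inv_cancel_right, hz2]
      inv_mem' := by
        rintro a ⟨ha1, ha2⟩
        refine ⟨P.inv_mem ha1, fun g hg => ?_⟩
        have e1 : ⁅a⁻¹, g⁆ = a⁻¹ * ⁅a, g⁆⁻¹ * a := by
          rw [commutatorElement_def, commutatorElement_def]; group
        rw [e1]
        rcases ha2 g hg with h1 | h1 <;> rw [h1]
        · left; group
        · right; rw [hzinv, ← hzc _ (P.inv_mem ha1), inv_mul_cancel_right] }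
  have hmemPz : ∀ v, v ∈ Pz ↔ v ∈ P ∧ ∀ g ∈ P, ⁅v, g⁆ = 1 ∨ ⁅v, g⁆ = z := fun v => Iff.rfl
  have hZpPz : Zp ≤ Pz := by
    intro v hv
    obtain ⟨h1, h2⟩ := (hmemZp v).mp hv
    rw [hmemPz]
    refine ⟨h1, fun g hg => Or.inl ?_⟩
    rw [commutatorElement_eq_one_iff_mul_comm]
    exact h2 g hg
  have hPzP : Pz ≤ P := fun v hv => ((hmemPz v).mp hv).1
  have hPK : P ≤ normalizer (K : Set Γ) := by
    intro p hp
    have hun : u ∈ normalizer (K : Set Γ) := by
      have h0 : ∀ k ∈ K, u * k * u⁻¹ = k := by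
        intro k hk
        rw [← ((hmemK k).mp hk).2.1, mul_inv_cancel_right]
      rw [mem_normalizer_iff]
      intro k
      constructor
      · intro hk; rw [h0 k hk]; exact hk
      · intro hk
        have h1 := h0 _ hk
        have h2 : u * k * u⁻¹ = k := by
          have h4 : u * k * u⁻¹ = u⁻¹ * (u * (u * k * u⁻¹) * u⁻¹) * u := by group
          rw [h4, h1]; group
        rw [← h2]; exact hk
    by_cases hpH : p ∈ H
    · exact hHK hpH
    · have h1 := mul_mem (hHK (hHu p hp hpH)) hun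
      rwa [inv_mul_cancel_right] at h1
  have hKPz : K ⊓ Pz ≤ Zp := by
    rintro v ⟨hvK, hvPz⟩
    obtain ⟨h1, h2⟩ := (hmemPz v).mp hvPz
    rw [hmemZp]
    refine ⟨h1, fun g hg => ?_⟩
    rw [← commutatorElement_eq_one_iff_mul_comm]
    rcases h2 g hg with h3 | h3
    · exact h3
    · exfalso
      apply hzK
      rw [← h3]
      have e1 : ⁅v, g⁆ = v * (g * v⁻¹ * g⁻¹) := by rw [commutatorElement_def]; group
      rw [e1]
      exact K.mul_mem hvK ((mem_normalizer_iff.mp (hPK hg) _).mp (K.inv_mem hvK))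
  have hzZp : z ∈ Zp := (hmemZp z).mpr ⟨hzP, hzc⟩
  have hidx4 : Zp.relIndex Pz ≤ 4 := by
    have h1 : K.relIndex P ≤ 8 := by
      rw [← relIndex_mul_relIndex _ _ _ hKH hHP]
      calc _ ≤ 4 * 2 := Nat.mul_le_mul hiK hiH
        _ = 8 := by norm_num
    have hne : ∀ A B : Subgroup Γ, A.relIndex B ≠ 0 := fun A B => index_ne_zero_of_finite
    have h2 : K.relIndex Pz ≤ 8 := (relIndex_le_of_le_right hPzP (hne _ _)).trans h1
    have h3 : (K ⊓ Pz).relIndex Zp * Zp.relIndex Pz = K.relIndex Pz := by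
      rw [relIndex_mul_relIndex _ _ _ hKPz hZpPz, inf_relIndex_right]
    have h4 : 2 ≤ (K ⊓ Pz).relIndex Zp := by
      have h5 : (K ⊓ Pz).relIndex Zp ≠ 1 := by
        rw [Ne, relIndex_eq_one]
        intro h
        exact hzK (h hzZp).1
      have h6 := hne (K ⊓ Pz) Zp
      omega
    have h7 : 2 * Zp.relIndex Pz ≤ 8 := by
      calc 2 * Zp.relIndex Pz ≤ (K ⊓ Pz).relIndex Zp * Zp.relIndex Pz := Nat.mul_le_mul_right _ h4
        _ = K.relIndex Pz := h3
        _ ≤ 8 := h2
    omega
  -- `l` acts trivially on `P_z / Z(P)`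
  have hlZp : l ∈ normalizer (Zp : Set Γ) := by
    rw [mem_normalizer_iff]
    intro v
    rw [hmemZp, hmemZp, ← hlP v]
    refine and_congr_right fun hv => ?_
    constructor
    · intro h g hg
      have h1 := h _ (hlP' g hg)
      have e1 : l * v * l⁻¹ * g = l * (v * (l⁻¹ * g * l)) * l⁻¹ := by group
      rw [e1, h1]; group
    · intro h g hg
      have h1 := h _ ((hlP g).mp hg)
      have e1 : v * g = l⁻¹ * (l * v * l⁻¹ * (l * g * l⁻¹)) * l := by group
      rw [e1, h1]; group
  have hlPz : l ∈ normalizer (Pz : Set Γ) := by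
    rw [mem_normalizer_iff]
    intro v
    rw [hmemPz, hmemPz, ← hlP v]
    refine and_congr_right fun hv => ?_
    constructor
    · intro h g hg
      have e1 : ⁅l * v * l⁻¹, g⁆ = l * ⁅v, l⁻¹ * g * l⁆ * l⁻¹ := by
        rw [commutatorElement_def, commutatorElement_def]; group
      rw [e1]
      rcases h _ (hlP' g hg) with h1 | h1 <;> rw [h1]
      · left; group
      · right; exact hlz'
    · intro h g hg
      have e1 : ⁅v, g⁆ = l⁻¹ * ⁅l * v * l⁻¹, l * g * l⁻¹⁆ * l := by
        rw [commutatorElement_def, commutatorElement_def]; group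
      rw [e1]
      rcases h _ ((hlP g).mp hg) with h1 | h1 <;> rw [h1]
      · left; group
      · right; exact hlz
  have hact := CosetPerm.acts_trivially hidx4 hlPz hlZp hm2 h3m (by
    intro v hv
    have e1 : v⁻¹ * (l ^ m * v * (l ^ m)⁻¹) = ⁅v⁻¹, l ^ m⁆ := by
      rw [commutatorElement_def]; group
    rw [e1]
    rcases ((hmemPz _).mp (Pz.inv_mem hv)).2 _ hlm with h1 | h1 <;> rw [h1]
    · exact Zp.one_mem
    · exact hzZp)
  have hu₂Pz : u₂ ∈ Pz := by
    rw [hmemPz]
    refine ⟨hu₂P, fun g hg => ?_⟩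
    have e1 : ⁅u₂, g⁆ = ⁅g, u₂⁆⁻¹ := by rw [commutatorElement_inv]
    rw [e1]
    rcases hD₂ g hg with h1 | h1 <;> rw [h1]
    · left; simp
    · right; rw [hlz, hzinv]
  have hfin := hact u₂ hu₂Pz
  rw [← hul] at hfin
  -- so `u = u₂ ζ` with `ζ` central
  apply hF
  have h1 := ((hmemZp _).mp hfin).2 u₂ hu₂P
  have h2 : u * u₂ = u₂ * ((u₂⁻¹ * u) * u₂) := by group
  rw [h2, h1]; group

end Cfsg.Agent.H504.ClassTwoConj
end

-- part: H504/MaxBad
section
/-!
# The normaliser of a maximal "bad" subgroup when the Sylow `2`-subgroup has class two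

`structure_of_maximal`: `Y` is a finite group with a normal `2`-subgroup `H` and a self-normalising
Sylow `2`-subgroup `P` of class at most two containing `C_P(H)`.  If for every `2`-subgroup `K > H`
the elements of odd order in `N(K)` centralise `H`, but some `x` of odd order does not, then
`[Y, H] ≤ Z(H)`, the index of `H` in `P` is two, and `P \ H` inverts `x` modulo `H`.
-/

set_option autoImplicit false

namespace Cfsg.Agent.H504.MaxBad

open Subgroup
open scoped commutatorElement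

/-- In an abelian `2`-group, elements of odd order centralising the involutions centralise. -/
theorem commute_of_involutions {Y : Type*} [Group Y] [Finite Y] {Z : Subgroup Y}
    (hZ2 : IsPGroup 2 Z) (hZc : ∀ a ∈ Z, ∀ b ∈ Z, a * b = b * a) {y : Y}
    (hy : y ∈ normalizer (Z : Set Y)) (ho : (orderOf y).Coprime 2)
    (hU : ∀ a ∈ Z, a * a = 1 → a * y = y * a) : ∀ a ∈ Z, y * a = a * y := by
  have hcomm : IsMulCommutative Z := ⟨⟨fun a b => Subtype.ext (hZc a a.2 b b.2)⟩⟩
  have hle : zpowers y ≤ normalizer (Z : Set Y) := by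
    rw [zpowers_le]; exact hy
  have hcop : (Nat.card (zpowers y)).Coprime (Nat.card Z) := by
    rw [Nat.card_zpowers]
    obtain ⟨k, hk⟩ := IsPGroup.iff_card.mp hZ2
    rw [hk]
    exact ho.pow_right k
  have h1 := Cfsg.Agent.S0056.result (zpowers y) Z hle hcop (by
    intro v hv hvp a ha
    have h2 : orderOf v = 2 := by
      obtain ⟨k, hk⟩ := (IsPGroup.iff_orderOf.mp hZ2) ⟨v, hv⟩
      rw [Subgroup.orderOf_mk] at hk
      rw [hk] at hvp ⊢
      have h3 : 2 ∣ 2 ^ k := by
        rcases Nat.eq_zero_or_pos k with h | h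
        · rw [h] at hvp; exact absurd hvp (by norm_num)
        · exact dvd_pow_self 2 h.ne'
      exact ((Nat.prime_dvd_prime_iff_eq Nat.prime_two hvp).mp h3).symm
    have h3 : v * v = 1 := by
      rw [← pow_two, ← h2, pow_orderOf_eq_one]
    have h4 := hU v hv h3
    have h5 : a ∈ centralizer ({v} : Set Y) := by
      have h6 : zpowers y ≤ centralizer ({v} : Set Y) := by
        rw [zpowers_le, mem_centralizer_singleton_iff]
        exact h4.symm
      exact h6 ha
    exact (mem_centralizer_singleton_iff.mp h5))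
  intro a ha
  have h2 := mem_centralizer_iff.mp (h1 (mem_zpowers y)) a ha
  exact h2.symm

/-- Elements of odd order acting trivially on `H / Z` and on `Z ≤ Z(H)` centralise the `2`-group
`H`. -/
theorem commute_of_chain {Y : Type*} [Group Y] [Finite Y] {H : Subgroup Y}
    (hH2 : IsPGroup 2 H) {y : Y} (hy : y ∈ normalizer (H : Set Y)) (ho : (orderOf y).Coprime 2)
    (hc : ∀ h ∈ H, y * (y * h * y⁻¹ * h⁻¹) = (y * h * y⁻¹ * h⁻¹) * y) :
    ∀ h ∈ H, y * h = h * y := by
  intro h hh
  set c := y * h * y⁻¹ * h⁻¹ with hcdef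
  have hcy : y * c * y⁻¹ = c := by rw [hc h hh, mul_inv_cancel_right]
  have hcH : c ∈ H := H.mul_mem ((mem_normalizer_iff.mp hy h).mp hh) (H.inv_mem hh)
  have h1 : ∀ n : ℕ, y ^ n * h * (y ^ n)⁻¹ = c ^ n * h := by
    intro n
    induction n with
    | zero => simp
    | succ n ih =>
      have e1 : y ^ (n + 1) * h * (y ^ (n + 1))⁻¹ = y * (y ^ n * h * (y ^ n)⁻¹) * y⁻¹ := by
        rw [pow_succ']; group
      rw [e1, ih]
      have e2 : y * (c ^ n * h) * y⁻¹ = (y * c * y⁻¹) ^ n * (y * h * y⁻¹) := by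
        rw [conj_pow]; group
      rw [e2, hcy, pow_succ, mul_assoc, mul_assoc]
      congr 1
      rw [hcdef]; group
  have h2 := h1 (orderOf y)
  rw [pow_orderOf_eq_one] at h2
  have h3 : c ^ orderOf y = 1 := by
    have : h = c ^ orderOf y * h := by simpa using h2
    exact (mul_eq_right.mp this.symm)
  have h5 : c = 1 := by
    obtain ⟨j, hj⟩ := (IsPGroup.iff_orderOf.mp hH2) ⟨c, hcH⟩
    rw [Subgroup.orderOf_mk] at hj
    have h6 : orderOf c ∣ orderOf y := orderOf_dvd_of_pow_eq_one h3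
    rw [← orderOf_eq_one_iff]
    exact Nat.eq_one_of_dvd_coprimes (ho.pow_right j) h6 (hj ▸ dvd_rfl)
  rw [h5] at hcdef
  exact mul_inv_eq_iff_eq_mul.mp (mul_inv_eq_one.mp hcdef.symm)

theorem structure_of_maximal {Y : Type*} [Group Y] [Finite Y] (H : Subgroup Y) [hHn : H.Normal]
    (P : Sylow 2 Y) (hHP : H ≤ P)
    (hcl : ∀ a ∈ (P : Subgroup Y), ∀ b ∈ (P : Subgroup Y), ∀ c ∈ (P : Subgroup Y),
      ⁅a, b⁆ * c = c * ⁅a, b⁆)
    (hcent : ∀ c ∈ (P : Subgroup Y), (∀ h ∈ H, c * h = h * c) → c ∈ H)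
    (hN : normalizer ((P : Subgroup Y) : Set Y) ≤ P)
    (hmax : ∀ K : Subgroup Y, H ≤ K → IsPGroup 2 K → K ≠ H →
      ∀ y ∈ normalizer (K : Set Y), (orderOf y).Coprime 2 → y ∈ centralizer (H : Set Y))
    (x : Y) (hx : (orderOf x).Coprime 2) (hxc : x ∉ centralizer (H : Set Y)) :
    (∀ y : Y, ∀ h ∈ H, ∀ k ∈ H, ⁅y, h⁆ * k = k * ⁅y, h⁆) ∧
    (∀ a ∈ (P : Subgroup Y), ∀ b ∈ (P : Subgroup Y), a ∉ H → b ∉ H → a * b⁻¹ ∈ H) ∧
    (∀ t ∈ (P : Subgroup Y), t ∉ H → t * x * t⁻¹ * x ∈ H) := by
  have hH2 : IsPGroup 2 H := P.2.to_le hHP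
  have hcommP : ∀ a ∈ (P : Subgroup Y), ∀ b ∈ (P : Subgroup Y), ⁅a, b⁆ ∈ (P : Subgroup Y) := by
    intro a ha b hb
    rw [commutatorElement_def]
    exact mul_mem (mul_mem (mul_mem ha hb) (inv_mem ha)) (inv_mem hb)
  have hcommH : ∀ a ∈ (P : Subgroup Y), ∀ b ∈ (P : Subgroup Y), ⁅a, b⁆ ∈ H := fun a ha b hb =>
    hcent _ (hcommP a ha b hb) fun h hh => hcl a ha b hb h (hHP hh)
  -- Step 0: `[Y, H] ≤ Z(H)`
  set Z : Subgroup Y := H ⊓ centralizer (H : Set Y) with hZdef
  have hZn : Z.Normal := by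
    rw [hZdef]; infer_instance
  have hZH : Z ≤ H := inf_le_left
  have hZc : ∀ a ∈ Z, ∀ b ∈ H, a * b = b * a := by
    rintro a ⟨-, ha⟩ b hb
    exact (mem_centralizer_iff.mp ha b hb).symm
  have step0 : ∀ y : Y, ∀ h ∈ H, ⁅y, h⁆ ∈ Z := by
    set C₁ : Subgroup Y :=
      (centralizer ((H.map (QuotientGroup.mk' Z) : Subgroup (Y ⧸ Z)) : Set (Y ⧸ Z))).comap
        (QuotientGroup.mk' Z) with hC₁
    have hC₁n : C₁.Normal := by
      have h1 : (H.map (QuotientGroup.mk' Z)).Normal := hHn.map _ (QuotientGroup.mk'_surjective Z)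
      rw [hC₁]; infer_instance
    have hmemC₁ : ∀ y, y ∈ C₁ ↔ ∀ h ∈ H, ⁅y, h⁆ ∈ Z := by
      intro y
      rw [hC₁, mem_comap, mem_centralizer_iff]
      constructor
      · intro h k hk
        have h1 := h (QuotientGroup.mk' Z k) (mem_map_of_mem _ hk)
        rw [← QuotientGroup.eq_one_iff, ← QuotientGroup.mk'_apply, map_commutatorElement,
          commutatorElement_eq_one_iff_mul_comm]
        exact h1.symm
      · rintro h _ ⟨k, hk, rfl⟩
        have h1 := h k hk
        rw [← QuotientGroup.eq_one_iff, ← QuotientGroup.mk'_apply, map_commutatorElement,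
          commutatorElement_eq_one_iff_mul_comm] at h1
        exact h1.symm
    have hPC₁ : (P : Subgroup Y) ≤ C₁ := by
      intro p hp
      rw [hmemC₁]
      intro h hh
      refine ⟨hcommH p hp h (hHP hh), mem_centralizer_iff.mpr ?_⟩
      intro k hk
      exact (hcl p hp h (hHP hh) k (hHP hk)).symm
    have htop := Sylow.normalizer_sup_eq_top' P hPC₁
    have hC₁top : C₁ = ⊤ := by
      rw [← htop]
      apply le_antisymm le_sup_right
      exact sup_le (hN.trans hPC₁) le_rfl
    intro y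
    have : y ∈ C₁ := by rw [hC₁top]; exact mem_top y
    exact (hmemC₁ y).mp this
  have hxH : ∀ y : Y, y ∈ normalizer (H : Set Y) := fun y => by
    rw [normalizer_eq_top]; exact mem_top y
  have hZ2 : IsPGroup 2 Z := hH2.to_le hZH
  -- an element of odd order centralising the involutions of `Z` centralises `H`
  have hodd : ∀ y : Y, (orderOf y).Coprime 2 → (∀ a ∈ Z, a * a = 1 → a * y = y * a) →
      y ∈ centralizer (H : Set Y) := by
    intro y hy hU
    have h1 : ∀ a ∈ Z, y * a = a * y :=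
      commute_of_involutions hZ2 (fun a ha b hb => hZc a ha b (hZH hb))
        (by rw [normalizer_eq_top]; exact mem_top y) hy hU
    have h2 := commute_of_chain hH2 (hxH y) hy (fun h hh => h1 _ (by
      have := step0 y h hh
      rwa [commutatorElement_def] at this))
    rw [mem_centralizer_iff]
    intro h hh
    exact (h2 h hh).symm
  let φ : Y →* MulAut H := MulAut.conjNormal
  have hφ : ∀ y : Y, φ y = 1 ↔ y ∈ centralizer (H : Set Y) := by
    intro y
    rw [mem_centralizer_iff]
    constructor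
    · intro h k hk
      have h1 : ((φ y ⟨k, hk⟩ : H) : Y) = k := by rw [h]; rfl
      rw [MulAut.conjNormal_apply] at h1
      have h2 : y * k * y⁻¹ = k := h1
      exact (mul_inv_eq_iff_eq_mul.mp h2).symm
    · intro h
      ext ⟨k, hk⟩
      rw [MulAut.conjNormal_apply]
      change y * k * y⁻¹ = k
      rw [← h k hk, mul_inv_cancel_right]
  -- Step 1: squares of elements of `P` lie in `H`
  have step1 : ∀ f ∈ (P : Subgroup Y), f * f ∈ H := by
    intro f hf
    by_contra hff
    -- the subgroup of involutions of `Z`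
    let U : Subgroup Y :=
      { carrier := {a | a ∈ Z ∧ a * a = 1}
        one_mem' := ⟨Z.one_mem, by simp⟩
        mul_mem' := by
          rintro a b ⟨ha1, ha2⟩ ⟨hb1, hb2⟩
          refine ⟨Z.mul_mem ha1 hb1, ?_⟩
          have hab : a * b = b * a := hZc a ha1 b (hZH hb1)
          calc a * b * (a * b) = a * b * (b * a) := by rw [hab]
            _ = a * (b * b) * a := by group
            _ = 1 := by rw [hb2, mul_one, ha2]
        inv_mem' := by
          rintro a ⟨ha1, ha2⟩
          refine ⟨Z.inv_mem ha1, ?_⟩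
          rw [← mul_inv_rev, ha2, inv_one] }
    have hmemU : ∀ a, a ∈ U ↔ a ∈ Z ∧ a * a = 1 := fun a => Iff.rfl
    have hUn : U.Normal := by
      refine ⟨fun a ha g => ?_⟩
      rw [hmemU] at ha ⊢
      refine ⟨hZn.conj_mem a ha.1 g, ?_⟩
      calc g * a * g⁻¹ * (g * a * g⁻¹) = g * (a * a) * g⁻¹ := by group
        _ = 1 := by rw [ha.2]; group
    set K₀ : Subgroup Y := centralizer (U : Set Y) with hK₀
    have hK₀n : K₀.Normal := by rw [hK₀]; infer_instance
    have hHK₀ : H ≤ K₀ := by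
      intro h hh
      rw [hK₀, mem_centralizer_iff]
      intro a ha
      exact hZc a ((hmemU a).mp ha).1 h hh
    have hfK₀ : f * f ∈ K₀ := by
      rw [hK₀, mem_centralizer_iff]
      intro a ha
      obtain ⟨ha1, ha2⟩ := (hmemU a).mp ha
      have haP : a ∈ (P : Subgroup Y) := hHP (hZH ha1)
      set c := ⁅f, a⁆ with hc
      have hcP : c ∈ (P : Subgroup Y) := hcommP f hf a haP
      have hcc : ∀ g ∈ (P : Subgroup Y), c * g = g * c := fun g hg => hcl f hf a haP g hg
      have e1 : f * a * f⁻¹ = c * a := by rw [hc, commutatorElement_def]; group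
      have e2 : c * c = 1 := by
        have e3 : (f * a * f⁻¹) * (f * a * f⁻¹) = 1 := by
          calc (f * a * f⁻¹) * (f * a * f⁻¹) = f * (a * a) * f⁻¹ := by group
            _ = 1 := by rw [ha2]; group
        rw [e1] at e3
        calc c * c = c * c * (a * a) := by rw [ha2, mul_one]
          _ = c * (c * a) * a := by group
          _ = c * (a * c) * a := by rw [hcc a haP]
          _ = c * a * (c * a) := by group
          _ = 1 := e3
      have e4 : (f * f) * a * (f * f)⁻¹ = a := by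
        calc (f * f) * a * (f * f)⁻¹ = f * (f * a * f⁻¹) * f⁻¹ := by group
          _ = f * (c * a) * f⁻¹ := by rw [e1]
          _ = (f * c) * a * f⁻¹ := by group
          _ = (c * f) * a * f⁻¹ := by rw [hcc f hf]
          _ = c * (f * a * f⁻¹) := by group
          _ = c * (c * a) := by rw [e1]
          _ = (c * c) * a := by group
          _ = a := by rw [e2, one_mul]
      exact (mul_inv_eq_iff_eq_mul.mp e4).symm
    -- a Sylow subgroup of `K₀` containing `H` and `f * f`
    have hQP : H ⊔ zpowers (f * f) ≤ P := sup_le hHP (by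
      rw [zpowers_le]; exact mul_mem hf hf)
    have hQK : H ⊔ zpowers (f * f) ≤ K₀ := sup_le hHK₀ (by rw [zpowers_le]; exact hfK₀)
    have hQ2 : IsPGroup 2 ((H ⊔ zpowers (f * f)).subgroupOf K₀) :=
      (P.2.to_le hQP).comap_of_injective _ (Subgroup.subtype_injective _)
    obtain ⟨T, hT⟩ := hQ2.exists_le_sylow
    have hTmap : H ⊔ zpowers (f * f) ≤ (T : Subgroup K₀).map K₀.subtype := by
      have h1 := map_mono (f := K₀.subtype) hT
      rwa [subgroupOf_map_subtype, inf_of_le_left hQK] at h1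
    have hT2 : IsPGroup 2 ((T : Subgroup K₀).map K₀.subtype) := T.2.map _
    have hTne : (T : Subgroup K₀).map K₀.subtype ≠ H := by
      intro h
      apply hff
      rw [← h]
      exact hTmap (mem_sup_right (mem_zpowers _))
    have hFr := Sylow.normalizer_sup_eq_top T
    apply hxc
    rw [← hφ]
    apply Basics.map_eq_one_of_sup φ K₀ (normalizer (((T : Subgroup K₀).map K₀.subtype : Subgroup Y) : Set Y))
      (p := 2) _ _ _ hx
    · apply Basics.isPGroup_map_of_coprime
      intro y hy hyo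
      rw [hφ]
      apply hodd y hyo
      intro a ha1 ha2
      exact mem_centralizer_iff.mp hy a ((hmemU a).mpr ⟨ha1, ha2⟩)
    · apply Basics.isPGroup_map_of_coprime
      intro y hy hyo
      rw [hφ]
      exact hmax _ (le_sup_left.trans hTmap) hT2 hTne y hy hyo
    · rw [sup_comm]; exact hFr
  -- Step 2: the quotient by `H`
  let π : Y →* Y ⧸ H := QuotientGroup.mk' H
  have hπs : Function.Surjective π := QuotientGroup.mk'_surjective H
  have hπ : ∀ y, π y = 1 ↔ y ∈ H := fun y => QuotientGroup.eq_one_iff y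
  let P' : Sylow 2 (Y ⧸ H) := P.mapSurjective hπs
  have hP' : (P' : Subgroup (Y ⧸ H)) = (P : Subgroup Y).map π := rfl
  have hP'comap : ((P' : Subgroup (Y ⧸ H))).comap π = P := by
    rw [hP', comap_map_eq, sup_eq_left]
    intro y hy
    exact hHP ((hπ y).mp hy)
  have hP'mem : ∀ y, π y ∈ (P' : Subgroup (Y ⧸ H)) ↔ y ∈ (P : Subgroup Y) := by
    intro y
    rw [← mem_comap, hP'comap]
  have hP'c : ∀ a ∈ (P' : Subgroup (Y ⧸ H)), ∀ b ∈ (P' : Subgroup (Y ⧸ H)), a * b = b * a := by
    rintro _ ⟨a, ha, rfl⟩ _ ⟨b, hb, rfl⟩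
    rw [← commutatorElement_eq_one_iff_mul_comm, ← map_commutatorElement]
    exact (hπ _).mpr (hcommH a ha b hb)
  have hP'N : normalizer ((P' : Subgroup (Y ⧸ H)) : Set (Y ⧸ H)) ≤ P' := by
    intro q hq
    obtain ⟨y, rfl⟩ := hπs q
    rw [hP'mem]
    apply hN
    have h1 : y ∈ (normalizer ((P' : Subgroup (Y ⧸ H)) : Set (Y ⧸ H))).comap π := hq
    rw [comap_normalizer_eq_of_surjective _ hπs, hP'comap] at h1
    exact h1
  have hP'NC : normalizer (P' : Set (Y ⧸ H)) ≤ centralizer ((P' : Subgroup (Y ⧸ H)) : Set (Y ⧸ H)) := by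
    intro q hq
    rw [mem_centralizer_iff]
    intro a ha
    exact hP'c a ha q (hP'N hq)
  set N' : Subgroup (Y ⧸ H) := (MonoidHom.transferSylow P' hP'NC).ker with hN'
  have hN'n : N'.Normal := by rw [hN']; infer_instance
  have hcompl : IsComplement' N' (P' : Subgroup (Y ⧸ H)) :=
    MonoidHom.ker_transferSylow_isComplement' P' hP'NC
  have hN'card : ¬ 2 ∣ Nat.card N' := MonoidHom.not_dvd_card_ker_transferSylow P' hP'NC
  have hN'mem : ∀ q : Y ⧸ H, (orderOf q).Coprime 2 → q ∈ N' := by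
    intro q hq
    rw [hN', MonoidHom.mem_ker]
    exact Cfsg.Agent.Transfer.NormalPComplement.map_eq_one_of_coprime P'.2 _ hq
  have hN'odd : ∀ q ∈ N', (orderOf q).Coprime 2 := by
    intro q hq
    have h1 : orderOf q ∣ Nat.card N' := by
      rw [← Subgroup.orderOf_mk q hq]
      exact orderOf_dvd_natCard _
    rw [Nat.coprime_comm, Nat.prime_two.coprime_iff_not_dvd]
    intro h
    exact hN'card (h.trans h1)
  have hxπ : (orderOf (π x)).Coprime 2 := Nat.Coprime.coprime_dvd_left (orderOf_map_dvd π x) hx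
  -- centralizers in `N'` of elements of `P'`
  have hcentN' : ∀ a ∈ (P' : Subgroup (Y ⧸ H)), a ≠ 1 → ∀ q ∈ N', q * a = a * q →
      q ∈ (centralizer (H : Set Y)).map π := by
    rintro _ ⟨f, hf, rfl⟩ hf1 q hq hqf
    obtain ⟨y, rfl⟩ := hπs q
    obtain ⟨n, hn1, hn2⟩ := Basics.exists_lift_coprime H (hN'odd _ hq)
    have hn2' : π (y ^ n) = π y := hn2
    rw [← hn2'] at hqf ⊢
    refine mem_map_of_mem π ?_
    have hfH : f ∉ H := fun h => hf1 ((hπ f).mpr h)
    refine hmax (H ⊔ zpowers f) le_sup_left (P.2.to_le (sup_le hHP (by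
      rw [zpowers_le]; exact hf))) (fun h => hfH (by
        rw [← h]; exact mem_sup_right (mem_zpowers f))) _ ?_ hn1
    -- `y ^ n` normalises `H⟨f⟩`
    set w := y ^ n with hw
    have key : ∀ v : Y, π (v) * π f = π f * π v → ∀ g ∈ H ⊔ zpowers f, v * g * v⁻¹ ∈ H ⊔ zpowers f := by
      intro v hv g hg
      have h1 : H ⊔ zpowers f ≤ (H ⊔ zpowers f).comap (MulAut.conj v).toMonoidHom := by
        apply sup_le
        · intro h hh
          rw [mem_comap]
          exact mem_sup_left (hHn.conj_mem h hh v)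
        · rw [zpowers_le, mem_comap]
          have h2 : v * f * v⁻¹ * f⁻¹ ∈ H := by
            rw [← hπ, map_mul, map_mul, map_mul, map_inv, map_inv, hv]
            group
          have h3 : v * f * v⁻¹ = (v * f * v⁻¹ * f⁻¹) * f := by group
          change v * f * v⁻¹ ∈ _
          rw [h3]
          exact mul_mem (mem_sup_left h2) (mem_sup_right (mem_zpowers f))
      exact h1 hg
    rw [mem_normalizer_iff]
    intro g
    constructor
    · exact key w hqf g
    · intro hg
      have h1 := key w⁻¹ (by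
        rw [map_inv]
        have : Commute (π w) (π f) := hqf
        exact this.inv_left.eq) _ hg
      have h2 : w⁻¹ * (w * g * w⁻¹) * w⁻¹⁻¹ = g := by group
      rwa [h2] at h1
  -- Step 3: `P / H` is cyclic
  have hcyc : IsCyclic P' := by
    by_contra hnc
    have hmc : IsMulCommutative P' := ⟨⟨fun a b => Subtype.ext (hP'c a a.2 b b.2)⟩⟩
    have hle : (P' : Subgroup (Y ⧸ H)) ≤ normalizer (N' : Set (Y ⧸ H)) := by
      rw [normalizer_eq_top]; exact le_top
    have hcop : (Nat.card P').Coprime (Nat.card N') := by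
      obtain ⟨k, hk⟩ := IsPGroup.iff_card.mp P'.2
      rw [hk]
      exact (Nat.Coprime.pow_left k ((Nat.prime_two.coprime_iff_not_dvd).mpr hN'card))
    have h1 := Cfsg.Agent.S0058.result (P' : Subgroup (Y ⧸ H)) N' hnc hle hcop
    have h2 : N' ≤ (centralizer (H : Set Y)).map π := by
      rw [← h1]
      refine iSup₂_le fun a ha => ?_
      rintro q ⟨hq1, hq2⟩
      exact hcentN' a ha.1 ha.2 q hq1 (mem_centralizer_singleton_iff.mp hq2)
    obtain ⟨c, hc, hcx⟩ := h2 (hN'mem _ hxπ)
    apply hxc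
    have hcn : (centralizer (H : Set Y)).Normal := inferInstance
    have h3 : c⁻¹ * x ∈ H := by
      rw [← hπ, map_mul, map_inv, hcx, inv_mul_cancel]
    have h4 : (orderOf x).Coprime (orderOf (c⁻¹ * x)) := by
      obtain ⟨k, hk⟩ := (IsPGroup.iff_orderOf.mp hH2) ⟨c⁻¹ * x, h3⟩
      rw [Subgroup.orderOf_mk] at hk
      rw [hk]
      exact hx.pow_right k
    refine Basics.mem_of_coprime (h := c⁻¹ * x) (by rw [normalizer_eq_top]; exact mem_top _) ?_ h4
    have h5 : (c⁻¹ * x)⁻¹ * x = x⁻¹ * c * x⁻¹⁻¹ := by group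
    rw [h5]
    exact hcn.conj_mem c hc _
  have hsq : ∀ a ∈ (P' : Subgroup (Y ⧸ H)), a * a = 1 := by
    rintro _ ⟨f, hf, rfl⟩
    rw [← map_mul]
    exact (hπ _).mpr (step1 f hf)
  -- all nontrivial elements of `P / H` are equal
  have huniq : ∀ a ∈ (P' : Subgroup (Y ⧸ H)), ∀ b ∈ (P' : Subgroup (Y ⧸ H)), a ≠ 1 → b ≠ 1 →
      a = b := by
    obtain ⟨⟨g, hg⟩, hgen⟩ := hcyc
    have key : ∀ a ∈ (P' : Subgroup (Y ⧸ H)), a ≠ 1 → a = g := by
      intro a ha ha1
      obtain ⟨n, hn⟩ := hgen ⟨a, ha⟩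
      have hn' : g ^ n = a := congrArg Subtype.val hn
      rcases Int.even_or_odd' n with ⟨k, hk | hk⟩
      · exfalso
        apply ha1
        rw [← hn', hk, zpow_mul, zpow_two, hsq g hg, one_zpow]
      · rw [← hn', hk, zpow_add, zpow_mul, zpow_two, hsq g hg, one_zpow, one_mul, zpow_one]
    intro a ha b hb ha1 hb1
    rw [key a ha ha1, key b hb hb1]
  refine ⟨fun y h hh k hk => hZc _ (step0 y h hh) k hk, ?_, ?_⟩
  · intro a ha b hb ha' hb'
    rw [← hπ, map_mul, map_inv, mul_inv_eq_one]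
    exact huniq _ ((hP'mem a).mpr ha) _ ((hP'mem b).mpr hb) (fun h => ha' ((hπ a).mp h))
      (fun h => hb' ((hπ b).mp h))
  · intro t ht htH
    have htπ : π t ≠ 1 := fun h => htH ((hπ t).mp h)
    have htP' : π t ∈ (P' : Subgroup (Y ⧸ H)) := (hP'mem t).mpr ht
    have htt : π t * π t = 1 := hsq _ htP'
    have htinv : (π t)⁻¹ = π t := inv_eq_of_mul_eq_one_right htt
    let ψ : N' →* N' := (MulAut.conjNormal (π t) : MulAut N').toMonoidHom
    have hψ : ∀ q : N', ((ψ q : N') : Y ⧸ H) = π t * q * (π t)⁻¹ := fun q =>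
      MulAut.conjNormal_apply _ _
    have hfpf : MonoidHom.FixedPointFree ψ := by
      intro q hq
      have h1 : π t * q * (π t)⁻¹ = q := by rw [← hψ, hq]
      have h2 : (q : Y ⧸ H) * π t = π t * q := (mul_inv_eq_iff_eq_mul.mp h1).symm
      have h3 : (q : Y ⧸ H) ∈ (P' : Subgroup (Y ⧸ H)) := by
        apply hP'N
        rw [mem_normalizer_iff]
        have h4 : ∀ a ∈ (P' : Subgroup (Y ⧸ H)), a * (q : Y ⧸ H) = q * a := by
          intro a ha
          by_cases ha1 : a = 1
          · rw [ha1]; simp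
          · rw [huniq a ha _ htP' ha1 htπ]; exact h2.symm
        intro a
        constructor
        · intro ha
          rw [← h4 a ha, mul_inv_cancel_right]; exact ha
        · intro ha
          have h5 := h4 _ ha
          have h6 : (q : Y ⧸ H) * a * (q : Y ⧸ H)⁻¹ = a := by
            have h7 : (q : Y ⧸ H) * a * (q : Y ⧸ H)⁻¹ =
                (q : Y ⧸ H)⁻¹ * ((q : Y ⧸ H) * ((q : Y ⧸ H) * a * (q : Y ⧸ H)⁻¹)) := by group
            rw [h7, ← h5]; group
          rwa [h6] at ha
      have h4 : (q : Y ⧸ H) ∈ N' ⊓ (P' : Subgroup (Y ⧸ H)) := ⟨q.2, h3⟩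
      rw [hcompl.disjoint.eq_bot, mem_bot] at h4
      exact Subtype.ext h4
    have hinvol : Function.Involutive ψ := by
      intro q
      apply Subtype.ext
      rw [hψ, hψ, htinv]
      calc π t * (π t * q * π t) * π t = (π t * π t) * q * (π t * π t) := by group
        _ = q := by rw [htt]; group
    have h1 := hfpf.coe_eq_inv_of_involutive hinvol
    have h2 := congrFun h1 ⟨π x, hN'mem _ hxπ⟩
    have h3 : π t * π x * (π t)⁻¹ = (π x)⁻¹ := by
      have := congrArg Subtype.val h2
      rw [hψ] at this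
      exact this
    rw [← hπ, map_mul, map_mul, map_mul, map_inv, h3, inv_mul_cancel]

end Cfsg.Agent.H504.MaxBad
end

-- part: H504/BadPair
section
/-!
# Failure of `2`-nilpotency with a self-normalising Sylow `2`-subgroup of class two

`exists_bad`: if the Sylow `2`-subgroup `P` has class at most two and is self-normalising and there
is no normal `2`-complement then there is a subgroup `H` of index two of `P` and an element `x` of
odd order normalising but not centralising `H`, inverted by `P \ H` modulo `H`, such that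
`[N(H), H] ≤ Z(H)`.
-/

set_option autoImplicit false

namespace Cfsg.Agent.H504.BadPair

open Subgroup
open scoped commutatorElement

/-- A `2`-subgroup which is maximal with a non-centralising odd-order element in its normaliser
contains every `2`-element centralising it. -/
theorem centric_of_maximal {Y : Type*} [Group Y] [Finite Y] (H : Subgroup Y) [hHn : H.Normal]
    (hH2 : IsPGroup 2 H)
    (hmax : ∀ K : Subgroup Y, H ≤ K → IsPGroup 2 K → K ≠ H →
      ∀ y ∈ normalizer (K : Set Y), (orderOf y).Coprime 2 → y ∈ centralizer (H : Set Y))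
    (x : Y) (hx : (orderOf x).Coprime 2) (hxc : x ∉ centralizer (H : Set Y))
    (c : Y) (hc : c ∈ centralizer (H : Set Y)) (hc2 : IsPGroup 2 (zpowers c)) : c ∈ H := by
  by_contra hcH
  have hcn : (centralizer (H : Set Y)).Normal := inferInstance
  set N : Subgroup Y := H ⊔ centralizer (H : Set Y) with hN
  have hNn : N.Normal := by rw [hN]; infer_instance
  let φ : Y →* MulAut H := MulAut.conjNormal
  have hφ : ∀ y : Y, φ y = 1 ↔ y ∈ centralizer (H : Set Y) := by
    intro y
    rw [mem_centralizer_iff]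
    constructor
    · intro h k hk
      have h1 : ((φ y ⟨k, hk⟩ : H) : Y) = k := by rw [h]; rfl
      rw [MulAut.conjNormal_apply] at h1
      have h2 : y * k * y⁻¹ = k := h1
      exact (mul_inv_eq_iff_eq_mul.mp h2).symm
    · intro h
      ext ⟨k, hk⟩
      rw [MulAut.conjNormal_apply]
      change y * k * y⁻¹ = k
      rw [← h k hk, mul_inv_cancel_right]
  have hQ2 : IsPGroup 2 (H ⊔ zpowers c : Subgroup Y) := hH2.to_sup_of_normal_left hc2
  have hQN : H ⊔ zpowers c ≤ N := sup_le_sup_left (by rw [zpowers_le]; exact hc) H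
  have hQ2' : IsPGroup 2 ((H ⊔ zpowers c).subgroupOf N) :=
    hQ2.comap_of_injective _ (Subgroup.subtype_injective _)
  obtain ⟨T, hT⟩ := hQ2'.exists_le_sylow
  have hTmap : H ⊔ zpowers c ≤ (T : Subgroup N).map N.subtype := by
    have h1 := map_mono (f := N.subtype) hT
    rwa [subgroupOf_map_subtype, inf_of_le_left hQN] at h1
  have hT2 : IsPGroup 2 ((T : Subgroup N).map N.subtype) := T.2.map _
  have hTne : (T : Subgroup N).map N.subtype ≠ H := by
    intro h
    apply hcH
    rw [← h]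
    exact hTmap (mem_sup_right (mem_zpowers _))
  have hFr := Sylow.normalizer_sup_eq_top T
  apply hxc
  rw [← hφ]
  apply Basics.map_eq_one_of_sup φ N (normalizer (((T : Subgroup N).map N.subtype : Subgroup Y) : Set Y))
    (p := 2) _ _ _ hx
  · have h1 : N.map φ = H.map φ := by
      rw [hN, Subgroup.map_sup]
      have h2 : (centralizer (H : Set Y)).map φ = ⊥ := by
        rw [Subgroup.map_eq_bot_iff]
        intro y hy
        exact (hφ y).mpr hy
      rw [h2, sup_bot_eq]
    rw [h1]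
    exact hH2.map φ
  · apply Basics.isPGroup_map_of_coprime
    intro y hy hyo
    rw [hφ]
    exact hmax _ (le_sup_left.trans hTmap) hT2 hTne y hy hyo
  · rw [sup_comm]; exact hFr

/-- The property of being a `2`-subgroup with a non-centralising odd-order element in its
normaliser. -/
def Bad {G : Type*} [Group G] (H : Subgroup G) : Prop :=
  IsPGroup 2 H ∧ ∃ x ∈ normalizer (H : Set G), (orderOf x).Coprime 2 ∧ x ∉ centralizer (H : Set G)

theorem Bad.map {G G' : Type*} [Group G] [Group G'] {H : Subgroup G} (h : Bad H) (e : G ≃* G') :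
    Bad (H.map e.toMonoidHom) := by
  obtain ⟨h1, x, hx1, hx2, hx3⟩ := h
  refine ⟨h1.map _, e x, ?_, ?_, ?_⟩
  · exact (le_normalizer_map (H := H) e.toMonoidHom) (mem_map_of_mem _ hx1)
  · have : orderOf (e x) = orderOf x := orderOf_injective e.toMonoidHom e.injective x
    rw [this]; exact hx2
  · intro hc
    apply hx3
    rw [mem_centralizer_iff] at hc ⊢
    intro k hk
    apply e.injective
    rw [map_mul, map_mul]
    exact hc (e k) (mem_map_of_mem e.toMonoidHom hk)

theorem card_map_mulEquiv {G G' : Type*} [Group G] [Group G'] (H : Subgroup G) (e : G ≃* G') :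
    Nat.card (H.map e.toMonoidHom) = Nat.card H :=
  (Nat.card_congr (H.equivMapOfInjective e.toMonoidHom e.injective).toEquiv).symm

theorem exists_bad {G : Type*} [Group G] [Finite G] (P : Sylow 2 G)
    (hcl : ∀ a ∈ (P : Subgroup G), ∀ b ∈ (P : Subgroup G), ∀ c ∈ (P : Subgroup G),
      ⁅a, b⁆ * c = c * ⁅a, b⁆)
    (hN : normalizer ((P : Subgroup G) : Set G) ≤ P)
    (hno : ¬ Cfsg.HasNormalPComplement 2 G) :
    ∃ (H : Subgroup G) (x : G), H ≤ P ∧
      (∀ c ∈ (P : Subgroup G), (∀ h ∈ H, c * h = h * c) → c ∈ H) ∧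
      x ∈ normalizer (H : Set G) ∧ (orderOf x).Coprime 2 ∧ x ∉ centralizer (H : Set G) ∧
      (∀ y ∈ normalizer (H : Set G), ∀ h ∈ H, ∀ k ∈ H, ⁅y, h⁆ * k = k * ⁅y, h⁆) ∧
      (∀ a ∈ (P : Subgroup G), ∀ b ∈ (P : Subgroup G), a ∉ H → b ∉ H → a * b⁻¹ ∈ H) ∧
      (∀ t ∈ (P : Subgroup G), t ∉ H → t * x * t⁻¹ * x ∈ H) := by
  classical
  -- a bad subgroup of largest order
  obtain ⟨D, hD⟩ : ∃ D : Subgroup G, Bad D := by
    rw [Cfsg.Agent.Transfer.FrobeniusFusion.hasNormalPComplement_iff_localCondition] at hno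
    unfold Cfsg.Agent.Transfer.FrobeniusFusion.LocalCondition at hno
    push Not at hno
    obtain ⟨D, hD, g, hg, hgo, hgc⟩ := hno
    exact ⟨D, hD, g, hg, hgo, hgc⟩
  obtain ⟨H₀, hH₀, hmax₀⟩ := Set.exists_max_image {D : Subgroup G | Bad D}
    (fun D => Nat.card D) (Set.toFinite _) ⟨D, hD⟩
  have hH₀' : Bad H₀ := hH₀
  -- conjugate it into `P`
  obtain ⟨H, hHP, hH, hmax⟩ : ∃ H : Subgroup G, H ≤ P ∧ Bad H ∧
      ∀ K : Subgroup G, Bad K → Nat.card K ≤ Nat.card H := by
    obtain ⟨R, hR⟩ := hH₀'.1.exists_le_sylow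
    obtain ⟨g, hg⟩ := MulAction.exists_smul_eq G R P
    refine ⟨H₀.map (MulAut.conj g).toMonoidHom, ?_, hH₀'.map _, ?_⟩
    · rw [← hg]
      exact map_mono hR
    · intro K hK
      rw [card_map_mulEquiv]
      exact hmax₀ K hK
  obtain ⟨hH2, x, hxN, hxo, hxc⟩ := hH
  -- the situation inside the normaliser
  obtain ⟨Y, hY⟩ : ∃ Y : Subgroup G, Y = normalizer (H : Set G) := ⟨_, rfl⟩
  have hHY : H ≤ Y := by rw [hY]; exact le_normalizer
  have hHYn : (H.subgroupOf Y).Normal := by rw [hY]; infer_instance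
  rw [← hY] at hxN
  have transfer : ∀ K : Subgroup Y, H.subgroupOf Y ≤ K → IsPGroup 2 K → K ≠ H.subgroupOf Y →
      ∀ y ∈ normalizer (K : Set Y), (orderOf y).Coprime 2 →
        y ∈ centralizer ((H.subgroupOf Y : Subgroup Y) : Set Y) := by
    intro K hHK hK2 hne y hy hyo
    have hle : H ≤ K.map Y.subtype := by
      have h1 := map_mono (f := Y.subtype) hHK
      rwa [subgroupOf_map_subtype, inf_of_le_left hHY] at h1
    have hlt : Nat.card H < Nat.card (K.map Y.subtype) := by
      have h1 : Nat.card H ≤ Nat.card (K.map Y.subtype) := card_le_of_le hle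
      refine lt_of_le_of_ne h1 fun h => hne ?_
      have h2 : H = K.map Y.subtype := eq_of_le_of_card_ge hle h.ge
      have h3 : (K.map Y.subtype).subgroupOf Y = K :=
        comap_map_eq_self_of_injective (Subgroup.subtype_injective Y) K
      calc K = (K.map Y.subtype).subgroupOf Y := h3.symm
        _ = H.subgroupOf Y := congrArg (fun J => J.subgroupOf Y) h2.symm
    have hnb : ¬ Bad (K.map Y.subtype) := fun hb => absurd (hmax _ hb) (not_le.mpr hlt)
    have h3 : (y : G) ∈ centralizer ((K.map Y.subtype : Subgroup G) : Set G) := by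
      by_contra h4
      apply hnb
      refine ⟨hK2.map _, y, ?_, ?_, h4⟩
      · exact (le_normalizer_map (H := K) Y.subtype) (mem_map_of_mem Y.subtype hy)
      · rw [Subgroup.orderOf_coe]; exact hyo
    rw [mem_centralizer_iff] at h3 ⊢
    intro k hk
    apply Subtype.ext
    exact h3 k (hle (mem_subgroupOf.mp hk))
  have hH2' : IsPGroup 2 (H.subgroupOf Y) :=
    hH2.comap_of_injective _ (Subgroup.subtype_injective _)
  have hxo' : (orderOf (⟨x, hxN⟩ : Y)).Coprime 2 := by
    rw [Subgroup.orderOf_mk]; exact hxo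
  have hxc' : (⟨x, hxN⟩ : Y) ∉ centralizer ((H.subgroupOf Y : Subgroup Y) : Set Y) := by
    intro h
    apply hxc
    rw [mem_centralizer_iff] at h ⊢
    intro k hk
    exact congrArg Subtype.val (h ⟨k, hHY hk⟩ (mem_subgroupOf.mpr hk))
  have hcent : ∀ c ∈ (P : Subgroup G), (∀ h ∈ H, c * h = h * c) → c ∈ H := by
    intro c hcP hc
    have hcc : c ∈ centralizer (H : Set G) := by
      rw [mem_centralizer_iff]
      intro k hk
      exact (hc k hk).symm
    have hcY : c ∈ Y := by
      rw [hY, mem_normalizer_iff]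
      have key : ∀ d : G, (∀ h ∈ H, d * h = h * d) → ∀ k ∈ H, d * k * d⁻¹ ∈ H := by
        intro d hd k hk
        rw [hd k hk, mul_inv_cancel_right]; exact hk
      intro k
      refine ⟨key c hc k, fun hk => ?_⟩
      have h1 := key c⁻¹ (fun h hh => by
        have : Commute c h := hc h hh
        exact this.inv_left.eq) _ hk
      have h2 : c⁻¹ * (c * k * c⁻¹) * c⁻¹⁻¹ = k := by group
      rwa [h2] at h1
    have h1 := centric_of_maximal (H.subgroupOf Y) hH2' transfer ⟨x, hxN⟩ hxo' hxc' ⟨c, hcY⟩ (by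
      rw [mem_centralizer_iff]
      intro k hk
      apply Subtype.ext
      exact (hc k (mem_subgroupOf.mp hk)).symm) (by
      rw [isPGroup_iff_pow_pow_eq_one]
      rintro ⟨_, n, rfl⟩
      obtain ⟨k, hk⟩ := P.2 ⟨c, hcP⟩
      have hk' : c ^ 2 ^ k = 1 := congrArg Subtype.val hk
      refine ⟨k, ?_⟩
      apply Subtype.ext
      change ((⟨c, hcY⟩ : Y) ^ n) ^ 2 ^ k = 1
      apply Subtype.ext
      change (c ^ n) ^ 2 ^ k = 1
      rw [← zpow_natCast, ← zpow_mul, mul_comm, zpow_mul, zpow_natCast, hk', one_zpow])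
    exact mem_subgroupOf.mp h1
  have hcommP : ∀ a ∈ (P : Subgroup G), ∀ b ∈ (P : Subgroup G), ⁅a, b⁆ ∈ (P : Subgroup G) := by
    intro a ha b hb
    rw [commutatorElement_def]
    exact mul_mem (mul_mem (mul_mem ha hb) (inv_mem ha)) (inv_mem hb)
  have hcommH : ∀ a ∈ (P : Subgroup G), ∀ b ∈ (P : Subgroup G), ⁅a, b⁆ ∈ H := fun a ha b hb =>
    hcent _ (hcommP a ha b hb) fun h hh => hcl a ha b hb h (hHP hh)
  have hPY : (P : Subgroup G) ≤ Y := by
    rw [hY, le_normalizer_iff]
    intro p hp h hh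
    have h1 : p * h * p⁻¹ = ⁅p, h⁆ * h := by rw [commutatorElement_def]; group
    rw [h1]
    exact H.mul_mem (hcommH p hp h (hHP hh)) hh
  let PY : Sylow 2 Y := P.subtype hPY
  have hPYmem : ∀ y : Y, y ∈ (PY : Subgroup Y) ↔ (y : G) ∈ (P : Subgroup G) := fun y => Iff.rfl
  obtain ⟨s1, s2, s3⟩ := MaxBad.structure_of_maximal (H.subgroupOf Y) PY
    (fun k hk => hHP (mem_subgroupOf.mp hk))
    (fun a ha b hb c hc => Subtype.ext (hcl a ha b hb c hc))
    (fun c hc h => mem_subgroupOf.mpr (hcent c hc fun k hk =>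
      congrArg Subtype.val (h ⟨k, hHY hk⟩ (mem_subgroupOf.mpr hk))))
    (by
      intro y hy
      rw [hPYmem]
      apply hN
      rw [mem_normalizer_iff] at hy ⊢
      intro g
      constructor
      · intro hg
        exact (hy ⟨g, hPY hg⟩).mp hg
      · intro hg
        have h1 : g ∈ Y := by
          have h2 : g = (y : G)⁻¹ * ((y : G) * g * (y : G)⁻¹) * y := by group
          rw [h2]
          exact mul_mem (mul_mem (inv_mem y.2) (hPY hg)) y.2
        exact (hy ⟨g, h1⟩).mpr hg)
    transfer ⟨x, hxN⟩ hxo' hxc'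
  refine ⟨H, x, hHP, hcent, hY ▸ hxN, hxo, hxc, ?_, ?_, ?_⟩
  · intro y hy h hh k hk
    rw [← hY] at hy
    exact congrArg Subtype.val (s1 ⟨y, hy⟩ ⟨h, hHY hh⟩ (mem_subgroupOf.mpr hh) ⟨k, hHY hk⟩
      (mem_subgroupOf.mpr hk))
  · intro a ha b hb ha' hb'
    exact mem_subgroupOf.mp (s2 ⟨a, hPY ha⟩ ha ⟨b, hPY hb⟩ hb (fun h => ha' (mem_subgroupOf.mp h))
      (fun h => hb' (mem_subgroupOf.mp h)))
  · intro t ht htH
    exact mem_subgroupOf.mp (s3 ⟨t, hPY ht⟩ ht (fun h => htH (mem_subgroupOf.mp h)))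

end Cfsg.Agent.H504.BadPair
end

-- part: H504/KeyTwo
section
/-!
# The key step for the prime two

`G` is a normal Hall subgroup of `Γ`, `L` a maximal subgroup of `Γ` such that `G ∩ L` is a nontrivial
`2`-group of class at most two containing no nontrivial normal subgroup of `Γ`.  Then `G` has a normal
`2`-complement.
-/

set_option autoImplicit false

namespace Cfsg.Agent.H504.KeyTwo

open Subgroup
open scoped commutatorElement

/-- A self-normalising `p`-subgroup is a Sylow subgroup. -/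
theorem exists_sylow_of_normalizer_le {G : Type*} [Group G] [Finite G] {p : ℕ} [hp : Fact p.Prime]
    {Q : Subgroup G} (hQ : IsPGroup p Q)
    (h : ∀ g ∈ normalizer (Q : Set G), (∃ k : ℕ, g ^ p ^ k = 1) → g ∈ Q) :
    ∃ P : Sylow p G, (P : Subgroup G) = Q := by
  obtain ⟨P, hP⟩ := hQ.exists_le_sylow
  refine ⟨P, le_antisymm ?_ hP⟩
  have hPn : Group.IsNilpotent P := P.2.isNilpotent
  have hnc : NormalizerCondition P := Group.normalizerCondition_of_isNilpotent
  rw [normalizerCondition_iff_only_full_group_self_normalizing] at hnc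
  have h1 : normalizer ((Q.subgroupOf P : Subgroup P) : Set P) = Q.subgroupOf P := by
    apply le_antisymm _ le_normalizer
    intro g hg
    rw [mem_subgroupOf]
    apply h
    · rw [mem_normalizer_iff] at hg ⊢
      intro q
      constructor
      · intro hq
        exact (hg ⟨q, hP hq⟩).mp hq
      · intro hq
        have h2 : q ∈ (P : Subgroup G) := by
          have h3 : q = (g : G)⁻¹ * ((g : G) * q * (g : G)⁻¹) * g := by group
          rw [h3]
          exact mul_mem (mul_mem (inv_mem g.2) (hP hq)) g.2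
        exact (hg ⟨q, h2⟩).mpr hq
    · obtain ⟨k, hk⟩ := P.2 g
      exact ⟨k, congrArg Subtype.val hk⟩
  have h2 := hnc _ h1
  intro g hg
  have h3 : (⟨g, hg⟩ : P) ∈ Q.subgroupOf P := by rw [h2]; exact mem_top _
  exact mem_subgroupOf.mp h3

/-- In the core-free case a nontrivial subgroup of `G ∩ L` normalised by the maximal subgroup `L` has
normaliser `L`. -/
theorem normalizer_le {Γ : Type*} [Group Γ] {L : Subgroup Γ} {M : Subgroup Γ} (hL : IsCoatom L)
    (hcore : ∀ N : Subgroup Γ, N.Normal → N ≤ M → N = ⊥) {Q : Subgroup Γ} (hQM : Q ≤ M)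
    (hQ : Q ≠ ⊥) (hLQ : L ≤ normalizer (Q : Set Γ)) : normalizer (Q : Set Γ) ≤ L := by
  rcases hL.le_iff.mp hLQ with h | h
  · exact absurd (hcore Q (normalizer_eq_top_iff.mp h) hQM) hQ
  · exact h.le

theorem hasNormalPComplement_two {Γ : Type*} [Group Γ] [Finite Γ] (G L : Subgroup Γ)
    [hG : G.Normal] (hcop : (Nat.card G).Coprime G.index) (hL : IsCoatom L)
    (hP2 : IsPGroup 2 ↥(G ⊓ L)) (hP1 : G ⊓ L ≠ ⊥)
    (hcl : ∀ a ∈ G ⊓ L, ∀ b ∈ G ⊓ L, ∀ c ∈ G ⊓ L, ⁅a, b⁆ * c = c * ⁅a, b⁆)
    (hcore : ∀ N : Subgroup Γ, N.Normal → N ≤ G ⊓ L → N = ⊥) :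
    Cfsg.HasNormalPComplement 2 G := by
  classical
  by_contra hno
  obtain ⟨P, hP⟩ : ∃ P : Subgroup Γ, P = G ⊓ L := ⟨_, rfl⟩
  rw [← hP] at hP2 hP1 hcl hcore
  have hPG : P ≤ G := hP ▸ inf_le_left
  have hPL : P ≤ L := hP ▸ inf_le_right
  have hPmem : ∀ g, g ∈ G → g ∈ L → g ∈ P := fun g h1 h2 => hP ▸ ⟨h1, h2⟩
  have hLP : L ≤ normalizer (P : Set Γ) := by
    rw [le_normalizer_iff]
    intro l hl g hg
    exact hPmem _ (hG.conj_mem g (hPG hg) l) (mul_mem (mul_mem hl (hPL hg)) (inv_mem hl))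
  have hNP : normalizer (P : Set Γ) ≤ L := normalizer_le hL hcore le_rfl hP1 hLP
  -- `P` is a Sylow `2`-subgroup of `G`
  have hNPG : ∀ g : G, g ∈ normalizer ((P.subgroupOf G : Subgroup G) : Set G) → g ∈ P.subgroupOf G := by
    intro g hg
    rw [mem_subgroupOf]
    refine hPmem _ g.2 (hNP ?_)
    have h1 := (le_normalizer_map (H := P.subgroupOf G) G.subtype) (mem_map_of_mem G.subtype hg)
    rwa [subgroupOf_map_subtype, inf_of_le_left hPG] at h1
  obtain ⟨P₀, hP₀⟩ := exists_sylow_of_normalizer_le (p := 2) (Q := P.subgroupOf G)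
    (hP2.comap_of_injective _ (Subgroup.subtype_injective _)) (fun g hg _ => hNPG g hg)
  have hP₀mem : ∀ g : G, g ∈ (P₀ : Subgroup G) ↔ (g : Γ) ∈ P := by
    intro g; rw [hP₀, mem_subgroupOf]
  obtain ⟨H', x', hH'P, hcent', hxN', hxo', hxc', hZ', hidx', hinv'⟩ := BadPair.exists_bad P₀
    (fun a ha b hb c hc => Subtype.ext
      (hcl a ((hP₀mem a).mp ha) b ((hP₀mem b).mp hb) c ((hP₀mem c).mp hc)))
    (by
      intro g hg
      rw [hP₀] at hg ⊢
      exact hNPG g hg) hno
  -- move to `Γ`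
  set H : Subgroup Γ := H'.map G.subtype with hH
  have hHmem : ∀ g : G, (g : Γ) ∈ H ↔ g ∈ H' := by
    intro g
    constructor
    · rintro ⟨h, hh, hhg⟩
      have : h = g := Subtype.ext hhg
      rwa [← this]
    · intro hg
      exact mem_map_of_mem G.subtype hg
  have hHG : H ≤ G := by
    rintro _ ⟨h, -, rfl⟩
    exact h.2
  have hHP : H ≤ P := by
    rintro _ ⟨h, hh, rfl⟩
    exact (hP₀mem h).mp (hH'P hh)
  set x : Γ := (x' : Γ) with hx
  have hxG : x ∈ G := x'.2
  have hZP : ∀ c ∈ P, (∀ b ∈ P, c * b = b * c) → c ∈ H := by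
    intro c hc hcc
    have h1 := hcent' ⟨c, hPG hc⟩ ((hP₀mem _).mpr hc) (fun h hh => Subtype.ext
      (hcc h (hHP ((hHmem h).mpr hh))))
    exact (hHmem _).mpr h1
  have hidx : ∀ a ∈ P, ∀ b ∈ P, a ∉ H → b ∉ H → a * b⁻¹ ∈ H := by
    intro a ha b hb ha' hb'
    have h1 := hidx' ⟨a, hPG ha⟩ ((hP₀mem _).mpr ha) ⟨b, hPG hb⟩ ((hP₀mem _).mpr hb)
      (fun h => ha' ((hHmem _).mpr h)) (fun h => hb' ((hHmem _).mpr h))
    exact (hHmem _).mpr h1
  have hinv : ∀ t ∈ P, t ∉ H → t * x * t⁻¹ * x ∈ H := by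
    intro t ht htH
    have h1 := hinv' ⟨t, hPG ht⟩ ((hP₀mem _).mpr ht) (fun h => htH ((hHmem _).mpr h))
    exact (hHmem _).mpr h1
  have hxN : x ∈ normalizer (H : Set Γ) :=
    (le_normalizer_map (H := H') G.subtype) (mem_map_of_mem G.subtype hxN')
  have hxo : (orderOf x).Coprime 2 := by
    rw [hx, Subgroup.orderOf_coe]; exact hxo'
  have hxc : ∃ h ∈ H, x * h ≠ h * x := by
    by_contra hcon
    push Not at hcon
    apply hxc'
    rw [mem_centralizer_iff]
    intro h hh
    exact Subtype.ext (hcon h ((hHmem h).mpr hh)).symm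
  have hZH : ∀ y ∈ G, y ∈ normalizer (H : Set Γ) → ∀ h ∈ H, ∀ k ∈ H, ⁅y, h⁆ * k = k * ⁅y, h⁆ := by
    intro y hy hyN h hh k hk
    have h1 : (⟨y, hy⟩ : G) ∈ normalizer (H' : Set G) := by
      rw [mem_normalizer_iff] at hyN ⊢
      intro g
      rw [← hHmem, ← hHmem]
      exact hyN g
    exact congrArg Subtype.val (hZ' ⟨y, hy⟩ h1 ⟨h, hHG hh⟩ ((hHmem _).mp hh) ⟨k, hHG hk⟩
      ((hHmem _).mp hk))
  -- parity
  have h2G : 2 ∣ Nat.card G := by
    have h1 : 2 ∣ Nat.card P := by
      rcases hP2.card_eq_or_dvd with h | h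
      · exact absurd (Subgroup.card_eq_one.mp h) hP1
      · exact h
    exact h1.trans (card_dvd_of_le hPG)
  have hmodd : Odd G.index := by
    rw [← Nat.not_even_iff_odd, even_iff_two_dvd]
    intro h
    have := Nat.dvd_gcd h2G h
    rw [hcop] at this
    norm_num at this
  have hmx : G.index.Coprime (orderOf x) := by
    have h1 : orderOf x ∣ Nat.card G := by
      rw [hx, Subgroup.orderOf_coe]
      exact orderOf_dvd_natCard x'
    exact (Nat.Coprime.coprime_dvd_left h1 hcop).symm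
  have hlm : ∀ l ∈ L, l ^ G.index ∈ P := fun l hl =>
    hPmem _ (G.pow_index_mem l) (pow_mem hl _)
  -- the central elements of conjugates of `H` lie in `H`
  have key : ∀ l ∈ L, ∀ z ∈ H, (∀ k ∈ H, z * k = k * z) → l⁻¹ * z * l ∈ H := by
    intro l hl z hz hzk
    refine ClassTwoConj.mem_of_center_conj P H hP2 hcl hHP hZP hidx x hxN
      (Nat.coprime_two_right.mp hxo) hxc hinv l⁻¹ (hLP (inv_mem hl)) G.index hmodd hmx
      (hlm _ (inv_mem hl)) (l⁻¹ * z * l) ?_ ?_
    · have : l⁻¹⁻¹ * (l⁻¹ * z * l) * l⁻¹ = z := by group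
      rw [this]; exact hz
    · intro h hh
      have h1 : l⁻¹ * z * l * (l⁻¹ * h * l⁻¹⁻¹) = l⁻¹ * (z * h) * l := by group
      rw [h1, hzk h hh]; group
  -- the subgroup `D`
  let D : Subgroup Γ :=
    { carrier := {d | ∀ l ∈ L, l⁻¹ * d * l ∈ H}
      one_mem' := by
        intro l _
        have : l⁻¹ * 1 * l = 1 := by group
        rw [this]; exact H.one_mem
      mul_mem' := by
        intro a b ha hb l hl
        have : l⁻¹ * (a * b) * l = (l⁻¹ * a * l) * (l⁻¹ * b * l) := by group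
        rw [this]; exact H.mul_mem (ha l hl) (hb l hl)
      inv_mem' := by
        intro a ha l hl
        have : l⁻¹ * a⁻¹ * l = (l⁻¹ * a * l)⁻¹ := by group
        rw [this]; exact H.inv_mem (ha l hl) }
  have hDmem : ∀ d, d ∈ D ↔ ∀ l ∈ L, l⁻¹ * d * l ∈ H := fun d => Iff.rfl
  have hDH : D ≤ H := by
    intro d hd
    have := (hDmem d).mp hd 1 L.one_mem
    simpa using this
  have hLD : L ≤ normalizer (D : Set Γ) := by
    rw [le_normalizer_iff]
    intro l₀ hl₀ d hd
    rw [hDmem]
    intro l hl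
    have h1 := (hDmem d).mp hd (l₀⁻¹ * l) (mul_mem (inv_mem hl₀) hl)
    have h2 : (l₀⁻¹ * l)⁻¹ * d * (l₀⁻¹ * l) = l⁻¹ * (l₀ * d * l₀⁻¹) * l := by group
    rwa [h2] at h1
  have hyD : ∀ y ∈ G, y ∈ normalizer (H : Set Γ) → ∀ d ∈ D, y * d * y⁻¹ ∈ D := by
    intro y hy hyN d hd
    have h1 : y * d * y⁻¹ = ⁅y, d⁆ * d := by rw [commutatorElement_def]; group
    rw [h1]
    refine D.mul_mem ?_ hd
    rw [hDmem]
    intro l hl
    refine key l hl _ ?_ (hZH y hy hyN d (hDH hd))
    rw [commutatorElement_def]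
    exact H.mul_mem ((mem_normalizer_iff.mp hyN d).mp (hDH hd)) (H.inv_mem (hDH hd))
  have hxD : x ∈ normalizer (D : Set Γ) := by
    rw [mem_normalizer_iff]
    intro d
    refine ⟨hyD x hxG hxN d, fun hd => ?_⟩
    have h1 := hyD x⁻¹ (inv_mem hxG) (inv_mem hxN) _ hd
    have h2 : x⁻¹ * (x * d * x⁻¹) * x⁻¹⁻¹ = d := by group
    rwa [h2] at h1
  have hxL : x ∉ L := by
    intro hxL
    have h1 : x ∈ P := hPmem x hxG hxL
    have h2 : x = 1 := by
      obtain ⟨k, hk⟩ := (IsPGroup.iff_orderOf.mp hP2) ⟨x, h1⟩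
      rw [Subgroup.orderOf_mk] at hk
      rw [← orderOf_eq_one_iff]
      exact Nat.eq_one_of_dvd_coprimes (hxo.pow_right k) dvd_rfl (hk ▸ dvd_rfl)
    obtain ⟨h, _, hxh⟩ := hxc
    apply hxh
    rw [h2, one_mul, mul_one]
  have htop : normalizer (D : Set Γ) = ⊤ := by
    apply hL.2
    refine lt_of_le_of_ne hLD fun h => hxL ?_
    rw [h]; exact hxD
  have hDbot : D = ⊥ := hcore D (normalizer_eq_top_iff.mp htop) (hDH.trans hHP)
  -- but `Z(P) ≤ D`
  have hPnt : Nontrivial P := (Subgroup.nontrivial_iff_ne_bot P).mpr hP1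
  have hZnt := hP2.center_nontrivial
  obtain ⟨⟨⟨z, hzP⟩, hzZ⟩, hz1⟩ := exists_ne (1 : Subgroup.center P)
  have hzc : ∀ b ∈ P, z * b = b * z := by
    intro b hb
    have h1 := Subgroup.mem_center_iff.mp hzZ ⟨b, hb⟩
    exact (congrArg Subtype.val h1).symm
  have hzD : z ∈ D := by
    rw [hDmem]
    intro l hl
    have hl' := hLP hl
    apply hZP
    · have h1 := (mem_normalizer_iff.mp (inv_mem hl') z).mp hzP
      rwa [inv_inv] at h1
    · intro b hb
      have h1 := hzc _ ((mem_normalizer_iff.mp hl' b).mp hb)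
      have h2 : l⁻¹ * z * l * b = l⁻¹ * (z * (l * b * l⁻¹)) * l := by group
      rw [h2, h1]; group
  apply hz1
  rw [hDbot, mem_bot] at hzD
  apply Subtype.ext
  apply Subtype.ext
  exact hzD

end Cfsg.Agent.H504.KeyTwo
end

-- part: H504/MaxNil
section
/-!
# Normal Hall subgroups meeting a maximal subgroup in a nilpotent group

`isSolvable_of_maximal`: let `G` be a normal Hall subgroup of the finite group `Γ` and `L` a solvable
maximal subgroup of `Γ` not containing `G`, such that `G ∩ L` is nilpotent and its `2`-elements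
generate a group of class at most two.  Then `G` is solvable.

With `Γ = G` this is the theorem of Thompson, Deskins and Janko on nilpotent maximal subgroups, and
with `Γ = G ⋊ A` its version for coprime actions.
-/

set_option autoImplicit false

namespace Cfsg.Agent.H504.MaxNil

open Subgroup
open scoped commutatorElement

universe u

/-- The `2`-elements of `M` satisfy the identity `[[a, b], c] = 1`. -/
def TwoCl {Γ : Type*} [Group Γ] (M : Subgroup Γ) : Prop :=
  ∀ a ∈ M, ∀ b ∈ M, ∀ c ∈ M, (∃ k : ℕ, a ^ 2 ^ k = 1) → (∃ k : ℕ, b ^ 2 ^ k = 1) →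
    (∃ k : ℕ, c ^ 2 ^ k = 1) → ⁅a, b⁆ * c = c * ⁅a, b⁆

theorem TwoCl.mono {Γ : Type*} [Group Γ] {M N : Subgroup Γ} (h : TwoCl M) (hNM : N ≤ M) :
    TwoCl N :=
  fun a ha b hb c hc => h a (hNM ha) b (hNM hb) c (hNM hc)

/-- `2`-elements lift to `2`-elements. -/
theorem exists_lift_two {Γ Γ' : Type*} [Group Γ] [Finite Γ] [Group Γ'] (f : Γ →* Γ')
    {M : Subgroup Γ} {q : Γ'} (hq : q ∈ M.map f) (hk : ∃ k : ℕ, q ^ 2 ^ k = 1) :
    ∃ g ∈ M, f g = q ∧ ∃ k : ℕ, g ^ 2 ^ k = 1 := by
  obtain ⟨g, hg, rfl⟩ := hq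
  obtain ⟨k, hk⟩ := hk
  -- odd part `m` of the order of `g`
  set m := orderOf g / 2 ^ (orderOf g).factorization 2 with hm
  have hpos : orderOf g ≠ 0 := (orderOf_pos g).ne'
  have hmodd : m.Coprime 2 := (Nat.coprime_ordCompl Nat.prime_two hpos).symm
  have hmul : 2 ^ (orderOf g).factorization 2 * m = orderOf g := Nat.ordProj_mul_ordCompl_eq_self _ _
  obtain ⟨n, hn1, hn2⟩ := Nat.chineseRemainder (hmodd.pow_right k) 0 1
  refine ⟨g ^ n, M.pow_mem hg n, ?_, (orderOf g).factorization 2, ?_⟩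
  · rw [map_pow]
    conv_rhs => rw [← pow_one (f g)]
    refine pow_eq_pow_iff_modEq.mpr (hn2.of_dvd ?_)
    exact orderOf_dvd_of_pow_eq_one hk
  · rw [← pow_mul, ← orderOf_dvd_iff_pow_eq_one]
    have h1 : m ∣ n := (Nat.modEq_zero_iff_dvd).mp hn1
    obtain ⟨c, hc⟩ := h1
    refine ⟨c, ?_⟩
    calc n * 2 ^ (orderOf g).factorization 2 = (2 ^ (orderOf g).factorization 2 * m) * c := by
          rw [hc]; ring
      _ = orderOf g * c := by rw [hmul]

theorem TwoCl.map {Γ Γ' : Type*} [Group Γ] [Finite Γ] [Group Γ'] (f : Γ →* Γ')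
    {M : Subgroup Γ} (h : TwoCl M) : TwoCl (M.map f) := by
  intro a ha b hb c hc ha2 hb2 hc2
  obtain ⟨a', ha', rfl, ha2'⟩ := exists_lift_two f ha ha2
  obtain ⟨b', hb', rfl, hb2'⟩ := exists_lift_two f hb hb2
  obtain ⟨c', hc', rfl, hc2'⟩ := exists_lift_two f hc hc2
  rw [← map_commutatorElement, ← map_mul, h a' ha' b' hb' c' hc' ha2' hb2' hc2', map_mul]

/-- Subgroups of nilpotent subgroups are nilpotent. -/
theorem isNilpotent_of_le {Γ : Type*} [Group Γ] {M N : Subgroup Γ} (h : Group.IsNilpotent M)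
    (hNM : N ≤ M) : Group.IsNilpotent N :=
  Group.nilpotent_of_mulEquiv (subgroupOfEquivOfLe hNM)

/-- The odd prime step: the Sylow `p`-subgroup. -/
theorem hasNormalPComplement_odd {Γ : Type u} [Group Γ] [Finite Γ] (G L : Subgroup Γ)
    [hG : G.Normal] (hL : IsCoatom L) (hnil : Group.IsNilpotent ↥(G ⊓ L))
    (hcore : ∀ N : Subgroup Γ, N.Normal → N ≤ G ⊓ L → N = ⊥)
    {p : ℕ} [hp : Fact p.Prime] (hp2 : p ≠ 2) (hpM : p ∣ Nat.card ↥(G ⊓ L)) :
    Cfsg.HasNormalPComplement p G := by
  classical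
  obtain ⟨M, hM⟩ : ∃ M : Subgroup Γ, M = G ⊓ L := ⟨_, rfl⟩
  rw [← hM] at hnil hcore hpM
  have hMG : M ≤ G := hM ▸ inf_le_left
  have hML : M ≤ L := hM ▸ inf_le_right
  have hMmem : ∀ g, g ∈ G → g ∈ L → g ∈ M := fun g h1 h2 => hM ▸ ⟨h1, h2⟩
  have hLM : L ≤ normalizer (M : Set Γ) := by
    rw [le_normalizer_iff]
    intro l hl g hg
    exact hMmem _ (hG.conj_mem g (hMG hg) l) (mul_mem (mul_mem hl (hML hg)) (inv_mem hl))
  -- the Sylow `p`-subgroup of `M`
  obtain ⟨S₀⟩ : Nonempty (Sylow p M) := inferInstance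
  have hS₀n : (S₀ : Subgroup M).Normal :=
    ((Group.isNilpotent_of_finite_tfae (G := M)).out 0 3 rfl rfl).mp hnil p hp S₀
  have hS₀mem : ∀ m : M, m ∈ (S₀ : Subgroup M) ↔ ∃ k : ℕ, (m : Γ) ^ p ^ k = 1 := by
    intro m
    constructor
    · intro hm
      obtain ⟨k, hk⟩ := S₀.2 ⟨m, hm⟩
      exact ⟨k, congrArg (fun z : S₀ => ((z : M) : Γ)) hk⟩
    · rintro ⟨k, hk⟩
      have hm : m ^ p ^ k = 1 := Subtype.ext hk
      have h1 : IsPGroup p (zpowers m) := by
        rw [isPGroup_iff_pow_pow_eq_one]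
        rintro ⟨_, n, rfl⟩
        refine ⟨k, Subtype.ext ?_⟩
        change (m ^ n) ^ p ^ k = 1
        rw [← zpow_natCast, ← zpow_mul, mul_comm, zpow_mul, zpow_natCast, hm, one_zpow]
      obtain ⟨R, hR⟩ := h1.exists_le_sylow
      have := S₀.unique_of_normal hS₀n
      have h2 : R = S₀ := Subsingleton.elim _ _
      rw [← h2]
      exact hR (mem_zpowers m)
  set S : Subgroup Γ := (S₀ : Subgroup M).map M.subtype with hS
  have hSM : S ≤ M := by
    rintro _ ⟨m, -, rfl⟩; exact m.2
  have hSmem : ∀ g, g ∈ S ↔ g ∈ M ∧ ∃ k : ℕ, g ^ p ^ k = 1 := by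
    intro g
    constructor
    · rintro ⟨m, hm, rfl⟩
      exact ⟨m.2, (hS₀mem m).mp hm⟩
    · rintro ⟨h1, h2⟩
      exact ⟨⟨g, h1⟩, (hS₀mem ⟨g, h1⟩).mpr h2, rfl⟩
  have hSp : IsPGroup p S := S₀.2.map _
  have hSne : S ≠ ⊥ := by
    intro h
    have h1 := S₀.ne_bot_of_dvd_card hpM
    apply h1
    rw [hS, (Subgroup.map_eq_bot_iff_of_injective _ (Subgroup.subtype_injective M))] at h
    exact h
  have hLS : L ≤ normalizer (S : Set Γ) := by
    rw [le_normalizer_iff]
    intro l hl g hg
    obtain ⟨h1, k, hk⟩ := (hSmem g).mp hg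
    refine (hSmem _).mpr ⟨(mem_normalizer_iff.mp (hLM hl) g).mp h1, k, ?_⟩
    rw [conj_pow, hk]; group
  have hSG : S ≤ G := hSM.trans hMG
  have hNS : normalizer (S : Set Γ) ≤ L := KeyTwo.normalizer_le hL hcore hSM hSne hLS
  -- it is a Sylow subgroup of `G`
  obtain ⟨P, hP⟩ := KeyTwo.exists_sylow_of_normalizer_le (p := p) (Q := S.subgroupOf G)
    (hSp.comap_of_injective _ (Subgroup.subtype_injective _)) (by
      rintro g hg ⟨k, hk⟩
      rw [mem_subgroupOf, hSmem]
      have h1 := (le_normalizer_map (H := S.subgroupOf G) G.subtype) (mem_map_of_mem G.subtype hg)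
      rw [subgroupOf_map_subtype, inf_of_le_left hSG] at h1
      exact ⟨hMmem _ g.2 (hNS h1), k, congrArg Subtype.val hk⟩)
  have hPmap : (P : Subgroup G).map G.subtype = S := by
    rw [hP, subgroupOf_map_subtype, inf_of_le_left hSG]
  -- the subgroup `Z(J(P))`
  apply Cfsg.Agent.S0659.result hp2 P
  set Q : Subgroup G := Cfsg.centerThompsonAOf (P : Subgroup G) with hQ
  have hPne : (P : Subgroup G) ≠ ⊥ := by
    intro h
    apply hSne
    rw [← hPmap, h, Subgroup.map_bot]
  have hQmap : Q.map G.subtype = Cfsg.centerThompsonAOf S := by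
    rw [hQ, Cfsg.Agent.PLocal.ThompsonJA.map_centerThompsonAOf _ (Subgroup.subtype_injective _), hPmap]
  have hQne : Q.map G.subtype ≠ ⊥ := by
    rw [hQmap]
    exact Cfsg.Agent.PLocal.ThompsonJA.centerThompsonAOf_ne_bot S hSp hSne
  have hQM : Q.map G.subtype ≤ M := by
    rw [hQmap]
    exact (Cfsg.Agent.PLocal.ThompsonJA.centerThompsonAOf_le S).trans hSM
  have hLQ : L ≤ normalizer ((Q.map G.subtype : Subgroup Γ) : Set Γ) := by
    intro l hl
    rw [hQmap, mem_normalizer_iff_map_conj_eq]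
    have h1 := Cfsg.Agent.PLocal.ThompsonJA.map_centerThompsonAOf (MulAut.conj l : Γ →* Γ)
      (MulAut.conj l).injective S
    rw [mem_normalizer_iff_map_conj_eq.mp (hLS hl)] at h1
    exact h1
  have hNQ : normalizer ((Q.map G.subtype : Subgroup Γ) : Set Γ) ≤ L :=
    KeyTwo.normalizer_le hL hcore hQM hQne hLQ
  apply Cfsg.Agent.Solvable.FpfThompson.hasNormalPComplement_of_isNilpotent
  -- the normaliser embeds in `M`
  have hle : (normalizer (Q : Set G)).map G.subtype ≤ M := by
    rintro _ ⟨g, hg, rfl⟩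
    exact hMmem _ g.2 (hNQ ((le_normalizer_map (H := Q) G.subtype) (mem_map_of_mem G.subtype hg)))
  have h1 : Group.IsNilpotent ((normalizer (Q : Set G)).map G.subtype) := isNilpotent_of_le hnil hle
  exact Group.nilpotent_of_mulEquiv
    ((normalizer (Q : Set G)).equivMapOfInjective G.subtype (Subgroup.subtype_injective G)).symm

theorem main (n : ℕ) : ∀ (Γ : Type u) [Group Γ] [Finite Γ] (G L : Subgroup Γ), G.Normal →
    (Nat.card G).Coprime G.index → Group.IsSolvable L → IsCoatom L → ¬ G ≤ L →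
    Group.IsNilpotent ↥(G ⊓ L) → TwoCl (G ⊓ L) → Nat.card G = n → Group.IsSolvable G := by
  induction n using Nat.strong_induction_on with
  | _ n ih =>
  intro Γ _ _ G L hG hcop hLs hL hGL hnil hcl hn
  classical
  by_cases hcore : ∃ N : Subgroup Γ, N.Normal ∧ N ≤ G ⊓ L ∧ N ≠ ⊥
  · -- pass to the quotient by `N`
    obtain ⟨N, hN, hNM, hN1⟩ := hcore
    have hNG : N ≤ G := hNM.trans inf_le_left
    have hNL : N ≤ L := hNM.trans inf_le_right
    let π : Γ →* Γ ⧸ N := QuotientGroup.mk' N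
    have hπs : Function.Surjective π := QuotientGroup.mk'_surjective N
    have hπ : ∀ y, π y = 1 ↔ y ∈ N := fun y => QuotientGroup.eq_one_iff y
    have hcomap : ∀ K : Subgroup Γ, N ≤ K → (K.map π).comap π = K := by
      intro K hNK
      rw [comap_map_eq, sup_eq_left, QuotientGroup.ker_mk']
      exact hNK
    have hmem : ∀ K : Subgroup Γ, N ≤ K → ∀ g, π g ∈ K.map π ↔ g ∈ K := by
      intro K hNK g
      rw [← mem_comap, hcomap K hNK]
    have hinf : G.map π ⊓ L.map π = (G ⊓ L).map π := by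
      ext q
      obtain ⟨g, rfl⟩ := hπs q
      rw [mem_inf, hmem G hNG, hmem L hNL, hmem _ hNM, mem_inf]
    have hcard : Nat.card (G.map π) * Nat.card N = Nat.card G := by
      have h1 : Nat.card (G.map π) = N.relIndex G := by
        rw [← relIndex_ker, QuotientGroup.ker_mk']
      rw [h1, mul_comm, ← relIndex_bot_left N, ← relIndex_bot_left G]
      exact relIndex_mul_relIndex _ _ _ bot_le hNG
    have hidx : (G.map π).index = G.index :=
      index_map_eq G hπs (by rw [QuotientGroup.ker_mk']; exact hNG)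
    have hNcard : 1 < Nat.card N := by
      rw [Finite.one_lt_card_iff_nontrivial, Subgroup.nontrivial_iff_ne_bot]
      exact hN1
    have hpos : 0 < Nat.card (G.map π) := Nat.card_pos
    have h1 : Group.IsSolvable (G.map π) := by
      refine ih (Nat.card (G.map π)) ?_ (Γ ⧸ N) (G.map π) (L.map π) (hG.map π hπs) ?_ ?_ ?_ ?_ ?_
        ?_ rfl
      · rw [← hn, ← hcard]
        exact lt_mul_of_one_lt_right hpos hNcard
      · rw [hidx]
        exact Nat.Coprime.coprime_dvd_left ⟨_, hcard.symm⟩ hcop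
      · exact Group.isSolvable_of_surjective (π.subgroupMap_surjective L)
      · refine ⟨fun h => hL.1 ?_, fun K hK => ?_⟩
        · rw [← hcomap L hNL, h, comap_top]
        · have h2 : L < K.comap π := by
            rw [← hcomap L hNL]
            exact (comap_lt_comap_of_surjective hπs).mpr hK
          have h3 := hL.2 _ h2
          rw [← map_comap_eq_self_of_surjective hπs K, h3, ← MonoidHom.range_eq_map,
            MonoidHom.range_eq_top.mpr hπs]
      · intro h
        apply hGL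
        rw [← hcomap G hNG, ← hcomap L hNL]
        exact comap_mono h
      · rw [hinf]
        exact Group.nilpotent_of_surjective _ (π.subgroupMap_surjective (G ⊓ L))
      · rw [hinf]
        exact hcl.map π
    have h2 : Group.IsSolvable N := by
      have h3 : Group.IsNilpotent N := isNilpotent_of_le hnil hNM
      infer_instance
    exact Group.isSolvable_of_ker_le_range (inclusion hNG) (π.subgroupMap G) (by
      intro g hg
      have h3 : π g = 1 := congrArg Subtype.val hg
      exact ⟨⟨g, (hπ g).mp h3⟩, rfl⟩)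
  · have hcore' : ∀ N : Subgroup Γ, N.Normal → N ≤ G ⊓ L → N = ⊥ := by
      intro N h1 h2
      by_contra h3
      exact hcore ⟨N, h1, h2, h3⟩
    by_cases hM : G ⊓ L = ⊥
    · -- `G` has no proper nontrivial `L`-invariant subgroups
      have hG1 : Nat.card G ≠ 1 := by
        intro h
        apply hGL
        rw [Subgroup.card_eq_one.mp h]
        exact bot_le
      obtain ⟨p, hp, hpG⟩ := Nat.exists_prime_and_dvd hG1
      have : Fact p.Prime := ⟨hp⟩
      have hsup : G ⊔ L = ⊤ := by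
        apply hL.2
        refine lt_of_le_of_ne le_sup_right fun h => hGL ?_
        rw [h]; exact le_sup_left
      have hLcard : Nat.card L = G.index := by
        have h1 : IsComplement' G L := isComplement'_of_disjoint_and_mul_eq_univ
          (disjoint_iff.mpr hM) (by rw [← normal_mul, hsup, coe_top])
        exact h1.symm.index_eq_card ▸ rfl
      obtain ⟨P, hP⟩ := Cfsg.Agent.S0023.result L G (by rw [normalizer_eq_top]; exact le_top)
        (by rw [hLcard]; exact hcop.symm) (Or.inl hLs) p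
      have hPne : (P : Subgroup G).map G.subtype ≠ ⊥ := by
        rw [Ne, Subgroup.map_eq_bot_iff_of_injective _ (Subgroup.subtype_injective G)]
        exact P.ne_bot_of_dvd_card hpG
      have hPG : (P : Subgroup G).map G.subtype ≤ G := map_subtype_le _
      have hPL : (P : Subgroup G).map G.subtype ⊔ L = ⊤ := by
        apply hL.2
        refine lt_of_le_of_ne le_sup_right fun h => hPne ?_
        rw [eq_bot_iff, ← hM]
        refine le_inf hPG ?_
        rw [h]; exact le_sup_left
      have hGP : ∀ g ∈ G, g ∈ (P : Subgroup G).map G.subtype := by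
        intro g hg
        have h1 : g ∈ (P : Subgroup G).map G.subtype ⊔ L := by rw [hPL]; exact mem_top g
        rw [← SetLike.mem_coe, coe_mul_of_right_le_normalizer_left _ _ hP] at h1
        obtain ⟨a, ha, b, hb, hab⟩ := h1
        have hab' : a * b = g := hab
        have hb1 : b ∈ G ⊓ L := by
          refine mem_inf.mpr ⟨?_, hb⟩
          have h2 : b = a⁻¹ * g := by rw [← hab']; group
          rw [h2]
          exact mul_mem (inv_mem (hPG ha)) hg
        rw [hM, mem_bot] at hb1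
        rw [← hab', hb1, mul_one]
        exact ha
      have hGp : IsPGroup p G := by
        have h1 : (P : Subgroup G) = ⊤ := by
          rw [eq_top_iff]
          intro g _
          obtain ⟨g', hg', hgg⟩ := hGP g g.2
          have : g' = g := Subtype.ext hgg
          rwa [← this]
        have h2 := P.2
        rw [h1] at h2
        exact h2.of_equiv topEquiv
      have := hGp.isNilpotent
      infer_instance
    · -- a prime with a normal complement
      obtain ⟨p, hp, hpG, hpc⟩ : ∃ p : ℕ, ∃ _ : Fact p.Prime, p ∣ Nat.card G ∧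
          Cfsg.HasNormalPComplement p G := by
        by_cases h2 : IsPGroup 2 ↥(G ⊓ L)
        · refine ⟨2, ⟨Nat.prime_two⟩, ?_, ?_⟩
          · have h1 : 2 ∣ Nat.card ↥(G ⊓ L) := by
              rcases h2.card_eq_or_dvd with h | h
              · exact absurd (Subgroup.card_eq_one.mp h) hM
              · exact h
            exact h1.trans (card_dvd_of_le inf_le_left)
          · refine KeyTwo.hasNormalPComplement_two G L hcop hL h2 hM ?_ hcore'
            intro a ha b hb c hc
            have key : ∀ d ∈ G ⊓ L, ∃ k : ℕ, d ^ 2 ^ k = 1 := by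
              intro d hd
              obtain ⟨k, hk⟩ := h2 ⟨d, hd⟩
              exact ⟨k, congrArg Subtype.val hk⟩
            exact hcl a ha b hb c hc (key a ha) (key b hb) (key c hc)
        · obtain ⟨p, hp, hpd, hp2⟩ : ∃ p : ℕ, p.Prime ∧ p ∣ Nat.card ↥(G ⊓ L) ∧ p ≠ 2 := by
            by_contra hcon
            push Not at hcon
            apply h2
            have h3 := Nat.eq_prime_pow_of_unique_prime_dvd (n := Nat.card ↥(G ⊓ L)) (p := 2)
              Nat.card_pos.ne' (fun {d} hd hdd => hcon d hd hdd)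
            exact IsPGroup.of_card h3
          have : Fact p.Prime := ⟨hp⟩
          exact ⟨p, this, hpd.trans (card_dvd_of_le inf_le_left),
            hasNormalPComplement_odd G L hL hnil hcore' hp2 hpd⟩
      obtain ⟨K₀, hK₀n, hK₀c, hK₀q⟩ :=
        Cfsg.Agent.Transfer.NormalPComplement.hasNormalPComplement_iff.mp hpc
      have hK₀mem : ∀ g : G, g ∈ K₀ ↔ (orderOf g).Coprime p := fun g =>
        Cfsg.Agent.Transfer.NormalPComplement.mem_iff_coprime_orderOf' K₀ hK₀c hK₀q g
      set K : Subgroup Γ := K₀.map G.subtype with hK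
      have hKG : K ≤ G := map_subtype_le _
      have hKmem : ∀ g, g ∈ K ↔ g ∈ G ∧ (orderOf g).Coprime p := by
        intro g
        constructor
        · rintro ⟨m, hm, rfl⟩
          refine ⟨m.2, ?_⟩
          have := (hK₀mem m).mp hm
          rwa [← Subgroup.orderOf_coe] at this
        · rintro ⟨h1, h2⟩
          refine ⟨⟨g, h1⟩, (hK₀mem ⟨g, h1⟩).mpr ?_, rfl⟩
          rw [Subgroup.orderOf_mk]; exact h2
      have hKn : K.Normal := by
        refine ⟨fun g hg γ => ?_⟩
        obtain ⟨h1, h2⟩ := (hKmem g).mp hg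
        refine (hKmem _).mpr ⟨hG.conj_mem g h1 γ, ?_⟩
        have h3 : orderOf (γ * g * γ⁻¹) = orderOf g :=
          orderOf_injective (MulAut.conj γ).toMonoidHom (MulAut.conj γ).injective g
        rw [h3]; exact h2
      have hKcard : Nat.card K = Nat.card K₀ :=
        (Nat.card_congr (K₀.equivMapOfInjective G.subtype (Subgroup.subtype_injective G)).toEquiv).symm
      have hquot : Group.IsSolvable (G ⧸ K₀) := by
        have := hK₀q.isNilpotent
        infer_instance
      have hfin : Group.IsSolvable K → Group.IsSolvable G := by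
        intro h
        have h1 : Group.IsSolvable K₀ := Group.isSolvable_of_isSolvable_injective
          (f := (K₀.equivMapOfInjective G.subtype (Subgroup.subtype_injective G)).toMonoidHom)
          (K₀.equivMapOfInjective G.subtype (Subgroup.subtype_injective G)).injective
        exact (Group.isSolvable_iff_subgroup_quotient K₀).mpr ⟨h1, hquot⟩
      apply hfin
      by_cases hKL : K ≤ L
      · have h1 : K = ⊥ := hcore' K hKn (le_inf hKG hKL)
        rw [h1]
        infer_instance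
      · refine ih (Nat.card K) ?_ Γ K L hKn ?_ hLs hL hKL ?_ ?_ rfl
        · rw [← hn]
          refine lt_of_le_of_ne (card_le_of_le hKG) fun h => ?_
          rw [hKcard] at h
          rw [← h] at hpG
          have h1 := Nat.Coprime.eq_one_of_dvd hK₀c.symm hpG
          exact hp.out.one_lt.ne' h1
        · rw [← relIndex_mul_index hKG]
          refine Nat.Coprime.mul_right ?_ (Nat.Coprime.coprime_dvd_left (card_dvd_of_le hKG) hcop)
          have h1 : K.relIndex G = K₀.index := by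
            rw [relIndex]
            congr 1
            exact comap_map_eq_self_of_injective (Subgroup.subtype_injective G) K₀
          rw [h1, hKcard]
          obtain ⟨m, hm⟩ := IsPGroup.iff_card.mp hK₀q
          rw [index_eq_card, hm]
          exact hK₀c.pow_right m
        · exact isNilpotent_of_le hnil (inf_le_inf_right L hKG)
        · exact hcl.mono (inf_le_inf_right L hKG)

/-- **Nilpotent maximal subgroups, relative version.** Let `G` be a normal Hall subgroup of the finite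
group `Γ` and `L` a solvable maximal subgroup of `Γ` with `G ⊄ L`. If `G ∩ L` is nilpotent and its
`2`-elements satisfy `[[a, b], c] = 1`, then `G` is solvable. -/
theorem isSolvable_of_maximal {Γ : Type*} [Group Γ] [Finite Γ] (G L : Subgroup Γ) [hG : G.Normal]
    (hcop : (Nat.card G).Coprime G.index) (hLs : Group.IsSolvable L) (hL : IsCoatom L)
    (hGL : ¬ G ≤ L) (hnil : Group.IsNilpotent ↥(G ⊓ L)) (hcl : TwoCl (G ⊓ L)) :
    Group.IsSolvable G :=
  main (Nat.card G) Γ G L hG hcop hLs hL hGL hnil hcl rfl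

/-- The absolute version: a finite group with a nilpotent maximal subgroup whose `2`-elements satisfy
`[[a, b], c] = 1` is solvable. -/
theorem isSolvable_of_coatom {G : Type*} [Group G] [Finite G] (M : Subgroup G) (hM : IsCoatom M)
    (hnil : Group.IsNilpotent M) (hcl : TwoCl M) : Group.IsSolvable G := by
  have h1 : Group.IsSolvable (⊤ : Subgroup G) := by
    refine isSolvable_of_maximal (⊤ : Subgroup G) M ?_ ?_ hM ?_ ?_ ?_
    · rw [index_top]; exact Nat.coprime_one_right _
    · infer_instance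
    · exact fun h => hM.1 (top_le_iff.mp h)
    · rw [top_inf_eq]; exact hnil
    · rw [top_inf_eq]; exact hcl
  exact Group.isSolvable_of_isSolvable_injective (f := (topEquiv (G := G)).symm.toMonoidHom)
    (topEquiv (G := G)).symm.injective

end Cfsg.Agent.H504.MaxNil
end
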