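import Mathlib
import Cfsg.Prelude.Def_KGroupFacts
import Cfsg.Agent.ThreePrime.SzAut
import Cfsg.Agent.ThreePrime.SzDataExists
import Cfsg.Agent.LieRecognition.FieldSemilinear
import Cfsg.Agent.FastGrp
import Cfsg.Agent.Prune
set_option linter.all false
prune_inst 0x7f00000000000000000000000000000000000000000000000000000000000000000000000000000000000000000000000000000000000000000000000000000000000000000000000000000000000000003fffffffffffffffffffffffffffbeffbdffffffff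
open scoped Cfsg.Agent.FastGrp

/-!
# The outer automorphism group of a Suzuki group is cyclic, and its involutions are conjugate

An automorphism fixing `T` and `T ^ w` induces a field automorphism on the torus `D`; if this is
trivial then the automorphism is conjugation by an element of `D`.
-/

set_option autoImplicit false

namespace Cfsg.Agent.H504.SzOut

open Cfsg.Agent Cfsg.Agent.ThreePrime

variable {J : Type*} [Group J] {F : Type*} [Field F]

open scoped Pointwise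

section

variable (R : SzRel.Rel J F)

/-- the field automorphism induced by an automorphism fixing `T` and `T ^ w` -/
theorem exists_field [Fintype F] {ψ : MulAut J} (h1 : ∀ x ∈ R.T, ψ x ∈ R.T)
    (h2 : R.w * ψ R.w ∈ Subgroup.normalizer (R.T : Set J)) :
    ∃ σ : F ≃+* F, ∀ k : Fˣ, ∃ l : Fˣ, ψ (R.d k) = R.d l ∧ R.θ (l : F) = σ (R.θ (k : F)) := by
  have hκ : ∀ k : Fˣ, ∃ l : Fˣ, ψ (R.d k) = R.d l := fun k => R.map_D h1 h2 k
  choose κ hκ using hκ
  have hβ : ∀ b : F, ∃ c : F, ψ (R.u 0 b) = R.u 0 c := by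
    intro b
    obtain ⟨a, c, h⟩ := h1 _ (R.u_mem 0 b)
    have h3 : ψ (R.u 0 b) * ψ (R.u 0 b) = 1 := by
      rw [← map_mul, (R.u_sq_iff 0 b).2 rfl, map_one]
    rw [h, R.u_sq_iff] at h3
    subst h3
    exact ⟨c, h⟩
  choose β hβ using hβ
  have hβadd : ∀ b c, β (b + c) = β b + β c := by
    intro b c
    have h3 : ψ (R.u 0 b * R.u 0 c) = ψ (R.u 0 (b + c)) := by
      congr 1
      rw [R.u_mul]
      congr 1
      · ring
      · ring
    rw [map_mul, hβ, hβ, hβ, R.u_mul] at h3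
    have := (R.u_inj h3).2
    linear_combination -this
  have hβd : ∀ (b : F) (k : Fˣ), β (b * R.θ k) = β b * R.θ (κ k) := by
    intro b k
    have h3 := congrArg ψ (R.conj_d k 0 b)
    rw [map_mul, map_mul, map_inv, hκ, hβ, R.conj_d, zero_mul, zero_mul, zero_mul, zero_mul, hβ] at h3
    exact (R.u_inj h3).2.symm
  have hβ0 : β 0 = 0 := by
    have := hβadd 0 0
    rw [add_zero] at this
    linear_combination -this
  have hβ1 : β 1 ≠ 0 := by
    intro h
    have h3 := hβ 1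
    rw [h, R.u_zero, ← map_one ψ] at h3
    exact R.u_ne_one one_ne_zero (ψ.injective h3)
  have hσθ : ∀ k : Fˣ, β (R.θ k) / β 1 = R.θ (κ k) := by
    intro k
    have := hβd 1 k
    rw [one_mul] at this
    rw [this, mul_div_cancel_left₀ _ hβ1]
  have hσmul : ∀ b c, β (b * c) / β 1 = (β b / β 1) * (β c / β 1) := by
    intro b c
    by_cases hc : c = 0
    · rw [hc, mul_zero, hβ0]; ring
    · obtain ⟨k, hk⟩ := R.theta_surj c
      have hk0 : k ≠ 0 := by
        rintro rfl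
        rw [map_zero] at hk
        exact hc hk.symm
      have h3 := hβd b (Units.mk0 k hk0)
      have h4 := hσθ (Units.mk0 k hk0)
      rw [Units.val_mk0, hk] at h3 h4
      rw [h3, h4]
      ring
  let σ₀ : F →+* F :=
    { toFun := fun b => β b / β 1
      map_one' := div_self hβ1
      map_mul' := hσmul
      map_zero' := by
        show β 0 / β 1 = 0
        rw [hβ0, zero_div]
      map_add' := fun b c => by
        show β (b + c) / β 1 = β b / β 1 + β c / β 1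
        rw [hβadd, add_div] }
  have hσ₀ : Function.Bijective σ₀ :=
    ⟨σ₀.injective, Finite.surjective_of_injective σ₀.injective⟩
  refine ⟨RingEquiv.ofBijective σ₀ hσ₀, fun k => ⟨κ k, hκ k, ?_⟩⟩
  exact (hσθ k).symm

/-- an automorphism fixing `T` and `T ^ w` and centralising `D` is conjugation by an element
of `D` -/
theorem inner_of_fix_D [Fintype F] (h8 : 8 ≤ Nat.card F) {ψ : MulAut J}
    (h1 : ∀ x ∈ R.T, ψ x ∈ R.T) (h2 : R.w * ψ R.w ∈ Subgroup.normalizer (R.T : Set J))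
    (hD : ∀ k : Fˣ, ψ (R.d k) = R.d k) : ∃ j : J, ψ = MulAut.conj j := by
  have hβ : ∀ b : F, ∃ c : F, ψ (R.u 0 b) = R.u 0 c := by
    intro b
    obtain ⟨a, c, h⟩ := h1 _ (R.u_mem 0 b)
    have h3 : ψ (R.u 0 b) * ψ (R.u 0 b) = 1 := by
      rw [← map_mul, (R.u_sq_iff 0 b).2 rfl, map_one]
    rw [h, R.u_sq_iff] at h3
    subst h3
    exact ⟨c, h⟩
  choose β hβ using hβ
  have hα : ∀ a : F, ∃ p : F × F, ψ (R.u a 0) = R.u p.1 p.2 := by
    intro a
    obtain ⟨x, y, h⟩ := h1 _ (R.u_mem a 0)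
    exact ⟨(x, y), h⟩
  choose αγ hα using hα
  let α : F → F := fun a => (αγ a).1
  let γ : F → F := fun a => (αγ a).2
  have hα : ∀ a, ψ (R.u a 0) = R.u (α a) (γ a) := hα
  have hu : ∀ a b : F, R.u a b = R.u a 0 * R.u 0 b := by
    intro a b
    rw [R.u_mul]
    congr 1
    · ring
    · rw [map_zero]; ring
  have hαβ : ∀ a b, ψ (R.u a b) = R.u (α a) (γ a + β b) := by
    intro a b
    rw [hu, map_mul, hα, hβ, R.u_mul]
    congr 1
    · ring
    · rw [map_zero]; ring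
  have hβd : ∀ (b : F) (k : Fˣ), β (b * R.θ k) = β b * R.θ k := by
    intro b k
    have h3 := congrArg ψ (R.conj_d k 0 b)
    rw [map_mul, map_mul, map_inv, hD, hβ, R.conj_d, zero_mul, zero_mul, hβ] at h3
    exact (R.u_inj h3).2.symm
  have hβ0 : β 0 = 0 := by
    have h3 := hβ 0
    rw [R.u_zero, map_one, ← R.u_zero] at h3
    exact (R.u_inj h3).2.symm
  have hβ1 : β 1 ≠ 0 := by
    intro h
    have h3 := hβ 1
    rw [h, R.u_zero, ← map_one ψ] at h3
    exact R.u_ne_one one_ne_zero (ψ.injective h3)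
  have hβ2 : ∀ b, β b = β 1 * b := by
    intro b
    by_cases hb : b = 0
    · rw [hb, hβ0, mul_zero]
    · obtain ⟨k, hk⟩ := R.theta_surj b
      have hk0 : k ≠ 0 := by
        rintro rfl
        rw [map_zero] at hk
        exact hb hk.symm
      have h3 := hβd 1 (Units.mk0 k hk0)
      rw [Units.val_mk0, hk, one_mul] at h3
      exact h3
  -- the action on `T / Z(T)`
  have hαd : ∀ (a : F) (k : Fˣ), α (a * k ^ 2 * (R.θ k)⁻¹) = α a * k ^ 2 * (R.θ k)⁻¹ ∧
      γ (a * k ^ 2 * (R.θ k)⁻¹) = γ a * R.θ k := by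
    intro a k
    have h3 := congrArg ψ (R.conj_d k a 0)
    rw [map_mul, map_mul, map_inv, hD, hα, R.conj_d, zero_mul, hα] at h3
    exact ⟨(R.u_inj h3).1.symm, (R.u_inj h3).2.symm⟩
  have hα0 : α 0 = 0 ∧ γ 0 = 0 := by
    have h3 := hα 0
    rw [R.u_zero, map_one, ← R.u_zero] at h3
    exact ⟨(R.u_inj h3).1.symm, (R.u_inj h3).2.symm⟩
  have hα2 : ∀ a, α a = α 1 * a := by
    intro a
    by_cases ha : a = 0
    · rw [ha, hα0.1, mul_zero]
    · obtain ⟨k, hk⟩ := R.exists_sq_div (Units.mk0 a ha)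
      rw [Units.val_mk0] at hk
      have h3 := (hαd 1 k).1
      rw [one_mul, mul_assoc, hk] at h3
      exact h3
  have hγ1 : ∀ x : F, γ x = γ 1 * (x * R.θ x) := by
    intro x
    by_cases hx : x = 0
    · rw [hx, hα0.2, map_zero, mul_zero, mul_zero]
    · obtain ⟨k, hk⟩ := R.exists_sq_div (Units.mk0 x hx)
      rw [Units.val_mk0] at hk
      have h3 := (hαd 1 k).2
      rw [one_mul, hk] at h3
      rw [h3]
      congr 1
      rw [← hk, map_mul, map_inv₀, map_pow, R.sq]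
      have h5 := R.theta_ne_zero k
      have h6 := k.ne_zero
      field_simp
  -- compatibility with the multiplication
  have hcomp : ∀ a c : F, γ 1 * (a * R.θ c + c * R.θ a) =
      a * R.θ c * (β 1 + α 1 * R.θ (α 1)) := by
    intro a c
    have h3 := congrArg ψ (R.u_mul a 0 c 0)
    rw [map_mul, hα, hα, hαβ, R.u_mul] at h3
    have h4 := (R.u_inj h3).2
    rw [hγ1 (a + c), hγ1 a, hγ1 c, hβ2, hα2 a, hα2 c, map_mul, map_add] at h4
    linear_combination -h4 - (β 1 * a * R.θ c) * R.two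
  obtain ⟨x, hx⟩ := R.exists_theta_ne h8
  have hC : β 1 + α 1 * R.θ (α 1) = 0 := by
    have h3 := hcomp x 1
    have h4 := hcomp 1 x
    rw [map_one] at h3 h4
    have h5 : (x - R.θ x) * (β 1 + α 1 * R.θ (α 1)) = 0 := by linear_combination h4 - h3
    rcases mul_eq_zero.mp h5 with h6 | h6
    · exact absurd (sub_eq_zero.mp h6).symm hx
    · exact h6
  have hγ2 : γ 1 = 0 := by
    have h3 := hcomp x 1
    rw [map_one, hC, mul_zero] at h3
    rcases mul_eq_zero.mp h3 with h5 | h5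
    · exact h5
    · exfalso
      apply hx
      linear_combination h5 - x * R.two
  have hβα : β 1 = α 1 * R.θ (α 1) := by
    linear_combination hC - (α 1 * R.θ (α 1)) * R.two
  have hα1 : α 1 ≠ 0 := by
    intro h
    rw [h, zero_mul] at hβα
    exact hβ1 hβα
  obtain ⟨k, hk⟩ := R.exists_sq_div (Units.mk0 (α 1) hα1)
  rw [Units.val_mk0] at hk
  have hβk : β 1 = R.θ k := by
    rw [hβα, ← hk, map_mul, map_inv₀, map_pow, R.sq]
    have h5 := R.theta_ne_zero k
    have h6 := k.ne_zero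
    field_simp
  refine ⟨R.d k, ?_⟩
  have h3 : (MulAut.conj (R.d k))⁻¹ * ψ = 1 := by
    refine R.eq_one_of_fix ?_ ?_
    · rintro _ ⟨a, b, rfl⟩
      rw [MulAut.mul_apply, MulAut.inv_apply, MulEquiv.symm_apply_eq, MulAut.conj_apply, R.conj_d,
        hαβ, hγ1, hγ2, hα2, hβ2, hβk, ← hk]
      congr 1 <;> ring
    · have h4 : R.w * ((MulAut.conj (R.d k))⁻¹ * ψ) R.w = R.d k * (R.w * ψ R.w) * R.d k := by
        rw [MulAut.mul_apply, MulAut.inv_apply, MulAut.conj_symm_apply]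
        have h5 : R.w * (R.d k)⁻¹ = R.d k * R.w := by
          rw [R.d_inv, R.w_mul_d, inv_inv]
        calc R.w * ((R.d k)⁻¹ * ψ R.w * R.d k) = (R.w * (R.d k)⁻¹) * ψ R.w * R.d k := by group
          _ = R.d k * (R.w * ψ R.w) * R.d k := by rw [h5]; group
      rw [h4]
      exact mul_mem (mul_mem (R.D_le (R.d_mem k)) h2) (R.D_le (R.d_mem k))
  rw [inv_mul_eq_one] at h3
  exact h3.symm

theorem norm_map {ψ : MulAut J} (h1 : ∀ x ∈ R.T, ψ x ∈ R.T) :
    ∀ g ∈ Subgroup.normalizer (R.T : Set J), ψ g ∈ Subgroup.normalizer (R.T : Set J) := by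
  intro g hg
  have h3 : ψ (g * R.u 0 1 * g⁻¹) ∈ R.T :=
    h1 _ ((Subgroup.mem_normalizer_iff.1 hg _).1 (R.u_mem 0 1))
  rw [map_mul, map_mul, map_inv] at h3
  refine R.ti (h1 _ (R.u_mem 0 1)) ?_ h3
  intro h4
  rw [← map_one ψ] at h4
  exact R.u_ne_one one_ne_zero (ψ.injective h4)

theorem inv_mem_T [Finite J] {ψ : MulAut J} (h1 : ∀ x ∈ R.T, ψ x ∈ R.T) :
    ∀ x ∈ R.T, ψ⁻¹ x ∈ R.T := by
  have h2 : R.T.map ψ.toMonoidHom = R.T := by
    refine Subgroup.eq_of_le_of_card_ge ?_ ?_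
    · rintro _ ⟨x, hx, rfl⟩
      exact h1 x hx
    · rw [Nat.card_congr (R.T.equivMapOfInjective ψ.toMonoidHom ψ.injective).toEquiv]
  intro x hx
  rw [← h2] at hx
  obtain ⟨y, hy, rfl⟩ := hx
  have : ψ⁻¹ (ψ.toMonoidHom y) = y := by
    change ψ⁻¹ (ψ y) = y
    rw [MulAut.inv_apply_self]
  rw [this]
  exact hy

/-- every automorphism is, up to an inner one, an automorphism fixing `T` and `T ^ w` -/
theorem exists_adjust [Finite J] [Fintype F] {m : ℕ} (hm : 1 ≤ m)
    (hF : Fintype.card F = 2 ^ (2 * m + 1)) (φ : MulAut J) :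
    ∃ j : J, (∀ x ∈ R.T, (MulAut.conj j * φ) x ∈ R.T) ∧
      R.w * (MulAut.conj j * φ) R.w ∈ Subgroup.normalizer (R.T : Set J) := by
  have : Fact (Nat.Prime 2) := ⟨Nat.prime_two⟩
  obtain ⟨P, hP⟩ := R.exists_sylow_eq hm hF
  obtain ⟨g, hg⟩ := MulAction.exists_smul_eq J P (φ • P)
  let φ' : MulAut J := MulAut.conj g⁻¹ * φ
  have hφ'P : φ' • P = P := by
    show (MulAut.conj g⁻¹ * φ) • P = P
    have h3 : ∀ (x : J) (Q : Sylow 2 J), MulAut.conj x • Q = x • Q := fun x Q => rfl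
    rw [mul_smul, h3, ← hg, inv_smul_smul]
  have hT := R.map_conj_T φ' P hP hφ'P
  have hw : ∃ s ∈ R.T, R.w * (s * φ' R.w) ∈ Subgroup.normalizer (R.T : Set J) := by
    rcases R.bruhat (φ' R.w) with ⟨a, b, k, h⟩ | ⟨a, b, c, e, k, h⟩
    · exfalso
      have h3 : φ' R.w ∈ Subgroup.normalizer (R.T : Set J) := by
        rw [h]
        exact R.ud_mem_normalizer a b k
      have h4 : φ' (R.w * R.u 0 1 * R.w⁻¹) ∈ R.T := by
        rw [map_mul, map_mul, map_inv]
        exact (Subgroup.mem_normalizer_iff.1 h3 _).1 (hT _ (R.u_mem 0 1))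
      have h5 : R.w * R.u 0 1 * R.w⁻¹ ∈ R.T := by
        have h6 : (φ'⁻¹ : MulAut J) • P = P := by
          rw [inv_smul_eq_iff, hφ'P]
        have := R.map_conj_T φ'⁻¹ P hP h6 _ h4
        rwa [MulAut.inv_apply_self] at this
      exact R.w_not_mem_normalizer (R.ti (R.u_mem 0 1) (R.u_ne_one one_ne_zero) h5)
    · refine ⟨(R.u a b)⁻¹, inv_mem (R.u_mem a b), ?_⟩
      have h3 : R.w * ((R.u a b)⁻¹ * φ' R.w) = R.u c e * R.d k := by
        rw [h]
        have h4 : R.w * ((R.u a b)⁻¹ * (R.u a b * R.w * (R.u c e * R.d k))) =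
            (R.w * R.w) * (R.u c e * R.d k) := by group
        rw [h4, R.w_mul_w, one_mul]
      rw [h3]
      exact R.ud_mem_normalizer c e k
  obtain ⟨s, hs, hw⟩ := hw
  refine ⟨s * g⁻¹, ?_, ?_⟩
  · intro x hx
    have h3 : (MulAut.conj (s * g⁻¹) * φ) x = s * φ' x * s⁻¹ := by
      show (s * g⁻¹) * φ x * (s * g⁻¹)⁻¹ = s * (g⁻¹ * φ x * (g⁻¹)⁻¹) * s⁻¹
      group
    rw [h3]
    exact mul_mem (mul_mem hs (hT x hx)) (inv_mem hs)
  · have h3 : R.w * (MulAut.conj (s * g⁻¹) * φ) R.w = (R.w * (s * φ' R.w)) * s⁻¹ := by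
      show R.w * ((s * g⁻¹) * φ R.w * (s * g⁻¹)⁻¹) = R.w * (s * (g⁻¹ * φ R.w * (g⁻¹)⁻¹)) * s⁻¹
      group
    rw [h3]
    exact mul_mem hw (Subgroup.le_normalizer (inv_mem hs))

/-- the automorphisms fixing `T` and `T ^ w` -/
def St [Finite J] : Subgroup (MulAut J) where
  carrier := {ψ | (∀ x ∈ R.T, ψ x ∈ R.T) ∧ R.w * ψ R.w ∈ Subgroup.normalizer (R.T : Set J)}
  one_mem' := by
    refine ⟨fun x hx => hx, ?_⟩
    rw [MulAut.one_apply, R.w_mul_w]
    exact one_mem _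
  mul_mem' := by
    rintro ψ χ ⟨h1, h2⟩ ⟨h3, h4⟩
    refine ⟨fun x hx => h1 _ (h3 x hx), ?_⟩
    have hn := norm_map R h1
    have h5 : R.w * (ψ * χ) R.w = (R.w * ψ R.w) * ψ (R.w * χ R.w) := by
      rw [map_mul, MulAut.mul_apply]
      have h6 : ψ R.w * ψ R.w = 1 := by rw [← map_mul, R.w_mul_w, map_one]
      calc R.w * ψ (χ R.w) = R.w * (ψ R.w * ψ R.w) * ψ (χ R.w) := by rw [h6]; group
        _ = _ := by group
    rw [h5]
    exact mul_mem h2 (hn _ h4)
  inv_mem' := by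
    rintro ψ ⟨h1, h2⟩
    have h3 := inv_mem_T R h1
    refine ⟨h3, ?_⟩
    have hn := norm_map R h3
    have h5 : R.w * ψ⁻¹ R.w = (ψ⁻¹ (R.w * ψ R.w))⁻¹ := by
      rw [map_mul, MulAut.inv_apply_self, _root_.mul_inv_rev, R.w_inv, ← map_inv, R.w_inv]
    rw [h5]
    exact inv_mem (hn _ h2)

/-- the field automorphism of an automorphism fixing `T` and `T ^ w` -/
noncomputable def rho [Finite J] [Fintype F] : St R →* (F ≃+* F) :=
  MonoidHom.mk' (fun ψ => (exists_field R ψ.2.1 ψ.2.2).choose) (by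
    intro ψ χ
    have h1 := (exists_field R ψ.2.1 ψ.2.2).choose_spec
    have h2 := (exists_field R χ.2.1 χ.2.2).choose_spec
    have h3 := (exists_field R (ψ * χ).2.1 (ψ * χ).2.2).choose_spec
    set σ := (exists_field R ψ.2.1 ψ.2.2).choose
    set τ := (exists_field R χ.2.1 χ.2.2).choose
    set υ := (exists_field R (ψ * χ).2.1 (ψ * χ).2.2).choose
    ext x
    rw [RingAut.mul_apply]
    by_cases hx : x = 0
    · rw [hx, map_zero, map_zero, map_zero]
    · obtain ⟨k, rfl⟩ := R.theta_surj x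
      have hk0 : k ≠ 0 := by
        rintro rfl
        exact hx (map_zero _)
      obtain ⟨l, hl1, hl2⟩ := h2 (Units.mk0 k hk0)
      obtain ⟨n, hn1, hn2⟩ := h1 l
      obtain ⟨n', hn1', hn2'⟩ := h3 (Units.mk0 k hk0)
      have h4 : ((ψ * χ : St R) : MulAut J) (R.d (Units.mk0 k hk0)) = R.d n := by
        rw [Subgroup.coe_mul, MulAut.mul_apply, hl1, hn1]
      rw [hn1'] at h4
      have h5 := R.d_inj h4
      rw [Units.val_mk0] at hl2 hn2'
      rw [← hn2', h5, hn2, hl2])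

theorem rho_spec [Finite J] [Fintype F] (ψ : St R) (k : Fˣ) :
    ∃ l : Fˣ, (ψ : MulAut J) (R.d k) = R.d l ∧ R.θ (l : F) = rho R ψ (R.θ (k : F)) :=
  (exists_field R ψ.2.1 ψ.2.2).choose_spec k

include R in
/-- **The outer automorphism group of a Suzuki group is cyclic.** -/
theorem isCyclic_out' [Finite J] [Fintype F] {m : ℕ} (hm : 1 ≤ m)
    (hF : Fintype.card F = 2 ^ (2 * m + 1)) : IsCyclic (Cfsg.Out J) := by
  have h8 : 8 ≤ Nat.card F := by
    rw [Nat.card_eq_fintype_card, hF]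
    exact SzRel.Rel.eight_le hm
  let f : St R →* Cfsg.Out J := (QuotientGroup.mk' (Cfsg.Inn J)).comp (St R).subtype
  have hf : Function.Surjective f := by
    intro y
    obtain ⟨φ, rfl⟩ := QuotientGroup.mk_surjective y
    obtain ⟨j, h1, h2⟩ := exists_adjust R hm hF φ
    refine ⟨⟨MulAut.conj j * φ, h1, h2⟩, ?_⟩
    change ((MulAut.conj j * φ : MulAut J) : Cfsg.Out J) = (φ : Cfsg.Out J)
    rw [QuotientGroup.mk_mul]
    have h3 : ((MulAut.conj j : MulAut J) : Cfsg.Out J) = 1 := by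
      rw [QuotientGroup.eq_one_iff]
      exact ⟨j, rfl⟩
    rw [h3, one_mul]
  have hker : (rho R).ker ≤ f.ker := by
    intro ψ hψ
    rw [MonoidHom.mem_ker] at hψ ⊢
    have h1 : ∀ k : Fˣ, (ψ : MulAut J) (R.d k) = R.d k := by
      intro k
      obtain ⟨l, hl1, hl2⟩ := rho_spec R ψ k
      rw [hψ, RingAut.one_apply] at hl2
      rw [hl1]
      congr 1
      exact Units.ext (R.θ.injective hl2)
    obtain ⟨j, hj⟩ := inner_of_fix_D R h8 ψ.2.1 ψ.2.2 h1
    change ((ψ : MulAut J) : Cfsg.Out J) = 1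
    rw [QuotientGroup.eq_one_iff, hj]
    exact ⟨j, rfl⟩
  have hc : IsCyclic (F ≃+* F) := Cfsg.Agent.LieRecognition.FieldSemilinear.isCyclic_ringAut F
  have hc2 : IsCyclic (St R ⧸ (rho R).ker) :=
    isCyclic_of_injective (QuotientGroup.kerLift (rho R)) (QuotientGroup.kerLift_injective (rho R))
  refine isCyclic_of_surjective (QuotientGroup.lift (rho R).ker f hker) ?_
  intro y
  obtain ⟨x, rfl⟩ := hf y
  exact ⟨(x : St R ⧸ (rho R).ker), rfl⟩

include R in
/-- All involutions of a Suzuki group are conjugate. -/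
theorem isConj_involutions [Finite J] [Fintype F] {m : ℕ} (hm : 1 ≤ m)
    (hF : Fintype.card F = 2 ^ (2 * m + 1)) {s t : J} (hs : s ≠ 1) (hs2 : s * s = 1)
    (ht : t ≠ 1) (ht2 : t * t = 1) : IsConj s t := by
  have : Fact (Nat.Prime 2) := ⟨Nat.prime_two⟩
  obtain ⟨P, hP⟩ := R.exists_sylow_eq hm hF
  -- every involution is conjugate to one of `T`
  have key : ∀ s : J, s ≠ 1 → s * s = 1 → ∃ g : J, g * s * g⁻¹ ∈ R.T := by
    intro s _ hs2
    have h1 : IsPGroup 2 (Subgroup.zpowers s) := by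
      rintro ⟨x, k, rfl⟩
      refine ⟨1, ?_⟩
      apply Subtype.ext
      show (s ^ k) ^ 2 ^ 1 = 1
      rw [pow_one, ← zpow_natCast, zpow_comm, zpow_natCast, pow_two, hs2, one_zpow]
    obtain ⟨Q, hQ⟩ := h1.exists_le_sylow
    obtain ⟨g, hg⟩ := MulAction.exists_smul_eq J Q P
    refine ⟨g, ?_⟩
    rw [← hP, ← hg]
    exact Subgroup.smul_mem_pointwise_smul _ (MulAut.conj g) _ (hQ (Subgroup.mem_zpowers s))
  obtain ⟨g, hg⟩ := key s hs hs2
  obtain ⟨h, hh⟩ := key t ht ht2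
  have hc1 : ∀ x y : J, x ≠ 1 → y * x * y⁻¹ ≠ 1 := by
    intro x y hx h1
    apply hx
    have : x = y⁻¹ * (y * x * y⁻¹) * y := by group
    rw [this, h1]; group
  have hc2 : ∀ x y : J, x * x = 1 → (y * x * y⁻¹) * (y * x * y⁻¹) = 1 := by
    intro x y hx
    have : (y * x * y⁻¹) * (y * x * y⁻¹) = y * (x * x) * y⁻¹ := by group
    rw [this, hx]; group
  obtain ⟨d, -, hd⟩ := R.trans _ hg _ hh (hc1 s g hs) (hc1 t h ht) (hc2 s g hs2) (hc2 t h ht2)
  rw [isConj_iff]
  refine ⟨h⁻¹ * d * g, ?_⟩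
  have h3 : h⁻¹ * d * g * s * (h⁻¹ * d * g)⁻¹ = h⁻¹ * (d * (g * s * g⁻¹) * d⁻¹) * h := by group
  rw [h3, hd]
  group

end

/-- **Suzuki groups have cyclic outer automorphism groups.** -/
theorem isCyclic_out [Finite J] (h : Cfsg.Lie.IsoSuzuki J) : IsCyclic (Cfsg.Out J) := by
  obtain ⟨F, iF, iF', m, hm, hc, ⟨R⟩⟩ := SzRel.exists_rel h
  exact isCyclic_out' R hm hc

/-- All involutions of a Suzuki group are conjugate. -/
theorem isConj_of_isoSuzuki [Finite J] (h : Cfsg.Lie.IsoSuzuki J) {s t : J} (hs : s ≠ 1)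
    (hs2 : s * s = 1) (ht : t ≠ 1) (ht2 : t * t = 1) : IsConj s t := by
  obtain ⟨F, iF, iF', m, hm, hc, ⟨R⟩⟩ := SzRel.exists_rel h
  exact isConj_involutions R hm hc hs hs2 ht ht2

end Cfsg.Agent.H504.SzOut
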