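import Cfsg.Agent.H504.ZerosCyc
import Cfsg.Agent.H504.ZerosMod
import Cfsg.Agent.H129.CycRow
import Cfsg.Agent.H868.KTwD4
import Cfsg.Agent.S1067
import Cfsg.Agent.Prune
set_option linter.all false
prune_inst 0x7f00000000000000000000000000000000000000000000000000000000000000000000000000000000000000000000000000000000000000000000000000000000000000000000000000000000000000003fffffffffffffffffffffffffffbeffbdffffffff
open scoped Cfsg.Agent.FastGrp

/-!
# S4895: the row `³D₄(q)`
-/

set_option autoImplicit false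

namespace Cfsg.Agent.H504.ZerosD4

open Cfsg Cfsg.Lie Cfsg.Agent.H504.Zeros Cfsg.Agent.H504.ZerosMod Cfsg.Agent.H129.CycT

/-- **`³D₄(q)`** -/
theorem big_td4 {K : Type} [Field K] [Fintype K] {q : ℕ} (hq : IsPrimePow q)
    (hK : Fintype.card K = q ^ 3) : Big (twistedD4 K q) := by
  have hq2 : 2 ≤ q := hq.two_le
  have hcard := Cfsg.Agent.S1067.result (K := K) hq hK
  have hsub : ∀ d, ((q ^ d - 1 : ℕ) : ℤ) = (q : ℤ) ^ d - 1 := by
    intro d
    rw [Nat.cast_sub (Nat.one_le_pow _ _ (by omega))]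
    push_cast
    rfl
  have hc : (Nat.card ↥(twistedD4 K q) : ℤ) = (q : ℤ) ^ 12 * ((q : ℤ) ^ 2 - 1) *
      ((q : ℤ) ^ 6 - 1) * ((q : ℤ) ^ 8 + (q : ℤ) ^ 4 + 1) := by
    rw [hcard, Nat.cast_mul, Nat.cast_mul, Nat.cast_mul, hsub, hsub]
    push_cast
    ring
  obtain ⟨a, ha⟩ : ∃ a, a = q ^ 4 - q ^ 2 + 1 := ⟨_, rfl⟩
  have h4 : 4 ≤ q ^ 2 := by nlinarith only [hq2]
  have e4 : q ^ 4 = q ^ 2 * q ^ 2 := by ring
  have hle : q ^ 2 ≤ q ^ 4 := by nlinarith only [h4]
  have haz : (a : ℤ) = 1 - (q : ℤ) ^ 2 + (q : ℤ) ^ 4 := by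
    rw [ha]
    push_cast [Nat.cast_sub hle]
    ring
  have ha' : a + q ^ 2 = q ^ 4 + 1 := by omega
  have ha13 : 13 ≤ a := by nlinarith only [h4, haz]
  have hN : (Nat.card ↥(twistedD4 K q) : ℤ) = a * ((q : ℤ) ^ 12 * ((q : ℤ) ^ 2 - 1) *
      ((q : ℤ) ^ 6 - 1) * (1 + (q : ℤ) ^ 2 + (q : ℤ) ^ 4)) := by
    rw [hc, haz]
    ring
  have hmod : (((q : ℤ) ^ 12 * ((q : ℤ) ^ 2 - 1) *
      ((q : ℤ) ^ 6 - 1) * (1 + (q : ℤ) ^ 2 + (q : ℤ) ^ 4) : ℤ) : ZMod a) = ((4 : ℕ) : ZMod a) := by
    have h5 : ((1 - (q : ℤ) ^ 2 + (q : ℤ) ^ 4 : ℤ) : ZMod a) = 0 := by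
      rw [← haz]
      simp
    push_cast at h5 ⊢
    exact mod_D4_12 h5
  rcases Nat.eq_or_lt_of_le hq2 with h2 | h3
  · -- `q = 2`
    refine big_of_exact (a := a) (e := 4) (k := 12) (exact_tD4_12 hq hK haz) (by omega) (by omega)
      hN hmod (Cfsg.Agent.H868.KTwD4.td4 hq hK) ?_
    intro m hm
    rw [← h2] at ha'
    have : m = 3 := by omega
    rw [this]
    norm_num
  · -- `q ≥ 3`
    obtain ⟨r, hr, hr3, hrd, -⟩ := Cfsg.Agent.Lib.Zsigmondy.exists_primitive (a := q) (n := 3) hq2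
      (by norm_num) (by norm_num) (by omega)
    obtain ⟨s, hs, hs6, hsd, -⟩ := Cfsg.Agent.Lib.Zsigmondy.exists_primitive (a := q) (n := 6) hq2
      (by norm_num) (by norm_num) (by omega)
    have hr2 : r ≠ 2 := by
      rintro rfl
      omega
    have hr3' : r ≠ 3 := by
      rintro rfl
      omega
    have hs2 : s ≠ 2 := by
      rintro rfl
      omega
    have hs3' : s ≠ 3 := by
      rintro rfl
      omega
    have hrs : r ≠ s := by
      rintro rfl
      have h5 := (hr3 3).2 dvd_rfl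
      have h6 := (hs6 3).1 h5
      omega
    -- the cyclotomic value divides `q^12 - 1` and is prime to `q^6 - 1`
    have ha12 : ∀ l : ℕ, l.Prime → l ∣ a → l ∣ q ^ 6 - 1 → l = 2 ∨ l = 3 := by
      intro l hl hla hl6
      have h5 : ((q : ZMod l) ^ 6 - 1 = 0) := by
        have := (ZMod.natCast_eq_zero_iff (q ^ 6 - 1) l).2 hl6
        rw [Nat.cast_sub (Nat.one_le_pow _ _ (by omega))] at this
        push_cast at this
        exact this
      have h6 : (1 - (q : ZMod l) ^ 2 + (q : ZMod l) ^ 4 = 0) := by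
        have h7 : ((a : ℤ) : ZMod l) = 0 := by
          have := (ZMod.natCast_eq_zero_iff a l).2 hla
          exact_mod_cast this
        rw [haz] at h7
        push_cast at h7
        exact h7
      have h7 : (2 : ZMod l) = 0 := by
        linear_combination ((q : ZMod l) ^ 2 + 1) * h6 - h5
      have h8 : ((2 : ℕ) : ZMod l) = 0 := by exact_mod_cast h7
      have h9 := (ZMod.natCast_eq_zero_iff 2 l).1 h8
      exact Or.inl ((Nat.prime_dvd_prime_iff_eq hl Nat.prime_two).1 h9)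
    have hodd : ¬ 2 ∣ a := by
      intro h
      have h5 : (2 : ℤ) ∣ 1 - (q : ℤ) ^ 2 + (q : ℤ) ^ 4 := by rw [← haz]; exact_mod_cast h
      rcases Int.even_or_odd' (q : ℤ) with ⟨c, hc' | hc'⟩ <;> rw [hc'] at h5 <;> ring_nf at h5 <;>
        omega
    have h3a : ¬ 3 ∣ a := by
      intro h
      have h5 : (3 : ℤ) ∣ 1 - (q : ℤ) ^ 2 + (q : ℤ) ^ 4 := by rw [← haz]; exact_mod_cast h
      have h6 : (q : ℤ) % 3 = 0 ∨ (q : ℤ) % 3 = 1 ∨ (q : ℤ) % 3 = 2 := by (clear * -; omega)
      rcases h6 with h6 | h6 | h6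
      · obtain ⟨c, hc'⟩ : ∃ c : ℤ, (q : ℤ) = 3 * c := ⟨(q : ℤ) / 3, by omega⟩
        rw [hc'] at h5
        ring_nf at h5
        omega
      · obtain ⟨c, hc'⟩ : ∃ c : ℤ, (q : ℤ) = 3 * c + 1 := ⟨(q : ℤ) / 3, by omega⟩
        rw [hc'] at h5
        ring_nf at h5
        omega
      · obtain ⟨c, hc'⟩ : ∃ c : ℤ, (q : ℤ) = 3 * c + 2 := ⟨(q : ℤ) / 3, by omega⟩
        rw [hc'] at h5
        ring_nf at h5
        omega
    have hr6 : r ∣ q ^ 6 - 1 := (hr3 6).2 (by norm_num)
    have hs6' : s ∣ q ^ 6 - 1 := (hs6 6).2 dvd_rfl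
    have hd6 : q ^ 6 - 1 ∣ Nat.card ↥(twistedD4 K q) := by
      rw [hcard]
      exact ⟨q ^ 12 * (q ^ 2 - 1) * (q ^ 8 + q ^ 4 + 1), by ring⟩
    have h6 : 6 ∣ Nat.card ↥(twistedD4 K q) := by
      rw [hcard]
      have h7 : 6 ∣ q ^ 12 * (q ^ 2 - 1) := by
        have h8 : q ^ 2 - 1 = (q - 1) * (q + 1) := by
          obtain ⟨c, rfl⟩ : ∃ c, q = c + 1 := ⟨q - 1, by omega⟩
          simp only [Nat.add_sub_cancel]
          have : (c + 1) ^ 2 = c * (c + 1 + 1) + 1 := by ring
          (clear * - this; omega)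
        rw [h8]
        have h9 : q * ((q - 1) * (q + 1)) ∣ q ^ 12 * ((q - 1) * (q + 1)) :=
          Nat.mul_dvd_mul_right (dvd_pow_self q (by norm_num)) _
        refine dvd_trans ?_ h9
        obtain ⟨c, rfl⟩ : ∃ c, q = c + 1 := ⟨q - 1, by omega⟩
        simp only [Nat.add_sub_cancel]
        have h10 : 6 ∣ c * (c + 1) * (c + 2) := by
          have := Nat.factorial_dvd_ascFactorial c 3
          have h11 : c.ascFactorial 3 = c * (c + 1) * (c + 2) := by
            simp [Nat.ascFactorial]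
            ring
          rw [h11] at this
          simpa only [Nat.factorial, _root_.Nat.succ_eq_add_one, _root_.Nat.reduceAdd, _root_.zero_add, _root_.mul_one, _root_.Nat.reduceMul] using this
        have h12 : (c + 1) * (c * (c + 1 + 1)) = c * (c + 1) * (c + 2) := by ring
        rw [h12]
        exact h10
      exact (h7.mul_right _).mul_right _
    have h2G : 2 ∣ Nat.card ↥(twistedD4 K q) := (show 2 ∣ 6 by norm_num).trans h6
    have h3G : 3 ∣ Nat.card ↥(twistedD4 K q) := (show 3 ∣ 6 by norm_num).trans h6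
    have hord : ∀ l : ℕ, l.Prime → l ∣ Nat.card ↥(twistedD4 K q) →
        ∃ g : ↥(twistedD4 K q), orderOf g = l := fun l hl hd =>
      Cfsg.Agent.H92.KTools.hasOrd_prime hl hd
    refine big_of_exact_orders (a := a) (e := 4) (exact_tD4_12 hq hK haz) (by (clear * - ha13; omega)) (by (clear * - ha13; omega))
      hN hmod {1, 2, 3, r, s} ?_ ?_ ?_
    · intro n hn
      simp only [Finset.mem_insert, Finset.mem_singleton] at hn
      rcases hn with rfl | rfl | rfl | rfl | rfl
      · exact ⟨1, orderOf_one⟩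
      · exact hord 2 Nat.prime_two h2G
      · exact hord 3 Nat.prime_three h3G
      · exact hord _ hr (hr6.trans hd6)
      · exact hord _ hs (hs6'.trans hd6)
    · intro n hn
      simp only [Finset.mem_insert, Finset.mem_singleton] at hn
      rcases hn with rfl | rfl | rfl | rfl | rfl
      · exact Or.inl rfl
      · exact Or.inr hodd
      · exact Or.inr h3a
      · exact Or.inr fun h => (ha12 _ hr h hr6).elim hr2 hr3'
      · exact Or.inr fun h => (ha12 _ hs h hs6').elim hs2 hs3'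
    · intro m hm
      have hcd : ({1, 2, 3, r, s} : Finset ℕ).card = 5 := by
        have h1r := hr.one_lt
        have h1s := hs.one_lt
        rw [Finset.card_insert_of_notMem, Finset.card_insert_of_notMem,
          Finset.card_insert_of_notMem, Finset.card_insert_of_notMem, Finset.card_singleton]
        all_goals simp only [Finset.mem_insert, Finset.mem_singleton, not_or]
        all_goals (clear * - hrs hr3' hs3' hr2 hs2 h1r h1s; omega)
      rw [hcd]
      have h9 : 9 ≤ q ^ 2 := by nlinarith only [h3]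
      have h5 : 4 * m + q ^ 2 = q ^ 4 := by (clear * - ha' hm; omega)
      have h10 : 18 ≤ m := by nlinarith only [haz, hm, h9]
      omega

end Cfsg.Agent.H504.ZerosD4
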