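import Mathlib
set_option linter.all false

/-!
# Groups of nilpotency class at most two
-/

set_option autoImplicit false

namespace Cfsg.Agent.H504.ClassLe

open scoped commutatorElement

/-- In a group of nilpotency class at most two, commutators are central. -/
theorem commutator_commute {M : Type*} [Group M] (hnil : Group.IsNilpotent M)
    (hcl : Group.nilpotencyClass M ≤ 2) (a b c : M) : ⁅a, b⁆ * c = c * ⁅a, b⁆ := by
  have h1 : (⊤ : Subgroup M).lowerCentralSeries 2 = ⊥ :=
    Subgroup.lowerCentralSeries_eq_bot_iff_nilpotencyClass_le.mpr hcl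
  rw [← commutatorElement_eq_one_iff_mul_comm]
  have h2 : ⁅⁅a, b⁆, c⁆ ∈ (⊤ : Subgroup M).lowerCentralSeries 2 := by
    rw [Subgroup.lowerCentralSeries_succ, Subgroup.lowerCentralSeries_succ,
      Subgroup.lowerCentralSeries_zero]
    exact Subgroup.commutator_mem_commutator
      (Subgroup.commutator_mem_commutator (Subgroup.mem_top a) (Subgroup.mem_top b))
      (Subgroup.mem_top c)
  rw [h1, Subgroup.mem_bot] at h2
  exact h2

end Cfsg.Agent.H504.ClassLe
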