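import Cfsg.Agent.H504.TwoExt
import Cfsg.Prelude.Def_KGroupFacts
import Cfsg.Agent.H377.TwoConv.Alt_m3
import Cfsg.Agent.H377.TwoConv.LSeven
import Cfsg.Agent.H713.Two.Sing_m3
import Cfsg.Agent.H671.Frame
import Cfsg.Agent.FastGrp
import Cfsg.Agent.Prune
set_option linter.all false

section
prune_inst 0x7fbdfefd3fb8eddeffff7e7ffef5dffe3bd6cfffffdffb4bffedffffefdfa3733be5fb8f1de458ffded7e2b6b8b87853fbffdeffef6bfc7ffffd5ff45ffbee1ff7febfa171df9ff4df7a6fffebf37fbfffbfffffffffffffffffffffffffffffffffffffffff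

-- part: H504/TwoNonab
section
prune_inst 0x400102004012210000018001020001c4282000002004b00010000010204808c4120030e21b87002100110806440388040000000090038000020008200411c00800401a0e20000b00011000040c804000000000000000000000000000000000000000000000
set_option linter.all false
open scoped Cfsg.Agent.FastGrp

/-!
# S4897: non-abelian minimal normal subgroups

* `two_of_pi` : `N ≅ S ^ k`, `k ≥ 2`, `N < G`.
* `two_of_simple` : `N ≅ S`, `G / N` not solvable.
-/

set_option autoImplicit false
set_option linter.unusedSectionVars false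

open scoped ComplexConjugate

namespace Cfsg.Agent.H504.TwoZ

open Cfsg Cfsg.Agent.Characters.Core Cfsg.Agent.H504.ZeroTI Cfsg.Agent.H504.Zeros
open Cfsg.Agent.H671.H5

universe u v

variable {G : Type u} [Group G]

/-- two different primes divide the order of a finite non-solvable group -/
theorem exists_two_primes (C : Type v) [Group C] [Finite C] (h : ¬ Group.IsSolvable C) :
    ∃ p r : ℕ, p.Prime ∧ r.Prime ∧ p ≠ r ∧ p ∣ Nat.card C ∧ r ∣ Nat.card C := by
  classical
  have h1 : Nat.card C ≠ 1 := by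
    intro h1
    have : Subsingleton C := (Nat.card_eq_one_iff_unique.1 h1).1
    exact h inferInstance
  obtain ⟨p, hp, hpd⟩ := Nat.exists_prime_and_dvd h1
  by_contra hcon
  push Not at hcon
  have : Fact p.Prime := ⟨hp⟩
  have h2 : IsPGroup p C := by
    rw [IsPGroup.iff_card]
    refine ⟨(Nat.card C).primeFactorsList.length, ?_⟩
    refine Nat.eq_prime_pow_of_unique_prime_dvd Nat.card_pos.ne' fun {d} hd hdd => ?_
    by_contra hne
    exact hcon p d hp hd (fun h => hne h.symm) hpd hdd
  have := h2.isNilpotent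
  exact h inferInstance

/-- an element of order prime different from a given number -/
theorem exists_order_ne (C : Type v) [Group C] [Finite C] (h : ¬ Group.IsSolvable C) (n : ℕ) :
    ∃ c : C, c ≠ 1 ∧ orderOf c ≠ n := by
  obtain ⟨p, r, hp, hr, hne, hpd, hrd⟩ := exists_two_primes C h
  have : Fact p.Prime := ⟨hp⟩
  have : Fact r.Prime := ⟨hr⟩
  obtain ⟨x, hx⟩ := exists_prime_orderOf_dvd_card' p hpd
  obtain ⟨y, hy⟩ := exists_prime_orderOf_dvd_card' r hrd
  by_cases hpn : p = n
  · refine ⟨y, ?_, ?_⟩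
    · rintro rfl
      rw [orderOf_one] at hy
      exact hr.one_lt.ne hy
    · rw [hy, ← hpn]
      exact hne.symm
  · refine ⟨x, ?_, ?_⟩
    · rintro rfl
      rw [orderOf_one] at hx
      exact hp.one_lt.ne hx
    · rw [hx]
      exact hpn

theorem not_solvable_of_simple {S : Type v} [Group S] [IsSimpleGroup S] (hna : ¬ IsMulCommutative S) :
    ¬ Group.IsSolvable S := by
  intro h
  apply hna
  exact ⟨⟨fun a b => (IsSimpleGroup.comm_iff_isSolvable.2 h) a b⟩⟩

/-- a nonlinear irreducible character has a zero -/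
theorem exists_zero {S : Type v} [Group S] [Finite S] {θ : IrrCharacter S}
    (h : charDegree (θ : S → ℂ) ≠ 1) : ∃ x : S, (θ : S → ℂ) x = 0 ∧ x ≠ 1 := by
  have h1 := one_le_zc h
  have h2 : Nonempty {c : ConjClasses S // ∀ g : S, ConjClasses.mk g = c → (θ : S → ℂ) g = 0} := by
    by_contra hcon
    rw [not_nonempty_iff] at hcon
    have : zc θ = 0 := Nat.card_of_isEmpty
    omega
  obtain ⟨⟨c, hc⟩⟩ := h2
  obtain ⟨g, rfl⟩ := ConjClasses.exists_rep c
  refine ⟨g, hc g rfl, ?_⟩
  rintro rfl
  exact isIrr_apply_one_ne_zero θ.2 (hc 1 rfl)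

/-- the number of coordinates of order `n` -/
noncomputable def cnt {ι : Type*} [Fintype ι] {S : Type v} [Group S] (n : ℕ) (f : ι → S) : ℕ :=
  Nat.card {i : ι // orderOf (f i) = n}

theorem cnt_aut {ι : Type} [Fintype ι] [DecidableEq ι] {S : Type v} [Group S] [IsSimpleGroup S]
    (hna : ¬ IsMulCommutative S) (φ : MulAut (ι → S)) (n : ℕ) (f : ι → S) : cnt n (φ f) = cnt n f := by
  obtain ⟨σ, a, h⟩ := Cfsg.Agent.H671.Tensor.exists_components hna φ
  refine (Nat.card_congr (Equiv.subtypeEquiv σ fun i => ?_)).symm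
  rw [h, MulEquiv.orderOf_eq]

/-- **`N ≅ S ^ k`, `k ≥ 2`** -/
theorem two_of_pi [Finite G] (N : Subgroup G) [N.Normal] (hN : N ≠ ⊤) {S : Type v} [Group S] [Finite S]
    [IsSimpleGroup S] (hna : ¬ IsMulCommutative S) {k : ℕ} (hk : 2 ≤ k) (e : N ≃* (Fin k → S))
    {θ : IrrCharacter S} (hθ1 : charDegree (θ : S → ℂ) ≠ 1) (hθ : ExtAut θ) : Two G := by
  classical
  obtain ⟨χ, hχ⟩ := Cfsg.Agent.H671.Tensor.exists_extension N hna e hθ
  obtain ⟨x, hx0, hx1⟩ := exists_zero hθ1
  obtain ⟨y, hy1, hyx⟩ := exists_order_ne S (not_solvable_of_simple hna) (orderOf x)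
  have hres : IsIrrCharacter N (fun n : N => (χ : G → ℂ) n) := by
    have h4 : (fun n : N => (χ : G → ℂ) n) =
        (fun n : Fin k → S => ∏ i, (θ : S → ℂ) (n i)) ∘ (e : N →* (Fin k → S)) := by
      funext n
      exact hχ n
    rw [h4]
    exact isIrr_comp (e : N →* (Fin k → S)) e.surjective (Cfsg.Agent.H713.isIrr_pi θ.2)
  refine two_of_gallagher N hN hres ?_
  let i0 : Fin k := ⟨0, by omega⟩
  let i1 : Fin k := ⟨1, by omega⟩
  have h01 : i0 ≠ i1 := by
    intro h
    have := congrArg Fin.val h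
    simp [i0, i1] at this
  let a : Fin k → S := fun i => if i = i0 then x else 1
  let b : Fin k → S := fun i => if i = i0 then x else if i = i1 then x else 1
  let c : Fin k → S := fun i => if i = i0 then x else if i = i1 then y else 1
  have hox : orderOf x ≠ 1 := fun h => hx1 (orderOf_eq_one_iff.1 h)
  have hoy : orderOf y ≠ 1 := fun h => hy1 (orderOf_eq_one_iff.1 h)
  have cnt_of : ∀ (n : ℕ) (f : Fin k → S) (T : Finset (Fin k)),
      (∀ i, orderOf (f i) = n ↔ i ∈ T) → cnt n f = T.card := by
    intro n f T h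
    unfold cnt
    rw [Nat.card_congr (Equiv.subtypeEquivRight h), Nat.card_eq_fintype_card, Fintype.card_coe]
  have ha : cnt (orderOf x) a = 1 := by
    rw [cnt_of _ _ {i0}]
    · simp
    · intro i
      simp only [a, Finset.mem_singleton]
      split_ifs with h
      · simp [h]
      · rw [orderOf_one]
        exact ⟨fun h' => absurd h'.symm hox, fun h' => absurd h' h⟩
  have hb : cnt (orderOf x) b = 2 := by
    rw [cnt_of _ _ {i0, i1}]
    · exact Finset.card_pair h01
    · intro i
      simp only [b, Finset.mem_insert, Finset.mem_singleton]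
      split_ifs with h h'
      · simp [h]
      · simp [h']
      · rw [orderOf_one]
        exact ⟨fun h'' => absurd h''.symm hox, fun h'' => absurd h'' (by tauto)⟩
  have hc : cnt (orderOf x) c = 1 := by
    rw [cnt_of _ _ {i0}]
    · simp
    · intro i
      simp only [c, Finset.mem_singleton]
      split_ifs with h h'
      · simp [h]
      · exact ⟨fun h'' => absurd h'' hyx, fun h'' => absurd h'' h⟩
      · rw [orderOf_one]
        exact ⟨fun h' => absurd h'.symm hox, fun h' => absurd h' h⟩
  have ha' : cnt (orderOf y) a = 0 := by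
    rw [cnt_of _ _ ∅]
    · simp
    · intro i
      simp only [a, Finset.notMem_empty, iff_false]
      split_ifs with h
      · exact fun h' => hyx h'.symm
      · rw [orderOf_one]
        exact fun h' => hoy h'.symm
  have hc' : cnt (orderOf y) c = 1 := by
    rw [cnt_of _ _ {i1}]
    · simp
    · intro i
      simp only [c, Finset.mem_singleton]
      split_ifs with h h'
      · rw [h]
        exact ⟨fun h' => absurd h'.symm hyx, fun h' => absurd h' h01⟩
      · simp [h']
      · rw [orderOf_one]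
        exact ⟨fun h'' => absurd h''.symm hoy, fun h'' => absurd h'' h'⟩
  have hab : a ≠ b := by
    intro h
    rw [h] at ha
    omega
  have hbc : b ≠ c := by
    intro h
    rw [h] at hb
    omega
  have hac : a ≠ c := by
    intro h
    rw [h] at ha'
    omega
  have hNC : AutNC ({a, b, c} : Finset (Fin k → S)) := by
    intro g hg h hh φ hφ
    have e1 : cnt (orderOf x) g = cnt (orderOf x) h := by rw [← hφ, cnt_aut hna]
    have e2 : cnt (orderOf y) g = cnt (orderOf y) h := by rw [← hφ, cnt_aut hna]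
    simp only [Finset.mem_insert, Finset.mem_singleton] at hg hh
    rcases hg with rfl | rfl | rfl <;> rcases hh with rfl | rfl | rfl <;> first | rfl | omega
  obtain ⟨h1, h2⟩ := nonConj_image N e hNC
  have hcard : ({a, b, c} : Finset (Fin k → S)).card = 3 := by
    rw [Finset.card_eq_three]
    exact ⟨a, b, c, hab, hac, hbc, rfl⟩
  refine le_trans (by rw [h2, hcard]) (le_zc h1 fun g hg => ?_)
  obtain ⟨f, hf, rfl⟩ := Finset.mem_image.1 hg
  rw [hχ, MulEquiv.apply_symm_apply]
  apply Finset.prod_eq_zero (Finset.mem_univ i0)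
  have : f i0 = x := by
    simp only [Finset.mem_insert, Finset.mem_singleton] at hf
    rcases hf with rfl | rfl | rfl <;> simp [a, b, c]
  rw [this]
  exact hx0

/-- the centralizer of a simple normal subgroup with non-solvable quotient is not solvable -/
theorem not_solvable_centralizer [Finite G] (N : Subgroup G) [N.Normal] {S : Type v} [Group S] [Finite S]
    [IsSimpleGroup S] (hOut : Group.IsSolvable (Cfsg.Out S)) (e : N ≃* S) (hQ : ¬ Group.IsSolvable (G ⧸ N)) :
    ¬ Group.IsSolvable (Subgroup.centralizer (N : Set G)) := by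
  intro hC
  apply hQ
  set C := Subgroup.centralizer (N : Set G) with hCdef
  have hCn : C.Normal := inferInstance
  -- `f : G → Out S` has kernel `N C`
  let c : G →* MulAut S := (MulAut.congr e).toMonoidHom.comp (MulAut.conjNormal (H := N))
  let f : G →* Cfsg.Out S := (QuotientGroup.mk' (Inn S)).comp c
  have hfN : ∀ n ∈ N, f n = 1 := by
    intro n hn
    have hc : c n = MulAut.conj (e ⟨n, hn⟩) := by
      ext x
      show e (MulAut.conjNormal (n : G) (e.symm x)) = _
      have h1 : MulAut.conjNormal (n : G) (e.symm x) = ⟨n, hn⟩ * e.symm x * ⟨n, hn⟩⁻¹ := by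
        apply Subtype.ext
        rw [MulAut.conjNormal_apply]
        rfl
      rw [h1, map_mul, map_mul, map_inv, MulEquiv.apply_symm_apply]
      rfl
    show QuotientGroup.mk' (Inn S) (c n) = 1
    rw [hc]
    exact (QuotientGroup.eq_one_iff _).2 ⟨_, rfl⟩
  have hf : ∀ g, f g = 1 → g ∈ N ⊔ C := by
    intro g hg
    have h1 : c g ∈ Inn S := (QuotientGroup.eq_one_iff _).1 hg
    obtain ⟨s, hs⟩ := h1
    have h2 : ((e.symm s : N) : G)⁻¹ * g ∈ C := by
      rw [hCdef, Subgroup.mem_centralizer_iff]
      intro n hn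
      have h3 : c g (e ⟨n, hn⟩) = MulAut.conj s (e ⟨n, hn⟩) := by rw [← hs]
      have h4 : e (MulAut.conjNormal g ⟨n, hn⟩) = s * e ⟨n, hn⟩ * s⁻¹ := by
        have h5 : c g (e ⟨n, hn⟩) = e (MulAut.conjNormal g (e.symm (e ⟨n, hn⟩))) := rfl
        rw [MulEquiv.symm_apply_apply] at h5
        rw [← h5, h3]
        rfl
      have h5 : MulAut.conjNormal g ⟨n, hn⟩ = e.symm s * ⟨n, hn⟩ * (e.symm s)⁻¹ := by
        apply e.injective
        rw [h4, map_mul, map_mul, map_inv, MulEquiv.apply_symm_apply]
      have h6 := congrArg Subtype.val h5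
      rw [MulAut.conjNormal_apply] at h6
      have h7 : g * n * g⁻¹ = (e.symm s : N) * n * ((e.symm s : N) : G)⁻¹ := h6
      calc n * (((e.symm s : N) : G)⁻¹ * g) = ((e.symm s : N) : G)⁻¹ * (((e.symm s : N) : G) * n * ((e.symm s : N) : G)⁻¹) * g := by group
        _ = ((e.symm s : N) : G)⁻¹ * (g * n * g⁻¹) * g := by rw [h7]
        _ = ((e.symm s : N) : G)⁻¹ * g * n := by group
    have h3 : g = ((e.symm s : N) : G) * (((e.symm s : N) : G)⁻¹ * g) := by group
    rw [h3]
    exact (N ⊔ C).mul_mem (Subgroup.mem_sup_left (e.symm s).2) (Subgroup.mem_sup_right h2)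
  let fb : G ⧸ N →* Cfsg.Out S := QuotientGroup.lift N f hfN
  have hker : Group.IsSolvable fb.ker := by
    -- `C → ker fb` is surjective
    let g : C →* G ⧸ N := (QuotientGroup.mk' N).comp C.subtype
    have hsub : fb.ker ≤ g.range := by
      intro q hq
      obtain ⟨x, rfl⟩ := QuotientGroup.mk_surjective q
      have h1 : f x = 1 := hq
      have h2 := hf x h1
      rw [Subgroup.mem_sup_of_normal_left] at h2
      obtain ⟨n, hn, c', hc', rfl⟩ := h2
      refine ⟨⟨c', hc'⟩, ?_⟩
      show (QuotientGroup.mk' N) c' = (QuotientGroup.mk' N) (n * c')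
      rw [map_mul, show (QuotientGroup.mk' N) n = 1 from (QuotientGroup.eq_one_iff n).2 hn, one_mul]
    have hr : Group.IsSolvable g.range := Group.isSolvable_of_surjective (f := g.rangeRestrict) g.rangeRestrict_surjective
    exact Group.isSolvable_of_isSolvable_injective (Subgroup.inclusion_injective hsub)
  exact Group.isSolvable_of_ker_le_range fb.ker.subtype fb (by simp)

/-- **`N ≅ S` simple, `G / N` not solvable** -/
theorem two_of_simple [Finite G] (N : Subgroup G) [N.Normal] (hQ : ¬ Group.IsSolvable (G ⧸ N)) {S : Type v}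
    [Group S] [Finite S] [IsSimpleGroup S] (hna : ¬ IsMulCommutative S)
    (hOut : Group.IsSolvable (Cfsg.Out S)) (e : N ≃* S) {θ : IrrCharacter S} (hθ1 : charDegree (θ : S → ℂ) ≠ 1) (hθ : ExtAut θ) : Two G := by
  classical
  have hN : N ≠ ⊤ := by
    rintro rfl
    apply hQ
    have : Subsingleton (G ⧸ (⊤ : Subgroup G)) := QuotientGroup.subsingleton_quotient_top
    infer_instance
  obtain ⟨χ, hχ, hχc⟩ := exists_ext N e hθ
  refine two_of_gallagher N hN (isIrr_restrict_of_ext N e hχ) ?_
  obtain ⟨x, hx0, -⟩ := exists_zero hθ1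
  have hC := not_solvable_centralizer N hOut e hQ
  obtain ⟨c, hc1, hcn⟩ := exists_order_ne _ hC 1
  obtain ⟨d, hd1, hdc⟩ := exists_order_ne _ hC (orderOf c)
  -- the order of the image in `G / N`
  have hint : ∀ z : Subgroup.centralizer (N : Set G), (z : G) ∈ N → z = 1 := by
    intro z hz
    have h1 : ∀ s : S, s * e ⟨z, hz⟩ = e ⟨z, hz⟩ * s := by
      intro s
      have h2 := Subgroup.mem_centralizer_iff.1 z.2 _ (e.symm s).2
      apply e.symm.injective
      rw [map_mul, map_mul, MulEquiv.symm_apply_apply]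
      exact Subtype.ext h2
    have h2 : e ⟨z, hz⟩ ∈ Subgroup.center S := Subgroup.mem_center_iff.2 h1
    have h3 : Subgroup.center S = ⊥ := by
      rcases (inferInstance : (Subgroup.center S).Normal).eq_bot_or_eq_top with h | h
      · exact h
      · exfalso
        apply hna
        refine ⟨⟨fun a b => ?_⟩⟩
        have : b ∈ Subgroup.center S := h ▸ Subgroup.mem_top b
        exact Subgroup.mem_center_iff.1 this a
    rw [h3, Subgroup.mem_bot, map_eq_one_iff e e.injective] at h2
    have h4 : (⟨z, hz⟩ : N) = 1 := h2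
    have h5 : (z : G) = 1 := congrArg Subtype.val h4
    exact Subtype.ext h5
  have hord : ∀ z : Subgroup.centralizer (N : Set G),
      orderOf ((QuotientGroup.mk' N) (((e.symm x : N) : G) * z)) = orderOf z := by
    intro z
    rw [map_mul, show (QuotientGroup.mk' N) ((e.symm x : N) : G) = 1 from
      (QuotientGroup.eq_one_iff _).2 (e.symm x).2, one_mul]
    have hinj : Function.Injective ((QuotientGroup.mk' N).comp (Subgroup.centralizer (N : Set G)).subtype) := by
      rw [injective_iff_map_eq_one]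
      intro w hw
      exact hint w ((QuotientGroup.eq_one_iff _).1 hw)
    exact orderOf_injective _ hinj z
  have hnc : NonConj ({((e.symm x : N) : G) * (1 : Subgroup.centralizer (N : Set G)),
      ((e.symm x : N) : G) * c, ((e.symm x : N) : G) * d} : Finset G) := by
    intro g hg h hh hcj
    have h1 : orderOf ((QuotientGroup.mk' N) g) = orderOf ((QuotientGroup.mk' N) h) := by
      obtain ⟨k, hk⟩ := isConj_iff.1 (isConj_map (QuotientGroup.mk' N) hcj)
      rw [← hk]
      exact (MulAut.conj k).orderOf_eq _ |>.symm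
    simp only [Finset.mem_insert, Finset.mem_singleton] at hg hh
    have hc1' : orderOf c ≠ 1 := hcn
    have hd1' : orderOf d ≠ 1 := fun h => hd1 (orderOf_eq_one_iff.1 h)
    rcases hg with rfl | rfl | rfl <;> rcases hh with rfl | rfl | rfl <;>
      simp only [hord, orderOf_one] at h1 <;> first | rfl | omega
  have hcard : ({((e.symm x : N) : G) * (1 : Subgroup.centralizer (N : Set G)),
      ((e.symm x : N) : G) * c, ((e.symm x : N) : G) * d} : Finset G).card = 3 := by
    rw [Finset.card_eq_three]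
    refine ⟨_, _, _, ?_, ?_, ?_, rfl⟩
    · intro h
      have h1 := hord 1
      rw [h, hord, orderOf_one] at h1
      exact hcn h1
    · intro h
      have h1 := hord 1
      rw [h, hord, orderOf_one] at h1
      exact hd1 (orderOf_eq_one_iff.1 h1)
    · intro h
      have h1 := hord c
      rw [h, hord] at h1
      exact hdc h1
  refine le_trans (by rw [hcard]) (le_zc hnc fun g hg => ?_)
  have hz : (χ : G → ℂ) ((e.symm x : N) : G) = 0 := by
    rw [hχ, MulEquiv.apply_symm_apply, hx0]
  simp only [Finset.mem_insert, Finset.mem_singleton] at hg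
  rcases hg with rfl | rfl | rfl
  · rw [OneMemClass.coe_one, mul_one]
    exact hz
  · rw [hχc _ _ c.2]
    exact hz
  · rw [hχc _ _ d.2]
    exact hz

end Cfsg.Agent.H504.TwoZ
end

-- part: H504/TwoQuotA5
section
prune_inst 0x420100c0071221000000000108200000010000000000000000000010200084000004208000a000000004000000800000002100000400000000a000000000400001000400002000008400001000000000400000000000000000000000000000000000000000
set_option linter.all false
open scoped Cfsg.Agent.FastGrp

/-!
# S4897: abelian normal subgroups with quotient `A₅`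
-/

set_option autoImplicit false
set_option linter.unusedSectionVars false

namespace Cfsg.Agent.H504.TwoZ

open Cfsg Cfsg.Agent.Characters.Core Cfsg.Agent.H504.ZeroTI Cfsg.Agent.H504.Zeros

universe u v

/-- four numbers, none divisible by three, whose squares add up to `60` -/
theorem exists_three {ι : Type*} (S : Finset ι) (d : ι → ℕ) (hS : S.card = 4)
    (h : ∑ i ∈ S, d i ^ 2 = 60) : ∃ i ∈ S, 3 ∣ d i := by
  by_contra hcon
  push Not at hcon
  have h1 : ∀ i ∈ S, d i ^ 2 ≡ 1 [MOD 3] := by
    intro i hi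
    have h2 := hcon i hi
    have h3 : d i % 3 = 1 ∨ d i % 3 = 2 := by omega
    rcases h3 with h3 | h3 <;> simp [Nat.ModEq, Nat.pow_mod, h3]
  have h2 : ∑ i ∈ S, d i ^ 2 ≡ ∑ i ∈ S, 1 [MOD 3] := by
    exact Nat.ModEq.sum fun i hi => h1 i hi
  rw [h, Finset.sum_const, hS] at h2
  simp [Nat.ModEq] at h2

/-- five positive numbers, none divisible by five, whose squares add up to `60` -/
theorem exists_five {ι : Type*} (S : Finset ι) (d : ι → ℕ) (hS : S.card = 5)
    (h : ∑ i ∈ S, d i ^ 2 = 60) : ∃ i ∈ S, 5 ∣ d i := by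
  classical
  by_contra hcon
  push Not at hcon
  have h7 : ∀ i ∈ S, d i ∈ ({1, 2, 3, 4, 6, 7} : Finset ℕ) := by
    intro i hi
    have h2 : d i ^ 2 ≤ 60 := by
      rw [← h]
      exact Finset.single_le_sum (f := fun i => d i ^ 2) (fun _ _ => Nat.zero_le _) hi
    have h3 : d i ≤ 7 := by
      by_contra h4
      have : 8 ≤ d i := by omega
      nlinarith only [h2, h4]
    have h4 := hcon i hi
    have h5 : d i ≠ 0 := by
      intro h0
      rw [h0] at h4
      exact h4 (dvd_zero 5)
    simp only [Finset.mem_insert, Finset.mem_singleton]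
    interval_cases (d i) <;> simp_all only [_root_.ne_eq, _root_.OfNat.ofNat_ne_zero, _root_.not_false_eq_true, _root_.zero_pow, _root_.zero_le, _root_.dvd_zero, _root_.not_true_eq_false, _root_.one_pow, _root_.Nat.one_le_ofNat, _root_.Nat.dvd_one, _root_.OfNat.ofNat_ne_one, _root_.one_ne_zero, _root_.OfNat.one_ne_ofNat, _root_.or_self, _root_.or_false, _root_.Nat.reducePow, _root_.Nat.reduceLeDiff, _root_.Nat.reduceDvd, _root_.Nat.reduceEqDiff, _root_.or_true, _root_.Nat.succ_ne_self, _root_.dvd_refl, _root_.Std.le_refl]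
  have h1 := Finset.card_eq_sum_card_fiberwise h7
  have h2 := Finset.sum_fiberwise_of_maps_to h7 (fun i => d i ^ 2)
  have h3 : ∀ v : ℕ, ∑ i ∈ S with d i = v, d i ^ 2 = (S.filter (fun i => d i = v)).card * v ^ 2 := by
    intro v
    rw [← smul_eq_mul, ← Finset.sum_const]
    exact Finset.sum_congr rfl fun i hi => by rw [(Finset.mem_filter.1 hi).2]
  rw [Finset.sum_congr rfl fun v _ => h3 v, h] at h2
  rw [hS] at h1
  rw [Finset.sum_insert (by decide), Finset.sum_insert (by decide), Finset.sum_insert (by decide),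
    Finset.sum_insert (by decide), Finset.sum_insert (by decide), Finset.sum_singleton] at h1 h2
  generalize (S.filter (fun i => d i = 1)).card = n1 at h1 h2
  generalize (S.filter (fun i => d i = 2)).card = n2 at h1 h2
  generalize (S.filter (fun i => d i = 3)).card = n3 at h1 h2
  generalize (S.filter (fun i => d i = 4)).card = n4 at h1 h2
  generalize (S.filter (fun i => d i = 6)).card = n6 at h1 h2
  generalize (S.filter (fun i => d i = 7)).card = n7 at h1 h2
  have h6 : n6 ≤ 1 := by (clear * - h2; omega)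
  have h7' : n7 ≤ 1 := by (clear * - h2; omega)
  have h4 : n4 ≤ 3 := by (clear * - h2; omega)
  have h3' : n3 ≤ 5 := by (clear * - h1; omega)
  interval_cases n6 <;> interval_cases n7 <;> interval_cases n4 <;> interval_cases n3 <;> (clear * - h1 h2; omega)

variable {G : Type u} [Group G] [Finite G] {Q : Type v} [Group Q] (π : G →* Q)

/-- at most `|N|` classes above a class -/
theorem fib_le_card (hπ : Function.Surjective π) (c : ConjClasses Q) : fib π c ≤ Nat.card π.ker := by
  obtain ⟨q, rfl⟩ := ConjClasses.exists_rep c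
  rw [← card_fiber π hπ q]
  unfold fib
  refine Nat.card_le_card_of_surjective (fun h : {h : G // π h = q} =>
    (⟨ConjClasses.mk h.1, by rw [map_mk, h.2]⟩ : {d : ConjClasses G // ConjClasses.map π d = ConjClasses.mk q})) ?_
  rintro ⟨d, hd⟩
  obtain ⟨x, rfl⟩ := ConjClasses.exists_rep d
  rw [map_mk, ConjClasses.mk_eq_mk_iff_isConj] at hd
  obtain ⟨c, hc⟩ := isConj_iff.1 hd
  obtain ⟨k, rfl⟩ := hπ c
  refine ⟨⟨k * x * k⁻¹, by rw [map_mul, map_mul, map_inv, hc]⟩, ?_⟩
  apply Subtype.ext
  show ConjClasses.mk (k * x * k⁻¹) = ConjClasses.mk x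
  rw [ConjClasses.mk_eq_mk_iff_isConj]
  exact (isConj_iff.2 ⟨k, rfl⟩).symm

/-- the sum of the squares of the degrees of the characters that do not come from `Q` -/
theorem sum_faith [Fintype (IrrCharacter G)] (hπ : Function.Surjective π) :
    ∑ χ ∈ (open Classical in Finset.univ.filter fun χ : IrrCharacter G => Faith π χ),
      charDegree (χ : G → ℂ) ^ 2 + Nat.card Q = Nat.card G := by
  classical
  have hQ : Finite Q := Finite.of_surjective π hπ
  have := finite_irr (G := Q)
  have := Fintype.ofFinite (IrrCharacter Q)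
  have h1 := Cfsg.Agent.H686.CharKit.sum_deg_sq (G := G)
  have h2 := Cfsg.Agent.H686.CharKit.sum_deg_sq (G := Q)
  rw [← h1, ← h2, ← Finset.sum_filter_add_sum_filter_not Finset.univ (fun χ : IrrCharacter G => Faith π χ)]
  congr 1
  refine Finset.sum_nbij (fun ψ => inf π hπ ψ) ?_ ?_ ?_ ?_
  · intro ψ _
    refine Finset.mem_filter.2 ⟨Finset.mem_univ _, fun h => h ⟨ψ, rfl⟩⟩
  · intro a _ b _ h
    exact inf_injective π hπ h
  · intro χ hχ
    obtain ⟨ψ, hψ⟩ := not_not.1 (Finset.mem_filter.1 hχ).2
    exact ⟨ψ, Finset.mem_coe.2 (Finset.mem_univ _), Subtype.ext hψ.symm⟩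
  · intro ψ _
    congr 1
    rw [Cfsg.Agent.Blocks.Basic.charDegree_def, Cfsg.Agent.Blocks.Basic.charDegree_def]
    show _ = ⌊(((ψ : Q → ℂ) (π 1))).re⌋₊
    rw [map_one]

theorem mk_ne_of_order {x y : Q} (h : orderOf x ≠ orderOf y) : ConjClasses.mk x ≠ ConjClasses.mk y := by
  intro h1
  obtain ⟨k, hk⟩ := isConj_iff.1 (ConjClasses.mk_eq_mk_iff_isConj.1 h1)
  apply h
  rw [← hk]
  exact ((MulAut.conj k).orderOf_eq _).symm

theorem aux_five {n j : ℕ} (h2 : 2 ≤ n) (h4 : n ≤ 4) (hj : j ≤ n) (hne : j ≠ n)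
    (h : 2 ^ n ≡ 2 ^ j [MOD 5]) : j = 0 := by
  unfold Nat.ModEq at h
  interval_cases n <;> interval_cases j <;> first | rfl | (exact absurd rfl hne) | (norm_num at h)

theorem aux_mod {r : ℕ} (h : r < 4) (h1 : 2 ^ r ≡ 1 [MOD 5]) (h2 : 2 ^ r ≡ 2 [MOD 3]) : False := by
  revert h1 h2
  interval_cases r <;> decide

/-- **quotient `A₅`** -/
theorem two_of_a5 (hπ : Function.Surjective π) (hA : AbK π) (hne : π.ker ≠ ⊥) {p n : ℕ} (hp : p.Prime)
    (hcard : Nat.card π.ker = p ^ n) (hexp : ∀ m ∈ π.ker, m ^ p = 1) [IsSimpleGroup Q]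
    (hQ : Nat.card Q = 60) (hk : Nat.card (ConjClasses Q) = 5) {ψ₁ ψ₂ ψ₃ ψ₄ : IrrCharacter Q}
    (h12 : ψ₁ ≠ ψ₂) (h34 : ψ₃ ≠ ψ₄) {t f f' a b : Q} (ht : orderOf t = 3)
    (htc : Nat.card (Subgroup.centralizer ({t} : Set Q)) = 3) (hf : orderOf f = 5)
    (hfc : Nat.card (Subgroup.centralizer ({f} : Set Q)) = 5) (hf' : orderOf f' = 5)
    (hfc' : Nat.card (Subgroup.centralizer ({f'} : Set Q)) = 5)
    (hff : ConjClasses.mk f ≠ ConjClasses.mk f') (hz1 : ZeroOn ψ₁ (ConjClasses.mk t))
    (hz2 : ZeroOn ψ₂ (ConjClasses.mk t)) (hz4 : ZeroOn ψ₄ (ConjClasses.mk f))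
    (hz4' : ZeroOn ψ₄ (ConjClasses.mk f')) (ha : a * a = 1) (hb : b * b = 1)
    (hinv : ∀ q : Q, q = a ∨ q = b ∨ q = a * b → ZeroOn ψ₃ (ConjClasses.mk q) ∧ orderOf q = 2 ∧
      Nat.card (Subgroup.centralizer ({q} : Set Q)) = 4) : Two G := by
  classical
  by_contra hT
  have := finite_irr (G := G)
  have := Fintype.ofFinite (IrrCharacter G)
  have hQf : Finite Q := Finite.of_surjective π hπ
  have := Fintype.ofFinite (ConjClasses Q)
  have hn : n ≠ 0 := by
    rintro rfl
    rw [pow_zero, Subgroup.card_eq_one] at hcard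
    exact hne hcard
  obtain ⟨g3, hg3⟩ := hπ t
  obtain ⟨g5, hg5⟩ := hπ f
  obtain ⟨g5', hg5'⟩ := hπ f'
  obtain ⟨A, hA'⟩ := hπ a
  obtain ⟨B, hB'⟩ := hπ b
  have m1t : ConjClasses.mk (1 : Q) ≠ ConjClasses.mk t := mk_ne_of_order (by rw [orderOf_one, ht]; norm_num)
  have m1f : ConjClasses.mk (1 : Q) ≠ ConjClasses.mk f := mk_ne_of_order (by rw [orderOf_one, hf]; norm_num)
  have m1f' : ConjClasses.mk (1 : Q) ≠ ConjClasses.mk f' := mk_ne_of_order (by rw [orderOf_one, hf']; norm_num)
  have mtf : ConjClasses.mk t ≠ ConjClasses.mk f := mk_ne_of_order (by rw [ht, hf]; norm_num)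
  have mtf' : ConjClasses.mk t ≠ ConjClasses.mk f' := mk_ne_of_order (by rw [ht, hf']; norm_num)
  have m1q : ∀ q : Q, orderOf q = 2 → ConjClasses.mk (1 : Q) ≠ ConjClasses.mk q := fun q hq =>
    mk_ne_of_order (by rw [orderOf_one, hq]; norm_num)
  have mqt : ∀ q : Q, orderOf q = 2 → ConjClasses.mk q ≠ ConjClasses.mk t := fun q hq =>
    mk_ne_of_order (by rw [ht, hq]; norm_num)
  have mqf : ∀ q : Q, orderOf q = 2 → ConjClasses.mk q ≠ ConjClasses.mk f := fun q hq =>
    mk_ne_of_order (by rw [hf, hq]; norm_num)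
  have mqf' : ∀ q : Q, orderOf q = 2 → ConjClasses.mk q ≠ ConjClasses.mk f' := fun q hq =>
    mk_ne_of_order (by rw [hf', hq]; norm_num)
  have F1 : 2 ≤ fib π (ConjClasses.mk 1) := two_le_fib_one π hne
  -- elements of order three
  have F3 : fib π (ConjClasses.mk t) ≤ 2 := by
    by_contra h
    have h1 := sum_fib_le_zc π hπ ψ₁ {ConjClasses.mk t} fun q hq => hz1 q (Finset.mem_singleton.1 hq)
    have h2 := sum_fib_le_zc π hπ ψ₂ {ConjClasses.mk t} fun q hq => hz2 q (Finset.mem_singleton.1 hq)
    rw [Finset.sum_singleton] at h1 h2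
    exact hT (two_of_zc (inf_ne π hπ h12) (by omega) (by omega))
  have c3 : cN π g3 ≤ fib π (ConjClasses.mk t) := by
    have h1 := card_mul_le_fib π hπ hA g3
    rw [hg3, ht, htc] at h1
    omega
  have m3 : Nat.card π.ker ≡ cN π g3 [MOD 3] :=
    cN_modEq π hπ hA (r := 3) (k := 1) Nat.prime_three g3 (by rw [hg3, ht]; norm_num)
  have m5 : Nat.card π.ker ≡ cN π g5 [MOD 5] :=
    cN_modEq π hπ hA (r := 5) (k := 1) Nat.prime_five g5 (by rw [hg5, hf]; norm_num)
  have m5' : Nat.card π.ker ≡ cN π g5' [MOD 5] :=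
    cN_modEq π hπ hA (r := 5) (k := 1) Nat.prime_five g5' (by rw [hg5', hf']; norm_num)
  have c3pos := cN_pos π g3
  have c5 : cN π g5 ≤ fib π (ConjClasses.mk f) := by
    have h1 := card_mul_le_fib π hπ hA g5
    rw [hg5, hf, hfc] at h1
    omega
  have c5' : cN π g5' ≤ fib π (ConjClasses.mk f') := by
    have h1 := card_mul_le_fib π hπ hA g5'
    rw [hg5', hf', hfc'] at h1
    omega
  have p3 : p ≠ 3 := by
    rintro rfl
    have h1 : 3 ∣ cN π g3 := by
      rw [hcard] at m3
      exact (m3.dvd_iff (dvd_refl 3)).1 (dvd_pow_self 3 hn)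
    have := Nat.le_of_dvd c3pos h1
    omega
  -- the final contradiction for odd `p`
  have odd_final : p ≠ 2 → (∀ q : Q, q = a ∨ q = b ∨ q = a * b → ∀ g : G, π g = q → cN π g ≤ 4) → False := by
    intro hp2 hle
    have key : ∀ q : Q, q = a ∨ q = b ∨ q = a * b → ∀ g : G, π g = q → cN π g = 1 := by
      intro q hq g hg
      have h1 := cN_dvd_ker π g
      rw [hcard] at h1
      obtain ⟨j, -, hj⟩ := (Nat.dvd_prime_pow hp).1 h1
      have h2 := hle q hq g hg
      have h3 : 5 ≤ p := by
        have h4 := hp.two_le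
        by_contra h5
        have : p = 2 ∨ p = 3 ∨ p = 4 := by omega
        rcases this with h | h | h
        · exact hp2 h
        · exact p3 h
        · rw [h] at hp
          exact absurd hp (by norm_num)
      rcases Nat.eq_zero_or_pos j with h4 | h4
      · rw [hj, h4, pow_zero]
      · have h5 : p ^ 1 ≤ p ^ j := Nat.pow_le_pow_right hp.pos h4
        rw [pow_one, ← hj] at h5
        omega
    exact no_four π hA hne (by rw [hA']; exact ha) (by rw [hB']; exact hb) (key _ (Or.inl rfl) A hA')
      (key _ (Or.inr (Or.inl rfl)) B hB') (key _ (Or.inr (Or.inr rfl)) (A * B) (by rw [map_mul, hA', hB']))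
  have hker2 : p = 2 → ∀ m ∈ π.ker, m * m = 1 := by
    intro h2 m hm
    have h1 := hexp m hm
    rwa [h2, pow_two] at h1
  by_cases hI : fib π (ConjClasses.mk f) + fib π (ConjClasses.mk f') ≤ 2
  · -- Case I
    have f5pos := fib_pos π hπ (ConjClasses.mk f)
    have f5pos' := fib_pos π hπ (ConjClasses.mk f')
    have f5 : fib π (ConjClasses.mk f) = 1 := by omega
    have f5' : fib π (ConjClasses.mk f') = 1 := by omega
    have d5 : cN π g5 = 1 := by
      have := cN_pos π g5
      omega
    rw [d5] at m5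
    have f3 : fib π (ConjClasses.mk t) = 1 := by
      have h1 : cN π g3 = 1 := by
        by_contra h1
        have h2 : cN π g3 = 2 := by omega
        have h3 : 2 ∣ p ^ n := by
          rw [← hcard, ← h2]
          exact cN_dvd_ker π g3
        have h4 : p = 2 := ((Nat.prime_dvd_prime_iff_eq Nat.prime_two hp).1 (Nat.prime_two.dvd_of_dvd_pow h3)).symm
        rw [h2, hcard, h4] at m3
        rw [hcard, h4] at m5
        -- `2 ^ n ≡ 1 mod 5` implies `4 ∣ n`, then `2 ^ n ≡ 1 mod 3`
        obtain ⟨k, hk'⟩ : ∃ k, n = 4 * k + n % 4 := ⟨n / 4, by omega⟩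
        have h5 : n % 4 < 4 := Nat.mod_lt _ (by norm_num)
        rw [hk', pow_add, pow_mul] at m3 m5
        have h6 : (2 ^ 4) ^ k ≡ 1 [MOD 5] := by
          have : 2 ^ 4 ≡ 1 [MOD 5] := by decide
          simpa using this.pow k
        have h7 : (2 ^ 4) ^ k ≡ 1 [MOD 3] := by
          have : 2 ^ 4 ≡ 1 [MOD 3] := by decide
          simpa using this.pow k
        have h8 : 2 ^ (n % 4) ≡ 1 [MOD 5] := by
          have := (h6.mul_right (2 ^ (n % 4))).symm.trans m5
          simpa using this
        have h9 : 2 ^ (n % 4) ≡ 2 [MOD 3] := by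
          have := (h7.mul_right (2 ^ (n % 4))).symm.trans m3
          simpa using this
        exact aux_mod h5 h8 h9
      have h2 := one_of_cN π hπ h1
      have h3 := (fib_eq_one_iff π hπ g3).2 h2
      rwa [hg3] at h3
    have hz : ∀ χ : IrrCharacter G, Faith π χ → 3 ≤ zc χ := by
      intro χ hχ
      refine le_trans ?_ (faith_zc π hπ hχ {ConjClasses.mk t, ConjClasses.mk f, ConjClasses.mk f'} ?_)
      · rw [Finset.card_eq_three.2 ⟨_, _, _, mtf, mtf', hff, rfl⟩]
      · intro y hy
        simp only [Finset.mem_insert, Finset.mem_singleton] at hy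
        rcases hy with rfl | rfl | rfl <;> assumption
    have h1 : Nat.card {χ : IrrCharacter G // Faith π χ} ≤ 1 := by
      by_contra h
      have h2 : 1 < Nat.card {χ : IrrCharacter G // Faith π χ} := by omega
      rw [Finite.one_lt_card_iff_nontrivial] at h2
      obtain ⟨x, y, hxy⟩ := h2
      exact hT (two_of_zc (fun h => hxy (Subtype.ext h)) (hz _ x.2) (hz _ y.2))
    have h2 := card_faith π hπ
    rw [hk] at h2
    have f2 : ∀ q : Q, orderOf q = 2 → fib π (ConjClasses.mk q) = 1 := by
      intro q hq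
      have h3 := card_classes_ge π hπ {ConjClasses.mk 1, ConjClasses.mk q}
      rw [Finset.sum_pair (m1q q hq), Finset.card_pair (m1q q hq), hk] at h3
      have h4 := fib_pos π hπ (ConjClasses.mk q)
      omega
    have c2 : ∀ q : Q, q = a ∨ q = b ∨ q = a * b → ∀ g : G, π g = q → cN π g ≤ 2 := by
      intro q hq g hg
      obtain ⟨-, h3, h4⟩ := hinv q hq
      have h5 := card_mul_le_fib π hπ hA g
      rw [hg, h3, h4, f2 q h3] at h5
      omega
    by_cases hp2 : p = 2
    · have h3 := card_ker_le_sq π hA (hker2 hp2) (g := A) (by rw [hA']; exact ha)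
      have h4 := c2 a (Or.inl rfl) A hA'
      have h5 : Nat.card π.ker ≤ 4 := h3.trans (by nlinarith only [h4])
      have h6 : 2 ≤ Nat.card π.ker := by
        rw [hcard, hp2]
        calc 2 = 2 ^ 1 := by norm_num
          _ ≤ 2 ^ n := Nat.pow_le_pow_right (by norm_num) (by omega)
      simp only [Nat.ModEq] at m5
      interval_cases (Nat.card π.ker) <;> omega
    · exact odd_final hp2 fun q hq g hg => (c2 q hq g hg).trans (by norm_num)
  · -- Case II
    have z4 : 3 ≤ zc (inf π hπ ψ₄) := by
      have h1 := sum_fib_le_zc π hπ ψ₄ {ConjClasses.mk f, ConjClasses.mk f'} fun q hq => by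
        rcases Finset.mem_insert.1 hq with h | h
        · exact hz4 q h
        · exact hz4' q (Finset.mem_singleton.1 h)
      rw [Finset.sum_pair hff] at h1
      omega
    have f2 : ∀ q : Q, q = a ∨ q = b ∨ q = a * b → fib π (ConjClasses.mk q) ≤ 2 := by
      intro q hq
      have h1 := sum_fib_le_zc π hπ ψ₃ {ConjClasses.mk q} fun x hx => (hinv q hq).1 x (Finset.mem_singleton.1 hx)
      rw [Finset.sum_singleton] at h1
      exact h1.trans (zc_le_of hT (inf_ne π hπ h34.symm) z4)
    have c2 : ∀ q : Q, q = a ∨ q = b ∨ q = a * b → ∀ g : G, π g = q → cN π g ≤ 4 := by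
      intro q hq g hg
      obtain ⟨-, h3, h4⟩ := hinv q hq
      have h5 := card_mul_le_fib π hπ hA g
      rw [hg, h3, h4] at h5
      have := f2 q hq
      omega
    by_cases hp2 : p = 2
    swap
    · exact odd_final hp2 c2
    subst hp2
    have h3 := card_ker_le_sq π hA (hker2 rfl) (g := A) (by rw [hA']; exact ha)
    have h4 := c2 a (Or.inl rfl) A hA'
    have h5 : 2 ^ n ≤ 2 ^ 4 := by
      rw [← hcard]
      exact h3.trans (by nlinarith only [h4])
    have hn4 : n ≤ 4 := (Nat.pow_le_pow_iff_right (by norm_num)).1 h5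
    -- no element outside the kernel centralizes the kernel, unless `n = 1`
    have full : ∀ g : G, π g ≠ 1 → cN π g = Nat.card π.ker → n = 1 := by
      intro g hg hc
      have h6 := cN_eq_card_of_simple π hπ hA hg hc g3
      rw [hcard] at h6
      have h7 : 2 ^ n ≤ 2 ^ 1 := by
        rw [← h6]
        omega
      have := (Nat.pow_le_pow_iff_right (by norm_num)).1 h7
      omega
    have hf1 : π g5 ≠ 1 := by
      intro h
      rw [hg5] at h
      rw [h, orderOf_one] at hf
      omega
    have hf1' : π g5' ≠ 1 := by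
      intro h
      rw [hg5'] at h
      rw [h, orderOf_one] at hf'
      omega
    have div5 : ∃ j ≤ n, cN π g5 = 2 ^ j := by
      have h1 := cN_dvd_ker π g5
      rw [hcard] at h1
      exact (Nat.dvd_prime_pow Nat.prime_two).1 h1
    have div5' : ∃ j ≤ n, cN π g5' = 2 ^ j := by
      have h1 := cN_dvd_ker π g5'
      rw [hcard] at h1
      exact (Nat.dvd_prime_pow Nat.prime_two).1 h1
    obtain ⟨j, hj, hj'⟩ := div5
    obtain ⟨i, hi, hi'⟩ := div5'
    have hn1 : n = 1 := by
      by_contra hn1
      have hnj : j ≠ n := fun h => hn1 (full g5 hf1 (by rw [hj', h, hcard]))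
      have hni : i ≠ n := fun h => hn1 (full g5' hf1' (by rw [hi', h, hcard]))
      rw [hcard, hj'] at m5
      rw [hcard, hi'] at m5'
      have h6 : j = 0 ∧ i = 0 := ⟨aux_five (by omega) hn4 hj hnj m5, aux_five (by omega) hn4 hi hni m5'⟩
      have h7 : fib π (ConjClasses.mk f) = 1 := by
        have h8 := (fib_eq_one_iff π hπ g5).2 (one_of_cN π hπ (by rw [hj', h6.1, pow_zero]))
        rwa [hg5] at h8
      have h8 : fib π (ConjClasses.mk f') = 1 := by
        have h8 := (fib_eq_one_iff π hπ g5').2 (one_of_cN π hπ (by rw [hi', h6.2, pow_zero]))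
        rwa [hg5'] at h8
      omega
    subst hn1
    rw [pow_one] at hcard
    -- `|N| = 2`
    have u1 := fib_le_card π hπ (ConjClasses.mk 1)
    have u3 := fib_le_card π hπ (ConjClasses.mk t)
    have u5 := fib_le_card π hπ (ConjClasses.mk f)
    have u5' := fib_le_card π hπ (ConjClasses.mk f')
    have ua := fib_le_card π hπ (ConjClasses.mk a)
    have ua' := fib_pos π hπ (ConjClasses.mk a)
    rw [hcard] at u1 u3 u5 u5' ua m3 m5 m5'
    have oa : orderOf a = 2 := (hinv a (Or.inl rfl)).2.1
    have v3 : fib π (ConjClasses.mk t) = 2 := by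
      simp only [Nat.ModEq] at m3
      omega
    have w5 : cN π g5 = 2 := by
      simp only [Nat.ModEq] at m5
      interval_cases j
      · rw [hj'] at m5
        omega
      · exact hj'
    have w5' : cN π g5' = 2 := by
      simp only [Nat.ModEq] at m5'
      interval_cases i
      · rw [hi'] at m5'
        omega
      · exact hi'
    have hcl : Nat.card (ConjClasses G) = 8 + fib π (ConjClasses.mk a) := by
      rw [card_classes_eq_sum π]
      have h6 : (Finset.univ : Finset (ConjClasses Q)) =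
          {ConjClasses.mk 1, ConjClasses.mk a, ConjClasses.mk t, ConjClasses.mk f, ConjClasses.mk f'} := by
        symm
        apply Finset.eq_univ_of_card
        rw [← Nat.card_eq_fintype_card, hk]
        rw [Finset.card_insert_of_notMem, Finset.card_insert_of_notMem, Finset.card_insert_of_notMem,
          Finset.card_pair hff]
        · simp only [Finset.mem_insert, Finset.mem_singleton, not_or]
          exact ⟨mtf, mtf'⟩
        · simp only [Finset.mem_insert, Finset.mem_singleton, not_or]
          exact ⟨mqt a oa, mqf a oa, mqf' a oa⟩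
        · simp only [Finset.mem_insert, Finset.mem_singleton, not_or]
          exact ⟨m1q a oa, m1t, m1f, m1f'⟩
      rw [h6, Finset.sum_insert, Finset.sum_insert, Finset.sum_insert, Finset.sum_pair hff]
      · omega
      · simp only [Finset.mem_insert, Finset.mem_singleton, not_or]
        exact ⟨mtf, mtf'⟩
      · simp only [Finset.mem_insert, Finset.mem_singleton, not_or]
        exact ⟨mqt a oa, mqf a oa, mqf' a oa⟩
      · simp only [Finset.mem_insert, Finset.mem_singleton, not_or]
        exact ⟨m1q a oa, m1t, m1f, m1f'⟩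
    have hcG : Nat.card G = 120 := by rw [card_eq_ker_mul π hπ, hcard, hQ]
    have hfa := card_faith π hπ
    rw [hk, hcl] at hfa
    have hsum := sum_faith π hπ
    rw [hQ, hcG] at hsum
    set S : Finset (IrrCharacter G) := Finset.univ.filter fun χ : IrrCharacter G => Faith π χ with hS
    have hsum' : ∑ χ ∈ S, charDegree (χ : G → ℂ) ^ 2 = 60 := by omega
    have hcS : S.card = Nat.card {χ : IrrCharacter G // Faith π χ} := by
      rw [Nat.card_eq_fintype_card, Fintype.card_subtype]
    -- zeros of a faithful character of degree divisible by `r`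
    have hzero : ∀ (r : ℕ), r.Prime → ¬ r ^ 2 ∣ 120 → ∀ χ ∈ S, r ∣ charDegree (χ : G → ℂ) →
        ∀ g : G, r ∣ orderOf (π g) → (χ : G → ℂ) g = 0 := by
      intro r hr hr2 χ _ hd g hg
      exact Cfsg.Agent.H377.TwoConv.eq_zero_of_dz (a := 1) hr (by rwa [pow_one]) (by rw [hcG]; exact hr2)
        (hg.trans (orderOf_map_dvd π g))
    have ord_of : ∀ (g : G) (q : Q), ConjClasses.mk (π g) = ConjClasses.mk q → orderOf (π g) = orderOf q := by
      intro g q h
      by_contra hne'
      exact mk_ne_of_order hne' h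
    have h2a : fib π (ConjClasses.mk a) = 1 ∨ fib π (ConjClasses.mk a) = 2 := by (clear * - ua ua'; omega)
    rcases h2a with h2a | h2a
    · obtain ⟨χ, hχ, hd⟩ := exists_three S (fun χ => charDegree (χ : G → ℂ)) (by omega) hsum'
      have hχF : Faith π χ := (Finset.mem_filter.1 hχ).2
      refine hT (two_of_zc (faith_ne_inf π hπ hχF ψ₄) ?_ z4)
      have h6 := sum_fib_le_zc' π χ {ConjClasses.mk a, ConjClasses.mk t} fun g hg => by
        rcases Finset.mem_insert.1 hg with h | h
        · exact zero_of_fib_one π hπ hχF h2a h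
        · have h7 := ord_of g t (Finset.mem_singleton.1 h)
          exact hzero 3 Nat.prime_three (by norm_num) χ hχ hd g (by rw [h7, ht])
      rw [Finset.sum_pair (mqt a oa)] at h6
      omega
    · obtain ⟨χ, hχ, hd⟩ := exists_five S (fun χ => charDegree (χ : G → ℂ)) (by omega) hsum'
      have hχF : Faith π χ := (Finset.mem_filter.1 hχ).2
      refine hT (two_of_zc (faith_ne_inf π hπ hχF ψ₄) ?_ z4)
      have h6 := sum_fib_le_zc' π χ {ConjClasses.mk f, ConjClasses.mk f'} fun g hg => by
        rcases Finset.mem_insert.1 hg with h | h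
        · have h7 := ord_of g f h
          exact hzero 5 Nat.prime_five (by norm_num) χ hχ hd g (by rw [h7, hf])
        · have h7 := ord_of g f' (Finset.mem_singleton.1 h)
          exact hzero 5 Nat.prime_five (by norm_num) χ hχ hd g (by rw [h7, hf'])
      rw [Finset.sum_pair hff] at h6
      omega

end Cfsg.Agent.H504.TwoZ

private theorem dce_3d23fbb4874d : _root_.True := by
  try have : _root_.True := by simp only [_root_.Cfsg.Agent.H504.TwoZ.inf.congr_simp]
  exact _root_.True.intro
end

-- part: H504/TwoMain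
section
prune_inst 0x420002c04310000000018001020001c4292000002004b0001000001020480cc4120030621ba700212011480644038804002000009401800002a008200411800800401e0e20200b00851000140c804000400000000000000000000000000000000000000000
set_option linter.all false
open scoped Cfsg.Agent.FastGrp

/-!
# S4897: the induction
-/

set_option autoImplicit false
set_option linter.unusedSectionVars false

namespace Cfsg.Agent.H504.TwoZ

open Cfsg Cfsg.Agent.Characters.Core Cfsg.Agent.H504.ZeroTI Cfsg.Agent.H504.Zeros
open Cfsg.Agent.H671.H5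

universe u

/-- abelian (elementary) normal subgroups with quotient `Q` -/
def AbCase (Q : Type) [Group Q] : Prop :=
  ∀ (G : Type) [Group G] [Finite G] (π : G →* Q), Function.Surjective π → AbK π → π.ker ≠ ⊥ →
    ∀ p n : ℕ, p.Prime → Nat.card π.ker = p ^ n → (∀ m ∈ π.ker, m ^ p = 1) → Two G

theorem AbCase.of_equiv {Q R : Type} [Group Q] [Group R] (e : Q ≃* R) (h : AbCase R) : AbCase Q := by
  intro G _ _ π hπ hA hne p n hp hc hx
  have hk : (e.toMonoidHom.comp π).ker = π.ker := by
    ext x
    rw [MonoidHom.mem_ker, MonoidHom.mem_ker]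
    exact map_eq_one_iff e e.injective
  refine h G (e.toMonoidHom.comp π) (e.surjective.comp hπ) ?_ (by rwa [hk]) p n hp (by rwa [hk]) (by rwa [hk])
  unfold AbK
  rw [hk]
  exact hA

/-- an abelian minimal normal subgroup is elementary abelian -/
theorem exists_elementary {G : Type u} [Group G] [Finite G] {K : Subgroup G} (hK : K.Normal) (hne : K ≠ ⊥)
    (hmin : ∀ L : Subgroup G, L.Normal → L ≤ K → L = ⊥ ∨ L = K) (hab : ∀ a ∈ K, ∀ b ∈ K, a * b = b * a) :
    ∃ p n : ℕ, p.Prime ∧ Nat.card K = p ^ n ∧ ∀ m ∈ K, m ^ p = 1 := by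
  have h1 : Nat.card K ≠ 1 := fun h => hne (Subgroup.card_eq_one.1 h)
  obtain ⟨p, hp, hpd⟩ := Nat.exists_prime_and_dvd h1
  have : Fact p.Prime := ⟨hp⟩
  let L : Subgroup G :=
    { carrier := {x | x ∈ K ∧ x ^ p = 1}
      one_mem' := ⟨K.one_mem, one_pow p⟩
      mul_mem' := by
        rintro a b ⟨ha, ha'⟩ ⟨hb, hb'⟩
        refine ⟨K.mul_mem ha hb, ?_⟩
        rw [(show Commute a b from hab a ha b hb).mul_pow, ha', hb', one_mul]
      inv_mem' := by
        rintro a ⟨ha, ha'⟩
        exact ⟨K.inv_mem ha, by rw [inv_pow, ha', inv_one]⟩ }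
  have hL : L.Normal := by
    refine ⟨?_⟩
    rintro a ⟨ha, ha'⟩ g
    refine ⟨hK.conj_mem a ha g, ?_⟩
    rw [conj_pow, ha']
    group
  have hLK : L ≤ K := fun x hx => hx.1
  have hLne : L ≠ ⊥ := by
    obtain ⟨x, hx⟩ := exists_prime_orderOf_dvd_card' p hpd
    intro h
    have h2 : (x : G) ∈ L := ⟨x.2, by
      rw [← Subgroup.coe_pow, ← hx, pow_orderOf_eq_one]
      rfl⟩
    rw [h, Subgroup.mem_bot] at h2
    have h3 : x = 1 := Subtype.ext h2
    rw [h3, orderOf_one] at hx
    exact hp.one_lt.ne hx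
  have hLe : L = K := (hmin L hL hLK).resolve_left hLne
  have hexp : ∀ m ∈ K, m ^ p = 1 := fun m hm => by
    rw [← hLe] at hm
    exact hm.2
  have hP : IsPGroup p K := fun x => ⟨1, by
    rw [pow_one]
    exact Subtype.ext (hexp x x.2)⟩
  obtain ⟨n, hn⟩ := IsPGroup.iff_card.1 hP
  exact ⟨p, n, hp, hn, hexp⟩

theorem isMulCommutative_of_forall {G : Type u} [Group G] {K : Subgroup G} (h : IsMulCommutative K) :
    ∀ a ∈ K, ∀ b ∈ K, a * b = b * a := fun a ha b hb =>
  congrArg Subtype.val (h.1.1 (⟨a, ha⟩ : K) ⟨b, hb⟩)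

section main

variable (hF : FactExt.{0})
  (hOut : ∀ (S : Type) [Group S] [Finite S] [IsSimpleGroup S], Group.IsSolvable (Cfsg.Out S))
  (hRow : ∀ (S : Type) [Group S] [Finite S] [IsSimpleGroup S], ¬ IsMulCommutative S → RowT S)
  (hAb : ∀ (Q : Type) [Group Q], Four Q → AbCase Q)

include hF hOut in
/-- non-abelian minimal normal subgroups with non-solvable quotient -/
theorem two_of_nonab {G : Type} [Group G] [Finite G] {K : Subgroup G} (hK : K.Normal) (hne : K ≠ ⊥)
    (hmin : ∀ L : Subgroup G, L.Normal → L ≤ K → L = ⊥ ∨ L = K) (hna : ¬ IsMulCommutative K)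
    (hQ : ¬ Group.IsSolvable (G ⧸ K)) : Two G := by
  obtain ⟨S, iS, iS', k, hk, hSna, ⟨e⟩⟩ := Cfsg.Agent.H671.Frame.minNormal_pi hK hne hmin hna
  have hKt : K ≠ ⊤ := by
    rintro rfl
    apply hQ
    have : Subsingleton (G ⧸ (⊤ : Subgroup G)) := QuotientGroup.subsingleton_quotient_top
    infer_instance
  have hfin : Finite S := by
    have : Finite (Fin k → S) := Finite.of_equiv _ e.toEquiv
    have h0 : Fin k := ⟨0, hk⟩
    exact Finite.of_surjective (fun f : Fin k → S => f h0) fun s => ⟨fun _ => s, rfl⟩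
  obtain ⟨θ, hθ1, hθ⟩ := hF S hSna
  rcases Nat.lt_or_ge k 2 with h2 | h2
  · have h1 : k = 1 := by omega
    subst h1
    have e' : K ≃* S := e.trans (MulEquiv.funUnique (Fin 1) S)
    exact two_of_simple K hQ hSna (hOut S) e' hθ1 hθ
  · exact two_of_pi K hKt hSna h2 e hθ1 hθ

include hF hOut hRow hAb in
/-- **S4897, the induction** -/
theorem two_or_four (n : ℕ) : ∀ (G : Type) [Group G] [Finite G], Nat.card G = n → ¬ Group.IsSolvable G →
    Two G ∨ Four G := by
  induction n using Nat.strong_induction_on with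
  | _ n ih =>
  intro G _ _ hn hG
  have hsub : ∀ N : Subgroup G, N = ⊤ → ∀ [N.Normal], Group.IsSolvable (G ⧸ N) := by
    rintro N rfl _
    have : Subsingleton (G ⧸ (⊤ : Subgroup G)) := QuotientGroup.subsingleton_quotient_top
    infer_instance
  by_cases h : ∃ (N : Subgroup G) (_ : N.Normal), N ≠ ⊥ ∧ ¬ Group.IsSolvable (G ⧸ N)
  · obtain ⟨N, hN, hN1, hNs⟩ := h
    obtain ⟨K, hK, hKN, hK1, hmin⟩ := Cfsg.Agent.H671.Frame.exists_minNormal hN hN1
    have hKs : ¬ Group.IsSolvable (G ⧸ K) := by
      intro hs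
      apply hNs
      have hsurj : Function.Surjective (QuotientGroup.map K N (MonoidHom.id G) hKN) := by
        intro q
        obtain ⟨g, rfl⟩ := QuotientGroup.mk_surjective q
        exact ⟨(g : G ⧸ K), rfl⟩
      exact Group.isSolvable_of_surjective (f := QuotientGroup.map K N (MonoidHom.id G) hKN) hsurj
    have hlt : Nat.card (G ⧸ K) < n := by
      rw [← hn, Subgroup.card_eq_card_quotient_mul_card_subgroup K]
      have h1 : 1 < Nat.card K := by
        rw [Subgroup.one_lt_card_iff_ne_bot]
        exact hK1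
      have h2 : 0 < Nat.card (G ⧸ K) := Nat.card_pos
      exact lt_mul_of_one_lt_right h2 h1
    rcases ih _ hlt (G ⧸ K) rfl hKs with h2 | h4
    · exact Or.inl (Two.of_quotient K h2)
    · left
      by_cases hab : IsMulCommutative K
      · have hab' := isMulCommutative_of_forall hab
        obtain ⟨p, m, hp, hc, hx⟩ := exists_elementary hK hK1 hmin hab'
        have hk : (QuotientGroup.mk' K).ker = K := QuotientGroup.ker_mk' K
        refine hAb (G ⧸ K) h4 G (QuotientGroup.mk' K) (QuotientGroup.mk'_surjective K) ?_ ?_ p m hp ?_ ?_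
        · unfold AbK
          rw [hk]
          exact hab'
        · rwa [hk]
        · rwa [hk]
        · rwa [hk]
      · exact two_of_nonab hF hOut hK hK1 hmin hab hKs
  · push Not at h
    have htb : (⊤ : Subgroup G) ≠ ⊥ := by
      intro h1
      apply hG
      have : Subsingleton G := by
        rw [← Subgroup.subsingleton_iff]
        exact ⟨fun a b => by
          have ha : a = ⊥ := by rw [eq_bot_iff, ← h1]; exact le_top
          have hb : b = ⊥ := by rw [eq_bot_iff, ← h1]; exact le_top
          rw [ha, hb]⟩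
      infer_instance
    obtain ⟨N, hN, -, hN1, hmin⟩ := Cfsg.Agent.H671.Frame.exists_minNormal (inferInstance : (⊤ : Subgroup G).Normal) htb
    have hQ := h N hN hN1
    have hNs : ¬ Group.IsSolvable N := by
      intro hs
      apply hG
      exact Group.isSolvable_of_ker_le_range N.subtype (QuotientGroup.mk' N) (by simp)
    have hna : ¬ IsMulCommutative N := by
      intro hc
      apply hNs
      let _ : CommGroup N := { (inferInstance : Group N) with mul_comm := fun a b => hc.1.1 a b }
      infer_instance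
    obtain ⟨S, iS, iS', k, hk, hSna, ⟨e⟩⟩ := Cfsg.Agent.H671.Frame.minNormal_pi hN hN1 hmin hna
    have h0 : Fin k := ⟨0, hk⟩
    have hfin : Finite S := by
      have : Finite (Fin k → S) := Finite.of_equiv _ e.toEquiv
      exact Finite.of_surjective (fun f : Fin k → S => f h0) fun s => ⟨fun _ => s, rfl⟩
    rcases Nat.lt_or_ge k 2 with h2 | h2
    · have h1 : k = 1 := by omega
      subst h1
      have e' : N ≃* S := e.trans (MulEquiv.funUnique (Fin 1) S)
      have hrow := hRow S hSna
      by_cases hNt : N = ⊤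
      · subst hNt
        have e2 : G ≃* S := (Subgroup.topEquiv (G := G)).symm.trans e'
        rcases hrow.1 with h3 | h3
        · exact Or.inl (h3.of_equiv e2)
        · exact Or.inr (h3.of_equiv e2)
      · refine hrow.2 G N ⟨e'⟩ ?_ hQ hNt
        by_contra hC
        have hCs := h (Subgroup.centralizer (N : Set G)) inferInstance hC
        apply hNs
        let f : N →* G ⧸ Subgroup.centralizer (N : Set G) := (QuotientGroup.mk' _).comp N.subtype
        have hf : Function.Injective f := by
          rw [injective_iff_map_eq_one]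
          intro x hx
          have h3 : (x : G) ∈ Subgroup.centralizer (N : Set G) := (QuotientGroup.eq_one_iff _).1 hx
          have h4 : e' x ∈ Subgroup.center S := by
            rw [Subgroup.mem_center_iff]
            intro s
            apply e'.symm.injective
            rw [map_mul, map_mul, MulEquiv.symm_apply_apply]
            exact Subtype.ext (Subgroup.mem_centralizer_iff.1 h3 _ (e'.symm s).2)
          have h5 : Subgroup.center S = ⊥ := by
            rcases (inferInstance : (Subgroup.center S).Normal).eq_bot_or_eq_top with h | h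
            · exact h
            · exfalso
              apply hSna
              refine ⟨⟨fun a b => ?_⟩⟩
              have : b ∈ Subgroup.center S := h ▸ Subgroup.mem_top b
              exact Subgroup.mem_center_iff.1 this a
          rw [h5, Subgroup.mem_bot, map_eq_one_iff e' e'.injective] at h4
          exact h4
        exact Group.isSolvable_of_isSolvable_injective hf
    · left
      obtain ⟨θ, hθ1, hθ⟩ := hF S hSna
      refine two_of_pi N ?_ hSna h2 e hθ1 hθ
      rintro rfl
      -- `G = S ^ k` is simple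
      let ev : G →* S := (Pi.evalMonoidHom (fun _ : Fin k => S) h0).comp
        (e.toMonoidHom.comp (Subgroup.topEquiv (G := G)).symm.toMonoidHom)
      have hsurj : Function.Surjective ev := by
        intro s
        refine ⟨(e.symm (fun _ => s) : (⊤ : Subgroup G)), ?_⟩
        show e ((Subgroup.topEquiv (G := G)).symm ((e.symm (fun _ => s) : (⊤ : Subgroup G)) : G)) h0 = s
        have h3 : (Subgroup.topEquiv (G := G)).symm ((e.symm (fun _ => s) : (⊤ : Subgroup G)) : G) =
            e.symm (fun _ => s) := rfl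
        rw [h3, MulEquiv.apply_symm_apply]
      rcases hmin ev.ker inferInstance le_top with h3 | h3
      · have hinj : Function.Injective ev := (MonoidHom.ker_eq_bot_iff ev).1 h3
        have hcard : Nat.card G = Nat.card S := Nat.card_congr (Equiv.ofBijective ev ⟨hinj, hsurj⟩)
        have hcard2 : Nat.card G = Nat.card S ^ k := by
          rw [Nat.card_congr ((Subgroup.topEquiv (G := G)).symm.trans e).toEquiv, Nat.card_fun]
          simp
        have hS1 : 1 < Nat.card S := by
          rw [Finite.one_lt_card_iff_nontrivial]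
          infer_instance
        have h4 : Nat.card S ^ 1 < Nat.card S ^ k := Nat.pow_lt_pow_right hS1 (by omega)
        rw [pow_one, ← hcard2, ← hcard] at h4
        exact lt_irrefl _ h4
      · obtain ⟨s, hs⟩ := exists_ne (1 : S)
        obtain ⟨g, hg⟩ := hsurj s
        have h4 : g ∈ ev.ker := by rw [h3]; exact Subgroup.mem_top g
        rw [MonoidHom.mem_ker, hg] at h4
        exact hs h4

end main

/-- transfer of the condition of S4897 -/
theorem AtMost.of_equiv {G H : Type*} [Group G] [Group H] (e : G ≃* H) (h : AtMost H) : AtMost G := by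
  obtain ⟨φ, hφ⟩ := h
  refine ⟨irrEquiv e φ, fun χ h1 h2 => ?_⟩
  have h3 := hφ ((irrEquiv e).symm χ) (by
    have h4 := charDegree_comp e.symm (χ : G → ℂ)
    show charDegree ((χ : G → ℂ) ∘ e.symm) ≠ 1
    rwa [h4]) (by
    intro h4
    apply h2
    rw [← h4, Equiv.apply_symm_apply])
  refine le_trans (le_of_eq ?_) h3
  refine Nat.card_congr (Equiv.subtypeEquiv (ccEquiv e) fun c => ?_)
  show (∀ g : G, ConjClasses.mk g = c → (χ : G → ℂ) g = 0) ↔
      (∀ g : H, ConjClasses.mk g = ccEquiv e c → (χ : G → ℂ) (e.symm g) = 0)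
  constructor
  · intro h4 g hg
    apply h4
    apply (ccEquiv e).injective
    rw [ccEquiv_mk, e.apply_symm_apply, hg]
  · intro h4 g hg
    have := h4 (e g) (by rw [← ccEquiv_mk, hg])
    rwa [e.symm_apply_apply] at this

end Cfsg.Agent.H504.TwoZ
end

-- part: H504/TwoFourAlt
section
set_option linter.all false
open scoped Cfsg.Agent.FastGrp

/-!
# S4897: `AbCase` for `A₅`, `A₆`, `S₅`
-/

set_option autoImplicit false

namespace Cfsg.Agent.H504.TwoZ

open Cfsg Cfsg.Agent.Characters.Core Cfsg.Agent.H504.Zeros Equiv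

/-- the order of a centralizer in a decidable way -/
theorem card_cent_eq {X : Type*} [Group X] [Fintype X] [DecidableEq X] (x : X) :
    Nat.card (Subgroup.centralizer ({x} : Set X)) = (Finset.univ.filter fun g : X => g * x = x * g).card := by
  rw [← Fintype.card_subtype, ← Nat.card_eq_fintype_card]
  refine Nat.card_congr (Equiv.subtypeEquivRight fun g => ?_)
  rw [Subgroup.mem_centralizer_iff]
  constructor
  · intro h
    exact (h x (Set.mem_singleton x)).symm
  · intro h y hy
    rw [Set.mem_singleton_iff.1 hy]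
    exact h.symm

theorem zeroOn_of_order {X : Type*} [Group X] {ψ : IrrCharacter X} {n : ℕ}
    (h : ∀ g, orderOf g = n → (ψ : X → ℂ) g = 0) {x : X} (hx : orderOf x = n) : ZeroOn ψ (ConjClasses.mk x) := by
  intro q hq
  apply h
  obtain ⟨k, hk⟩ := isConj_iff.1 (ConjClasses.mk_eq_mk_iff_isConj.1 hq)
  rw [← hx, ← hk]
  exact ((MulAut.conj k).orderOf_eq q).symm

theorem mk_ne_of_not_conj {X : Type*} [Group X] {x y : X} (h : ¬ IsConj x y) :
    ConjClasses.mk x ≠ ConjClasses.mk y := fun h' => h (ConjClasses.mk_eq_mk_iff_isConj.1 h')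

theorem abCase_a6 : AbCase (alternatingGroup (Fin 6)) := by
  intro G _ _ π hπ hA hne p n hp hc hx
  obtain ⟨ψ₁₀, ψ₅, ψ₈, h1, h2, -, h10, h5, h82, h84⟩ := Cfsg.Agent.H377.TwoConv.a6_chars
  exact two_of_a6 π hπ hne h1 h2 h10 (c := ConjClasses.mk Cfsg.Agent.H377.TwoConv.f6)
    (d := ConjClasses.mk (Cfsg.Agent.H377.TwoConv.f6 ^ 2)) (e := ConjClasses.mk Cfsg.Agent.H442.ZerosSmall.t2)
    (f := ConjClasses.mk Cfsg.Agent.H377.TwoConv.f4)
    (mk_ne_of_not_conj Cfsg.Agent.H377.TwoConv.not_conj_f6)
    (mk_ne_of_order (by rw [Cfsg.Agent.H377.TwoConv.ord_t2, Cfsg.Agent.H377.TwoConv.ord_f4]; norm_num))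
    (mk_ne_of_order (by rw [Cfsg.Agent.H377.TwoConv.ord_t2, Cfsg.Agent.H377.TwoConv.ord_f6]; norm_num))
    (mk_ne_of_order (by rw [Cfsg.Agent.H377.TwoConv.ord_t2, Cfsg.Agent.H377.TwoConv.ord_f6']; norm_num))
    (zeroOn_of_order h5 Cfsg.Agent.H377.TwoConv.ord_f6) (zeroOn_of_order h5 Cfsg.Agent.H377.TwoConv.ord_f6')
    (zeroOn_of_order h82 Cfsg.Agent.H377.TwoConv.ord_t2) (zeroOn_of_order h84 Cfsg.Agent.H377.TwoConv.ord_f4)

/-! ### `A₅` -/

def u5 : alternatingGroup (Fin 5) := ⟨swap (0 : Fin 5) 2 * swap (1 : Fin 5) 3, Perm.mem_alternatingGroup.2 (by decide +kernel)⟩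

theorem abCase_a5 : AbCase (alternatingGroup (Fin 5)) := by
  intro G _ _ π hπ hA hne p n hp hc hx
  have hs : IsSimpleGroup (alternatingGroup (Fin 5)) := alternatingGroup.isSimpleGroup_five
  obtain ⟨ψ₁, ψ₂, ψ₃, ψ₄, h12, h13, h14, h23, h24, h34, z1, z2, z3, z4⟩ := Cfsg.Agent.H377.TwoConv.a5_chars
  have o5' : orderOf (Cfsg.Agent.H377.TwoConv.f5 ^ 2) = 5 := by
    have : Fact (Nat.Prime 5) := ⟨by norm_num⟩
    exact orderOf_eq_prime (by decide +kernel) (by decide +kernel)
  have ord2 : ∀ q : alternatingGroup (Fin 5), q = Cfsg.Agent.H377.TwoConv.t5 ∨ q = u5 ∨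
      q = Cfsg.Agent.H377.TwoConv.t5 * u5 → orderOf q = 2 ∧
        Nat.card (Subgroup.centralizer ({q} : Set (alternatingGroup (Fin 5)))) = 4 := by
    rintro q (rfl | rfl | rfl)
    · exact ⟨orderOf_eq_prime (by decide +kernel) (by decide +kernel), by rw [card_cent_eq]; decide +kernel⟩
    · exact ⟨orderOf_eq_prime (by decide +kernel) (by decide +kernel), by rw [card_cent_eq]; decide +kernel⟩
    · exact ⟨orderOf_eq_prime (by decide +kernel) (by decide +kernel), by rw [card_cent_eq]; decide +kernel⟩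
  have nc : ¬ IsConj Cfsg.Agent.H377.TwoConv.f5 (Cfsg.Agent.H377.TwoConv.f5 ^ 2) := by
    rw [isConj_iff]
    decide +kernel
  exact two_of_a5 π hπ hA hne hp hc hx Cfsg.Agent.H377.TwoConv.card_a5 Cfsg.Agent.H377.TwoConv.k_a5 h12 h34
    (t := Cfsg.Agent.H377.TwoConv.c5) (f := Cfsg.Agent.H377.TwoConv.f5) (f' := Cfsg.Agent.H377.TwoConv.f5 ^ 2)
    (a := Cfsg.Agent.H377.TwoConv.t5) (b := u5)
    Cfsg.Agent.H377.TwoConv.ord_c5 (by rw [card_cent_eq]; decide +kernel) Cfsg.Agent.H377.TwoConv.ord_f5
    (by rw [card_cent_eq]; decide +kernel) o5' (by rw [card_cent_eq]; decide +kernel)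
    (mk_ne_of_not_conj nc) (zeroOn_of_order z1 Cfsg.Agent.H377.TwoConv.ord_c5)
    (zeroOn_of_order z2 Cfsg.Agent.H377.TwoConv.ord_c5) (zeroOn_of_order z4 Cfsg.Agent.H377.TwoConv.ord_f5)
    (zeroOn_of_order z4 o5') (by decide +kernel) (by decide +kernel)
    fun q hq => ⟨zeroOn_of_order z3 (ord2 q hq).1, ord2 q hq⟩

/-! ### `S₅` -/

theorem abCase_s5 : AbCase (Perm (Fin 5)) := by
  intro G _ _ π hπ hA hne p n hp hc hx
  obtain ⟨ψ₄, ψ₆, h46, h6, z4, z2⟩ := Cfsg.Agent.H377.TwoConv.s5_chars
  have z2' : ∀ q : Perm (Fin 5), orderOf q = 2 → Perm.sign q = 1 → ZeroOn ψ₄ (ConjClasses.mk q) := by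
    intro q hq hs x hx
    obtain ⟨k, hk⟩ := isConj_iff.1 (ConjClasses.mk_eq_mk_iff_isConj.1 hx)
    apply z2
    · rw [← hq, ← hk]
      exact ((MulAut.conj k).orderOf_eq x).symm
    · rw [← hs, ← hk, Perm.sign_mul, Perm.sign_mul, Perm.sign_inv]
      rw [mul_comm (Perm.sign k), mul_assoc, Int.units_mul_self, mul_one]
  have ord2 : ∀ q : Perm (Fin 5), q = swap (0 : Fin 5) 1 * swap (2 : Fin 5) 3 ∨ q = swap (0 : Fin 5) 2 * swap (1 : Fin 5) 3 ∨
      q = (swap (0 : Fin 5) 1 * swap (2 : Fin 5) 3) * (swap (0 : Fin 5) 2 * swap (1 : Fin 5) 3) → orderOf q = 2 ∧ Perm.sign q = 1 ∧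
        Nat.card (Subgroup.centralizer ({q} : Set (Perm (Fin 5)))) = 8 := by
    rintro q (rfl | rfl | rfl)
    · exact ⟨orderOf_eq_prime (by decide +kernel) (by decide +kernel), by decide +kernel,
        by rw [card_cent_eq]; decide +kernel⟩
    · exact ⟨orderOf_eq_prime (by decide +kernel) (by decide +kernel), by decide +kernel,
        by rw [card_cent_eq]; decide +kernel⟩
    · exact ⟨orderOf_eq_prime (by decide +kernel) (by decide +kernel), by decide +kernel,
        by rw [card_cent_eq]; decide +kernel⟩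
  have o4 : orderOf (swap (0 : Fin 5) 1 * swap (1 : Fin 5) 2 * swap (2 : Fin 5) 3) = 4 :=
    orderOf_eq_prime_pow (p := 2) (n := 1) (by decide +kernel) (by decide +kernel)
  exact two_of_s5 π hπ hA hne hp hc h46 h6 (a := swap (0 : Fin 5) 1 * swap (2 : Fin 5) 3) (b := swap (0 : Fin 5) 2 * swap (1 : Fin 5) 3)
    (x := swap (0 : Fin 5) 1 * swap (1 : Fin 5) 2 * swap (2 : Fin 5) 3) (by decide +kernel) (by decide +kernel) o4
    (by rw [card_cent_eq]; decide +kernel) (zeroOn_of_order z4 o4)
    fun q hq => ⟨z2' q (ord2 q hq).1 (ord2 q hq).2.1, (ord2 q hq).1, 3, by rw [(ord2 q hq).2.2]; norm_num⟩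

end Cfsg.Agent.H504.TwoZ
end
end
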